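import Cfsg.Agent.Lib.Char.BSW.Norm

/-!
# The case of a four group centralizer
-/

set_option autoImplicit false
set_option linter.unusedSectionVars false
set_option linter.unusedVariables false
set_option linter.style.haveILetI false

namespace Cfsg.Agent.Char.BSW

open Cfsg
open scoped ComplexConjugate Classical

variable {G : Type*} [Group G] [Fintype G] {t s : G} {K : Subgroup G}

theorem two_arith : ∀ n ∈ ([5, 7, 9, 11, 13] : List ℤ),
    ∀ x ∈ ([1, 3, -3, 5, -5, 7, -7, 9, -9, 11, -11, 13, -13] : List ℤ),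
    ∀ y ∈ ([1, 3, -3, 5, -5, 7, -7, 9, -9, 11, -11, 13, -13] : List ℤ),
      8 * (x * y * (-1 - x - y)) ≠
        n * (x * y * (-1 - x - y) + y * (-1 - x - y) + x * (-1 - x - y) + x * y) := by
  decide +kernel

theorem two_bound {n : ℤ} (hn : 0 < n) {a b : ℤ} (ha : 3 ≤ a) (hb : 3 ≤ b)
    (e : 8 * (a * b * (a + b - 1)) =
      n * (a * b * (a + b - 1) - b * (a + b - 1) - a * (a + b - 1) + a * b)) : n ≤ 15 := by
  by_contra h
  push Not at h
  have key : 8 * (a * b * (a + b - 1)) <
      16 * (a * b * (a + b - 1) - b * (a + b - 1) - a * (a + b - 1) + a * b) := by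
    obtain ⟨a', rfl⟩ : ∃ a', a = 3 + a' := ⟨a - 3, by ring⟩
    obtain ⟨b', rfl⟩ : ∃ b', b = 3 + b' := ⟨b - 3, by ring⟩
    have hA : 0 ≤ a' := by omega
    have hB : 0 ≤ b' := by omega
    nlinarith [mul_nonneg hA hB, mul_nonneg (mul_nonneg hA hA) hB, mul_nonneg (mul_nonneg hA hB) hB,
      mul_nonneg hA hA, mul_nonneg hB hB]
  have hpos : 0 ≤ a * b * (a + b - 1) - b * (a + b - 1) - a * (a + b - 1) + a * b := by
    have h0 : 0 < a * b * (a + b - 1) := mul_pos (mul_pos (by omega) (by omega)) (by omega)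
    nlinarith
  nlinarith

theorem two_bound' {n : ℤ} (hn : 0 < n) {a b : ℤ} (ha : 1 ≤ a) (hb : 1 ≤ b)
    (e : 8 * (a * b * (a + b + 1)) =
      n * (a * b * (a + b + 1) + b * (a + b + 1) + a * (a + b + 1) - a * b)) : n ≤ 15 := by
  by_contra h
  push Not at h
  have h0 : 0 < a * b * (a + b + 1) := mul_pos (mul_pos (by omega) (by omega)) (by omega)
  have h1 : a * b * (a + b + 1) ≤
      a * b * (a + b + 1) + b * (a + b + 1) + a * (a + b + 1) - a * b := by
    nlinarith [mul_pos (show 0 < a by omega) (show 0 < b by omega)]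
  nlinarith

theorem index_three_or_fifteen (h : Ctx t s K) (hk : Nat.card K = 2) :
    (Subgroup.centralizer ({t} : Set G)).index = 3 ∨ (Subgroup.centralizer ({t} : Set G)).index = 15 := by
  set n := (Subgroup.centralizer ({t} : Set G)).index with hn
  obtain ⟨l, hl, hli, hlu⟩ := exists_eta h
  obtain ⟨hval, hcard, hmem⟩ := others_data (G := G) h hl
  rw [if_pos hli.symm] at hcard
  obtain ⟨A, B, C, hAB, hAC, hBC, hset⟩ := Finset.card_eq_three.1 (by omega : (others (G := G) l).card = 3)
  have huniv : (Finset.univ : Finset (↥K →* ℂˣ)) = {1, l} := by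
    refine (Finset.eq_univ_of_card _ ?_).symm
    rw [Finset.card_pair (Ne.symm hl), ← Nat.card_eq_fintype_card, card_dual h, hk]
  set T : ↥K := ⟨t, h.tK⟩ with hT
  have hT1 : T ≠ 1 := fun e => h.t_ne (congrArg Subtype.val e)
  have hlT : (l T : ℂ) = -1 := by
    have h0 := dual_sum h T
    rw [if_neg hT1, huniv, Finset.sum_pair (Ne.symm hl)] at h0
    simp only [MonoidHom.one_apply, Units.val_one] at h0
    linear_combination h0
  have hv : ∀ χ : IrrCharacter G, (χ : G → ℂ) t = (coef l χ : ℂ) := by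
    intro χ
    have h1 := char_on h χ T
    rw [if_neg hT1, huniv, Finset.sum_pair (Ne.symm hl), coef_one, hlT] at h1
    rw [show (χ : G → ℂ) t = (χ : G → ℂ) (T : G) from rfl, h1]
    push_cast
    ring
  have hdeg : ∀ χ : IrrCharacter G,
      (deg (χ : G → ℂ) : ℤ) = (mult χ (1 : ↥K →* ℂˣ) : ℤ) * 2 - coef l χ := by
    intro χ
    rw [mult_one_eq h χ, huniv, Finset.sum_pair (Ne.symm hl), coef_one, hk]
    simp
  have hone : ∀ χ ∈ others (G := G) l, coef l χ ≠ 0 ∧ χ ≠ oneC := fun χ hχ => (Finset.mem_filter.1 hχ).2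
  set x : IrrCharacter G → ℤ := fun χ => coef l χ * (deg (χ : G → ℂ) : ℤ) with hx
  have hpoint : ∀ χ ∈ others (G := G) l, x χ ∣ (n : ℤ) ∧ (x χ) % 2 = 1 ∧ x χ ≠ -1 := by
    intro χ hχ
    have hd := hdeg χ
    have hodd : Odd (deg (χ : G → ℂ)) := by
      rw [Nat.odd_iff]; rcases hval χ hχ with e | e <;> omega
    refine ⟨?_, ?_, ?_⟩
    · have h1 : deg (χ : G → ℂ) ∣ n := by
        have h2 := deg_dvd_card χ.2
        rw [h.card_eq, hk, ← hn] at h2
        exact (Nat.Coprime.pow_right 2 (Nat.coprime_two_right.2 hodd)).dvd_of_dvd_mul_right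
          (by simpa using h2)
      have h2 : ((deg (χ : G → ℂ) : ℤ)) ∣ (n : ℤ) := Int.natCast_dvd_natCast.2 h1
      rcases hval χ hχ with e | e <;> simp [hx, e, h2]
    · rw [Nat.odd_iff] at hodd
      rcases hval χ hχ with e | e <;> simp only [hx, e] <;> omega
    · intro e
      have hd1 : deg (χ : G → ℂ) = 1 := by
        rcases hval χ hχ with e' | e' <;> simp only [hx, e'] at e <;> omega
      have hc : coef l χ = -1 := by simp only [hx, hd1] at e; omega
      obtain ⟨f, hf⟩ := exists_hom_of_degree_one (irr_isCharacter χ.2) (by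
        rw [char_one_eq_deg (irr_isCharacter χ.2), hd1, Nat.cast_one])
      have hall : ∀ v : G, orderOf v = 2 → (χ : G → ℂ) v = -1 := by
        intro v hv'
        obtain ⟨w, rfl⟩ := isConj_iff.1 (h.isConj_iff_order.2 hv')
        rw [isClassFunction_character (irr_isCharacter χ.2) t w, hv, hc]
        simp
      have hts : orderOf (s * t) = 2 := h.out_order (mul_mem h.sH (h.kle h.tK)) (h.sK_not_mem h.tK)
      have h1 := hall _ hts
      have h2 := hall _ h.t2
      have h3 := hall _ h.s2
      rw [hf] at h1 h2 h3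
      simp only [map_mul, Units.val_mul] at h1 h2 h3
      rw [h2, h3] at h1
      norm_num at h1
  have hsplit : ∀ F : IrrCharacter G → ℂ, ∑ χ, (coef l χ : ℂ) * F χ =
      F oneC + ((coef l A : ℂ) * F A + ((coef l B : ℂ) * F B + (coef l C : ℂ) * F C)) := by
    intro F
    have h1 : ∑ χ : IrrCharacter G, (coef l χ : ℂ) * F χ =
        ∑ χ ∈ insert oneC (others (G := G) l), (coef l χ : ℂ) * F χ := by
      refine (Finset.sum_subset (Finset.subset_univ _) fun χ _ hχ => ?_).symm
      simp only [Finset.mem_insert, not_or] at hχ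
      by_contra h0
      have : coef l χ ≠ 0 := fun e => h0 (by simp [e])
      exact (hmem χ this).elim hχ.1 hχ.2
    rw [h1, Finset.sum_insert (fun e => (hone _ e).2 rfl), hset, Finset.sum_insert (by simp [hAB, hAC]),
      Finset.sum_pair hBC, coef_trivial hl]
    simp
  have hsum : x A + x B + x C = -1 := by
    have h1 := coef_degree (G := G) l
    have h2 := congrArg (fun v : ℤ => (v : ℂ)) h1
    push_cast at h2
    rw [hsplit (fun χ => (deg (χ : G → ℂ) : ℂ)), deg_oneC] at h2
    have h3 : ((x A + x B + x C : ℤ) : ℂ) = ((-1 : ℤ) : ℂ) := by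
      simp only [hx]; push_cast at h2 ⊢; linear_combination h2
    exact_mod_cast h3
  have hA := hpoint A (by simp [hset])
  have hB := hpoint B (by simp [hset])
  have hC := hpoint C (by simp [hset])
  have hEq : 8 * (x A * x B * x C) =
      (n : ℤ) * (x A * x B * x C + x B * x C + x A * x C + x A * x B) := by
    have h1 := basic_equation h hl
    rw [hsplit (wgt t), ← hn, hk] at h1
    have hterm : ∀ χ ∈ others (G := G) l, (coef l χ : ℂ) * wgt t χ = 1 / (x χ : ℂ) := by
      intro χ hχ
      rw [wgt, hv, char_one_eq_deg (irr_isCharacter χ.2)]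
      rcases hval χ hχ with e | e <;> simp [hx, e, neg_div, div_neg]
    rw [hterm A (by simp [hset]), hterm B (by simp [hset]), hterm C (by simp [hset]),
      show wgt t (oneC : IrrCharacter G) = 1 by simp [wgt, oneC]] at h1
    have a0 : (x A : ℂ) ≠ 0 := Int.cast_ne_zero.2 (by omega)
    have b0 : (x B : ℂ) ≠ 0 := Int.cast_ne_zero.2 (by omega)
    have c0 : (x C : ℂ) ≠ 0 := Int.cast_ne_zero.2 (by omega)
    field_simp at h1
    have h2 : ((8 * (x A * x B * x C) : ℤ) : ℂ) =
        (((n : ℤ) * (x A * x B * x C + x B * x C + x A * x C + x A * x B) : ℤ) : ℂ) := by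
      push_cast at h1 ⊢
      linear_combination -1 * h1
    exact_mod_cast h2
  have hodd : Odd n := h.index_odd
  rw [Nat.odd_iff] at hodd
  have hn1 : n ≠ 1 := by
    intro e
    rw [hn, Subgroup.index_eq_one] at e
    obtain ⟨w, hw⟩ := isConj_iff.1 (h.conj t s h.t2 h.s2)
    have h2 := Subgroup.mem_centralizer_singleton_iff.1 (e ▸ Subgroup.mem_top w :
      w ∈ Subgroup.centralizer ({t} : Set G))
    rw [h2, mul_inv_cancel_right] at hw
    exact h.sK (hw ▸ h.tK)
  generalize x A = u at *
  generalize x B = v at *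
  generalize x C = w at *
  obtain rfl : w = -1 - u - v := by omega
  have hle : n ≤ 15 := by
    have hn0 : (0 : ℤ) < n := by omega
    rcases lt_or_ge u 0 with su | su <;> rcases lt_or_ge v 0 with sv | sv <;>
      rcases lt_or_ge (-1 - u - v) 0 with sw | sw
    · omega
    · exact_mod_cast two_bound (a := -u) (b := -v) hn0 (by omega) (by omega) (by linear_combination hEq)
    · exact_mod_cast two_bound (a := -u) (b := -(-1 - u - v)) hn0 (by omega) (by omega)
        (by linear_combination hEq)
    · exact_mod_cast two_bound' (a := v) (b := -1 - u - v) hn0 (by omega) (by omega)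
        (by linear_combination -1 * hEq)
    · exact_mod_cast two_bound (a := -v) (b := -(-1 - u - v)) hn0 (by omega) (by omega)
        (by linear_combination hEq)
    · exact_mod_cast two_bound' (a := u) (b := -1 - u - v) hn0 (by omega) (by omega)
        (by linear_combination -1 * hEq)
    · exact_mod_cast two_bound' (a := u) (b := v) hn0 (by omega) (by omega)
        (by linear_combination -1 * hEq)
    · omega
  by_contra hcon
  rw [not_or] at hcon
  have hmemL : ∀ y : ℤ, y ∣ (n : ℤ) ∧ y % 2 = 1 ∧ y ≠ -1 → n ≤ 13 →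
      y ∈ ([1, 3, -3, 5, -5, 7, -7, 9, -9, 11, -11, 13, -13] : List ℤ) := by
    intro y hy hn'
    have h1 := Nat.le_of_dvd (by omega) (Int.natAbs_dvd_natAbs.2 hy.1 |>.trans (by simp) : y.natAbs ∣ n)
    simp only [List.mem_cons, List.not_mem_nil, or_false]
    omega
  refine two_arith (n : ℤ) ?_ u (hmemL u hA (by omega)) v (hmemL v hB (by omega)) hEq
  simp only [List.mem_cons, List.not_mem_nil, or_false]
  omega

theorem four_card (h : Ctx t s K) (hk : Nat.card K = 2) : K = Subgroup.zpowers t :=
  (Subgroup.eq_of_le_of_card_ge (Subgroup.zpowers_le.2 h.tK) (by rw [Nat.card_zpowers, h.t2, hk])).symm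

theorem Ctx.four_cent (h : Ctx t s K) (hk : Nat.card K = 2) {x v : G} (hv : orderOf v = 2)
    (hc : Commute x v) : orderOf x ∣ 2 := by
  obtain ⟨w, rfl⟩ := isConj_iff.1 (h.isConj_iff_order.2 hv)
  have h1 : w⁻¹ * x * w ∈ Subgroup.centralizer ({t} : Set G) := by
    rw [Subgroup.mem_centralizer_singleton_iff]
    calc w⁻¹ * x * w * t = w⁻¹ * (x * (w * t * w⁻¹)) * w := by group
      _ = t * (w⁻¹ * x * w) := by rw [hc.eq]; group
  rw [show x = MulAut.conj w (w⁻¹ * x * w) by simp [mul_assoc], MulEquiv.orderOf_eq]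
  by_cases hK : w⁻¹ * x * w ∈ K
  · exact hk ▸ Subgroup.orderOf_dvd_natCard K hK
  · rw [h.out_order h1 hK]

/-- A Sylow subgroup of odd prime order is not normal. -/
theorem Ctx.not_normal_four (h : Ctx t s K) (hk : Nat.card K = 2) {p : ℕ} (hp : p.Prime) (hp2 : p ≠ 2)
    (Q : Subgroup G) (hQ : Nat.card Q = p) : Subgroup.normalizer (Q : Set G) ≠ ⊤ := by
  intro hN
  have hinv : ∀ v : G, orderOf v = 2 → ∀ c ∈ Q, v * c * v⁻¹ = c⁻¹ := by
    intro v hv
    refine fpf_inverts (by rw [← sq, ← hv, pow_orderOf_eq_one]) (hN ▸ Subgroup.mem_top v) ?_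
    intro c hc e
    have h1 := h.four_cent hk hv (mul_inv_eq_iff_eq_mul.1 e : v * c = c * v).symm
    by_contra hc1
    have h2 := Subgroup.orderOf_dvd_natCard Q hc
    rw [hQ] at h2
    exact hc1 (orderOf_eq_one_iff.1 (Nat.dvd_one.1 (((Nat.coprime_primes hp Nat.prime_two).2 hp2) ▸
      Nat.dvd_gcd h2 h1)))
  obtain ⟨⟨c, hc⟩, hc1⟩ : ∃ c : ↥Q, c ≠ 1 :=
    Subgroup.ne_bot_iff_exists_ne_one.1 fun e => hp.ne_one (by rw [← hQ, e, Subgroup.card_bot])
  have hts : orderOf (s * t) = 2 := h.out_order (mul_mem h.sH (h.kle h.tK)) (h.sK_not_mem h.tK)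
  have e3 := hinv _ hts c hc
  rw [show s * t * c * (s * t)⁻¹ = s * (t * c * t⁻¹) * s⁻¹ by group, hinv t h.t2 c hc,
    hinv s h.s2 _ (Q.inv_mem hc), inv_inv] at e3
  have h2 : orderOf c ∣ 2 := by
    rw [orderOf_dvd_iff_pow_eq_one, sq]; nth_rewrite 2 [e3]; exact mul_inv_cancel c
  have h3 := Subgroup.orderOf_dvd_natCard Q hc
  rw [hQ] at h3
  exact hc1 (Subtype.ext (orderOf_eq_one_iff.1 (Nat.dvd_one.1
    (((Nat.coprime_primes hp Nat.prime_two).2 hp2) ▸ Nat.dvd_gcd h3 h2))))

theorem case_two (h : Ctx t s K) (hk : Nat.card K = 2) : Concl G := by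
  rcases index_three_or_fifteen h hk with hn | hn
  · haveI : Fact (Nat.Prime 3) := ⟨Nat.prime_three⟩
    have hG : Nat.card G = 12 := by rw [h.card_eq, hn, hk]
    obtain ⟨P⟩ : Nonempty (Sylow 3 G) := inferInstance
    have hP : Nat.card P = 3 := by
      rw [P.card_eq_multiplicity, hG, show (12 : ℕ) = 3 * 4 by norm_num,
        Nat.factorization_mul (by norm_num) (by norm_num), Finsupp.add_apply,
        Nat.prime_three.factorization_self, Nat.factorization_eq_zero_of_not_dvd (by norm_num), pow_one]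
    set Q : Subgroup G := (P : Subgroup G)
    have hNne := h.not_normal_four hk Nat.prime_three (by norm_num) Q hP
    have hN : Nat.card (Subgroup.normalizer (Q : Set G)) = 3 := by
      set N := Subgroup.normalizer (Q : Set G) with hN
      have h1 := card_sylow_modEq_one 3 G
      rw [P.card_eq_index_normalizer] at h1
      have h2 : N.index * Nat.card N = 12 := by rw [N.index_mul_card, hG]
      obtain ⟨j, hj⟩ : 3 ∣ Nat.card N := hP ▸ Subgroup.card_dvd_of_le Subgroup.le_normalizer
      have h3 : N.index ≠ 1 := fun e => hNne (Subgroup.index_eq_one.1 e)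
      have h4 : N.index ∣ 4 := ⟨j, by rw [hj] at h2; linarith⟩
      have h5 : N.index ≤ 4 := Nat.le_of_dvd (by norm_num) h4
      change N.index % 3 = 1 % 3 at h1
      have h6 : N.index = 4 := by omega
      rw [h6] at h2; omega
    have hQN : Q = Subgroup.normalizer (Q : Set G) :=
      Subgroup.eq_of_le_of_card_ge Subgroup.le_normalizer (by rw [hN, hP])
    refine ⟨Q, ⊥, by rw [hP, hG], fun x hx hx1 => ?_, ⟨⟨fun a b => Subsingleton.elim _ _⟩⟩,
      by rw [Subgroup.card_bot, hP], inf_bot_eq _, by rw [sup_bot_eq]; exact hQN.symm,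
      fun X hX hX' => absurd (le_bot_iff.1 hX) hX'⟩
    have hz : Subgroup.zpowers x = Q := Subgroup.eq_of_le_of_card_ge (Subgroup.zpowers_le.2 hx) (by
      rw [Nat.card_zpowers, hP]
      have h1 := Subgroup.orderOf_dvd_natCard Q hx
      rw [hP] at h1
      rcases (Nat.dvd_prime Nat.prime_three).1 h1 with e | e
      · exact absurd (orderOf_eq_one_iff.1 e) hx1
      · omega)
    refine le_antisymm (fun g hg => ?_) fun g hg => ?_
    · rw [hQN]
      refine mem_norm_of_conj fun y hy => ?_
      rw [← hz, Subgroup.mem_zpowers_iff] at hy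
      obtain ⟨i, rfl⟩ := hy
      have hcm : Commute g x := Subgroup.mem_centralizer_singleton_iff.1 hg
      rw [(hcm.zpow_right i).eq,
        mul_inv_cancel_right]
      exact zpow_mem hx i
    · rw [← hz, Subgroup.mem_zpowers_iff] at hg
      obtain ⟨i, rfl⟩ := hg
      exact Subgroup.mem_centralizer_singleton_iff.2 ((Commute.refl x).zpow_left i).eq
  · haveI : Fact (Nat.Prime 5) := ⟨by norm_num⟩
    have h5p : Nat.Prime 5 := Fact.out
    have hG : Nat.card G = 60 := by rw [h.card_eq, hn, hk]
    obtain ⟨P⟩ : Nonempty (Sylow 5 G) := inferInstance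
    have hP : Nat.card P = 5 := by
      rw [P.card_eq_multiplicity, hG, show (60 : ℕ) = 5 * 12 by norm_num,
        Nat.factorization_mul (by norm_num) (by norm_num), Finsupp.add_apply,
        h5p.factorization_self, Nat.factorization_eq_zero_of_not_dvd (by norm_num), pow_one]
    set Q : Subgroup G := (P : Subgroup G)
    set N := Subgroup.normalizer (Q : Set G) with hN
    have hNne : N ≠ ⊤ := h.not_normal_four hk h5p (by norm_num) Q hP
    have hNc : Nat.card N = 10 := by
      have h1 := card_sylow_modEq_one 5 G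
      rw [P.card_eq_index_normalizer] at h1
      have h2 : N.index * Nat.card N = 60 := by rw [N.index_mul_card, hG]
      obtain ⟨j, hj⟩ : 5 ∣ Nat.card N := hP ▸ Subgroup.card_dvd_of_le Subgroup.le_normalizer
      have h3 : N.index ≠ 1 := fun e => hNne (Subgroup.index_eq_one.1 e)
      have h4 : N.index ∣ 12 := ⟨j, by rw [hj] at h2; linarith⟩
      have h6 : N.index ≤ 12 := Nat.le_of_dvd (by norm_num) h4
      change N.index % 5 = 1 % 5 at h1
      have h7 : N.index = 6 := by
        obtain ⟨c, hc⟩ := h4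
        rcases (by omega : N.index = 6 ∨ N.index = 11) with e | e
        · exact e
        · rw [e] at hc; omega
      rw [h7] at h2; omega
    haveI : Fact (Nat.Prime 2) := ⟨Nat.prime_two⟩
    obtain ⟨v, hv⟩ := exists_prime_orderOf_dvd_card' (G := N) 2 (by rw [hNc]; norm_num)
    have hv' : orderOf (v : G) = 2 := by rw [Subgroup.orderOf_coe, hv]
    obtain ⟨w, hw⟩ := isConj_iff.1 (h.isConj_iff_order.2 hv')
    have hvQ : (v : G) ∉ Q := fun e => by
      have := Subgroup.orderOf_dvd_natCard Q e
      rw [hv', hP] at this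
      norm_num at this
    have hDc : Nat.card (Subgroup.zpowers (v : G)) = 2 := by rw [Nat.card_zpowers, hv']
    have hC : ∀ x ∈ Q, x ≠ 1 → Subgroup.centralizer ({x} : Set G) = Q := by
      intro x hx hx1
      have hox : orderOf x = 5 := by
        have h1 := Subgroup.orderOf_dvd_natCard Q hx
        rw [hP] at h1
        exact ((Nat.dvd_prime h5p).1 h1).resolve_left fun e => hx1 (orderOf_eq_one_iff.1 e)
      have hz : Subgroup.zpowers x = Q :=
        Subgroup.eq_of_le_of_card_ge (Subgroup.zpowers_le.2 hx) (by rw [Nat.card_zpowers, hox, hP])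
      set C := Subgroup.centralizer ({x} : Set G) with hCdef
      have hQC : Q ≤ C := by
        rw [← hz]
        exact Subgroup.zpowers_le.2 (Subgroup.mem_centralizer_singleton_iff.2 rfl)
      have hCN : C ≤ N := fun g hg => mem_norm_of_conj fun y hy => by
        rw [← hz, Subgroup.mem_zpowers_iff] at hy
        obtain ⟨i, rfl⟩ := hy
        have hcm : Commute g x := Subgroup.mem_centralizer_singleton_iff.1 hg
        rw [(hcm.zpow_right i).eq,
          mul_inv_cancel_right]
        exact zpow_mem hx i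
      obtain ⟨j, hj⟩ : 5 ∣ Nat.card C := hP ▸ Subgroup.card_dvd_of_le hQC
      have h10 : 5 * j ∣ 10 := by rw [← hj, ← hNc]; exact Subgroup.card_dvd_of_le hCN
      have hj2 : j ∣ 2 := Nat.dvd_of_mul_dvd_mul_left (by norm_num : 0 < 5) h10
      rcases (Nat.dvd_prime Nat.prime_two).1 hj2 with e | e
      · exact (Subgroup.eq_of_le_of_card_ge hQC (by rw [hj, e, hP])).symm
      · exfalso
        obtain ⟨y, hy⟩ := exists_prime_orderOf_dvd_card' (G := C) 2 (by rw [hj, e]; norm_num)
        have h1 := h.four_cent hk (v := (y : G)) (x := x) (by rw [Subgroup.orderOf_coe, hy])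
          (Subgroup.mem_centralizer_singleton_iff.1 y.2).symm
        rw [hox] at h1
        norm_num at h1
    refine ⟨Q, Subgroup.zpowers (v : G), by rw [hP, hG], hC, inferInstance, by rw [hDc, hP], ?_, ?_, ?_⟩
    · exact Subgroup.eq_bot_of_card_eq _ (Nat.dvd_one.1 ((show Nat.gcd 5 2 = 1 by norm_num) ▸
        Nat.dvd_gcd (hP ▸ Subgroup.card_dvd_of_le inf_le_left)
          (hDc ▸ Subgroup.card_dvd_of_le inf_le_right)))
    · have hle : Q ⊔ Subgroup.zpowers (v : G) ≤ N :=
        sup_le Subgroup.le_normalizer (Subgroup.zpowers_le.2 v.2)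
      refine (Subgroup.eq_of_le_of_card_ge hle ?_).symm
      rw [hNc]
      refine Nat.le_of_dvd Nat.card_pos (Nat.Coprime.mul_dvd_of_dvd_of_dvd
        (by norm_num) (hP ▸ Subgroup.card_dvd_of_le le_sup_left) (hDc ▸ Subgroup.card_dvd_of_le le_sup_right))
    · intro X hX hX'
      have hXD : X = Subgroup.zpowers (v : G) := by
        refine Subgroup.eq_of_le_of_card_ge hX ?_
        rw [hDc]
        have : Nat.card X ≠ 1 := fun e => hX' (Subgroup.card_eq_one.1 e)
        have := Nat.card_pos (α := ↥X)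
        omega
      subst hXD
      refine ⟨rfl, w * s * w⁻¹, by rw [← MulAut.conj_apply, MulEquiv.orderOf_eq, h.s2], ?_, ?_, ?_⟩
      · rw [← hw, ← MulAut.conj_apply w t, ← MulAut.conj_apply w s]
        intro e
        rw [show (MulAut.conj w) t = (MulAut.conj w).toMonoidHom t from rfl,
          ← MonoidHom.map_zpowers, ← four_card h hk] at e
        obtain ⟨d, hd, e'⟩ := e
        exact h.sK ((MulAut.conj w).injective e' ▸ hd)
      · intro d hd
        rw [← hw, ← MulAut.conj_apply w t, show (MulAut.conj w) t = (MulAut.conj w).toMonoidHom t from rfl,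
          ← MonoidHom.map_zpowers, ← four_card h hk] at hd
        obtain ⟨d', hd', rfl⟩ := hd
        show w * s * w⁻¹ * (w * d' * w⁻¹) * (w * s * w⁻¹)⁻¹ = (w * d' * w⁻¹)⁻¹
        calc w * s * w⁻¹ * (w * d' * w⁻¹) * (w * s * w⁻¹)⁻¹ = w * (s * d' * s⁻¹) * w⁻¹ := by group
          _ = (w * d' * w⁻¹)⁻¹ := by rw [h.inv d' hd']; group
      · have e1 : Subgroup.normalizer (Subgroup.zpowers (v : G) : Set G) =
            Subgroup.centralizer ({(v : G)} : Set G) := by
          refine le_antisymm (fun g hg => ?_) fun g hg => mem_norm_of_conj fun y hy => ?_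
          · have h1 := norm_conj hg (Subgroup.mem_zpowers (v : G))
            rw [Subgroup.mem_zpowers_iff] at h1
            obtain ⟨i, hi⟩ := h1
            rw [Subgroup.mem_centralizer_singleton_iff, ← mul_inv_eq_iff_eq_mul, ← hi,
              ← zpow_mod_orderOf, hv']
            rcases Int.emod_two_eq_zero_or_one i with r | r <;> simp only [Nat.cast_ofNat, r, zpow_one]
            exfalso
            rw [← zpow_mod_orderOf, hv', Nat.cast_ofNat, r, zpow_zero] at hi
            rw [conj_eq_one_iff.1 hi.symm, orderOf_one] at hv'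
            norm_num at hv'
          · rw [Subgroup.mem_zpowers_iff] at hy
            obtain ⟨i, rfl⟩ := hy
            have hcm : Commute g (v : G) := Subgroup.mem_centralizer_singleton_iff.1 hg
            rw [(hcm.zpow_right i).eq,
              mul_inv_cancel_right]
            exact Subgroup.zpow_mem_zpowers _ i
        rw [e1, ← hw, ← conj_cent, ← h.sup_eq, four_card h hk, Subgroup.map_sup,
          MonoidHom.map_zpowers, MonoidHom.map_zpowers]
        rfl

end Cfsg.Agent.Char.BSW
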