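import Cfsg.Agent.Lib.Char.BSW.Recognise
import Cfsg.Agent.Lib.Char.DihedralPairs
import Cfsg.Agent.Lib.Solv.DihedralSylowClasses
import Cfsg.Agent.Lib.Fusion.KleinSylowClasses
import Cfsg.Agent.Lib.Fusion.Cores
import Cfsg.Agent.Lib.Small.PSL2
import Cfsg.Agent.Lib.Classical.Dickson.Tools
import Cfsg.Agent.S3282

/-!
# The Brauer-Suzuki-Wall recognition of `PSL₂(q)`, `q` odd, for dihedral Sylow 2-subgroups
-/

set_option autoImplicit false
set_option linter.unusedSectionVars false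
set_option linter.style.haveILetI false

namespace Cfsg.Agent.Char.BSW

open Cfsg DihedralGroup

universe u

/-- What is used of the rotation subgroup `A` of `S` and of the core `L` of `C(t)`. -/
structure Rot {G : Type u} [Group G] (S A : Subgroup G) (t : G) (n : ℕ) : Prop where
  le : A ≤ S
  tA : t ∈ A
  card : Nat.card A = n
  comm : ∀ a ∈ A, ∀ b ∈ A, a * b = b * a
  invol : ∀ a ∈ A, a * a = 1 → a = 1 ∨ a = t
  out : ∀ x ∈ S, x ∉ A → x * x = 1 ∧ ∀ a ∈ A, x * a * x⁻¹ = a⁻¹
  cyc : ∀ g ∈ S, orderOf g = n → (2 < n ∨ g = t) → g ∈ A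
  oneClass : ∀ x y : G, orderOf x = 2 → orderOf y = 2 → IsConj x y
  core : ∃ L : Subgroup G, L ≤ Subgroup.centralizer ({t} : Set G) ∧ Odd (Nat.card L) ∧
    (∀ c ∈ Subgroup.centralizer ({t} : Set G), ∀ w ∈ L, c * w * c⁻¹ ∈ L) ∧
    ∀ c ∈ Subgroup.centralizer ({t} : Set G), ∃ s ∈ S, ∃ w ∈ L, s * w = c

variable {G : Type u} [Group G] [Fintype G]

theorem false_of_normal_complement [IsSimpleGroup G] (hna : ∃ a b : G, a * b ≠ b * a) (S : Sylow 2 G)
    (hS : (S : Subgroup G) ≠ ⊥) {N : Subgroup G} (hN : N.Normal) (hc : N.IsComplement' (S : Subgroup G)) :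
    False := by
  rcases hN.eq_bot_or_eq_top with rfl | rfl
  · obtain ⟨m, hm⟩ := IsPGroup.iff_card.1 S.isPGroup'
    refine not_simple_of_solvable hna (Char.isSolvable_of_two_primes Nat.prime_two Nat.prime_two
      (Nat.card G) rfl fun r hr hdvd => Or.inl ?_)
    have h1 := hc.card_mul
    rw [Subgroup.card_bot, one_mul, hm] at h1
    rw [← h1] at hdvd
    exact (Nat.prime_dvd_prime_iff_eq hr Nat.prime_two).1 (hr.dvd_of_dvd_pow hdvd)
  · have h1 := hc.card_mul
    rw [Subgroup.card_top] at h1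
    exact hS ((Subgroup.card_eq_one).1 (Nat.eq_of_mul_eq_mul_left Nat.card_pos (h1.trans (mul_one _).symm)))

theorem exists_rot_klein [IsSimpleGroup G] (hna : ∃ a b : G, a * b ≠ b * a) (S : Sylow 2 G)
    (e : (S : Subgroup G) ≃* DihedralGroup 2) {t : G} (ht : orderOf t = 2) (htS : t ∈ (S : Subgroup G))
    (htZ : ∀ s ∈ (S : Subgroup G), s * t = t * s) :
    Rot (S : Subgroup G) (Subgroup.zpowers t) t 2 := by
  classical
  haveI : Fact (Nat.Prime 2) := ⟨Nat.prime_two⟩
  have hsq : ∀ x ∈ (S : Subgroup G), x * x = 1 := fun x hx => by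
    have h : ∀ d : DihedralGroup 2, d * d = 1 := by decide
    exact congrArg Subtype.val (e.injective (by rw [map_mul, h, map_one]) :
      (⟨x, hx⟩ : (S : Subgroup G)) * ⟨x, hx⟩ = 1)
  have hcomm : ∀ x ∈ (S : Subgroup G), ∀ y ∈ (S : Subgroup G), x * y = y * x := fun x hx y hy => by
    have h : ∀ d d' : DihedralGroup 2, d * d' = d' * d := by decide
    exact congrArg Subtype.val (e.injective (by rw [map_mul, h, ← map_mul]) :
      (⟨x, hx⟩ : (S : Subgroup G)) * ⟨y, hy⟩ = ⟨y, hy⟩ * ⟨x, hx⟩)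
  have hcard : Nat.card (S : Subgroup G) = 4 := by
    rw [Nat.card_congr e.toEquiv, DihedralGroup.nat_card]
  have htt : t * t = 1 := hsq t htS
  have hAmem : ∀ a, a ∈ Subgroup.zpowers t → a = 1 ∨ a = t := by
    rintro a ⟨j, rfl⟩
    rcases Int.even_or_odd' j with ⟨m, rfl | rfl⟩
    · left; show t ^ (2 * m) = 1; rw [zpow_mul, zpow_ofNat, sq, htt, one_zpow]
    · right; show t ^ (2 * m + 1) = t; rw [zpow_add, zpow_mul, zpow_ofNat, sq, htt, one_zpow, one_mul, zpow_one]
  have hne : (S : Subgroup G) ≠ ⊥ := fun h => by rw [h, Subgroup.card_bot] at hcard; omega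
  refine ⟨Subgroup.zpowers_le.2 htS, Subgroup.mem_zpowers t, by rw [Nat.card_zpowers, ht],
    fun a ha b hb => ?_, fun a ha _ => hAmem a ha, fun x hx _ => ⟨hsq x hx, fun a ha => ?_⟩,
    fun g _ _ h => ?_, ?_, ?_⟩
  · exact hcomm a (Subgroup.zpowers_le.2 htS ha) b (Subgroup.zpowers_le.2 htS hb)
  · have haS := Subgroup.zpowers_le.2 htS ha
    rw [hcomm x hx a haS, mul_inv_cancel_right, eq_inv_iff_mul_eq_one, hsq a haS]
  · rcases h with h | rfl
    · omega
    · exact Subgroup.mem_zpowers g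
  · have hk : IsKleinFour (S : Subgroup G) := ⟨hcard, (not_isCyclic_iff_exponent_eq_prime Nat.prime_two
      (by rw [hcard]; norm_num)).mp fun hc => by
        obtain ⟨g, hg⟩ := hc
        have h1 : orderOf g = 4 := by rw [orderOf_eq_card_of_forall_mem_zpowers hg, hcard]
        have h2 : orderOf g ≤ 2 := Nat.le_of_dvd (by norm_num)
          (orderOf_dvd_of_pow_eq_one (Subtype.ext (by rw [sq]; exact hsq g g.2)))
        omega⟩
    rcases Fusion.klein_sylow_dichotomy S hk with ⟨-, N, hN, hc⟩ | ⟨h1, -⟩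
    · exact absurd hc fun hc => false_of_normal_complement hna S hne hN hc
    · intro x y hx hy
      obtain ⟨hsub, -⟩ := Nat.card_eq_one_iff_unique.mp h1
      exact ConjClasses.mk_eq_mk_iff_isConj.1 (congrArg Subtype.val (hsub.elim
        (⟨ConjClasses.mk x, x, hx, rfl⟩ : {C : ConjClasses G // ∃ t : G, orderOf t = 2 ∧ ConjClasses.mk t = C})
        ⟨ConjClasses.mk y, y, hy, rfl⟩))
  · obtain ⟨C, hC⟩ : ∃ C, C = Subgroup.centralizer ({t} : Set G) := ⟨_, rfl⟩
    have hSC : (S : Subgroup G) ≤ C := fun x hx =>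
      hC ▸ Subgroup.mem_centralizer_singleton_iff.2 (htZ x hx)
    rw [← hC]
    obtain ⟨P, hPd⟩ : ∃ P : Sylow 2 C, P = S.subtype hSC := ⟨_, rfl⟩
    have hPm : ∀ c : C, c ∈ (P : Subgroup C) ↔ (c : G) ∈ (S : Subgroup G) := fun c => by
      rw [hPd, Sylow.coe_subtype, Subgroup.mem_subgroupOf]
    have hnorm : Subgroup.normalizer (P : Set C) ≤ Subgroup.centralizer (P : Set C) := by
      intro h hh
      rw [Subgroup.mem_centralizer_iff]
      intro p hp
      have hpS := (hPm p).1 hp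
      have hth : (h : G) * t = t * h := Subgroup.mem_centralizer_singleton_iff.1 (hC ▸ h.2)
      have hmap : ∀ z ∈ (S : Subgroup G), (h : G) * z * (h : G)⁻¹ ∈ (S : Subgroup G) := fun z hz =>
        (hPm (h * ⟨z, hSC hz⟩ * h⁻¹)).1 (norm_conj (X := (P : Subgroup C)) hh ((hPm ⟨z, hSC hz⟩).2 hz))
      have hcom : ∀ z ∈ (S : Subgroup G), (h : G) * z * (h : G)⁻¹ = z ∨ (h : G) * z * (h : G)⁻¹ = t * z := by
        intro z hz
        by_contra hno
        push Not at hno
        have hz1 : z ≠ 1 := fun e' => hno.1 (by rw [e']; group)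
        have hzt : z ≠ t := fun e' => hno.1 (by rw [e', hth, mul_inv_cancel_right])
        obtain ⟨w, hw⟩ : ∃ w, w = (h : G) * z * (h : G)⁻¹ := ⟨_, rfl⟩
        rw [← hw] at hno
        have hw1 : w ≠ 1 := fun e' => hz1 (by
          have : z = (h : G)⁻¹ * w * h := by rw [hw]; group
          rw [this, e']; group)
        have hwt : w ≠ t := fun e' => hzt (by
          have : z = (h : G)⁻¹ * w * h := by rw [hw]; group
          rw [this, e', mul_assoc, ← hth, inv_mul_cancel_left])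
        have htz1 : t * z ≠ 1 := fun e' => hzt (by
          rw [← mul_one t, ← hsq z hz, ← mul_assoc, e', one_mul])
        have h5 : ({1, t, z, t * z, w} : Finset G).card = 5 := by
          have ht1 : t ≠ 1 := fun e' => by rw [e', orderOf_one] at ht; omega
          rw [Finset.card_insert_of_notMem, Finset.card_insert_of_notMem, Finset.card_insert_of_notMem,
            Finset.card_insert_of_notMem, Finset.card_singleton] <;>
            simp only [Finset.mem_insert, Finset.mem_singleton, not_or]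
          · exact fun e' => hno.2 e'.symm
          · exact ⟨fun e' => ht1 (mul_eq_right.1 e'.symm), hno.1.symm⟩
          · exact ⟨hzt.symm, fun e' => hz1 (mul_eq_left.1 e'.symm), hwt.symm⟩
          · exact ⟨ht1.symm, hz1.symm, htz1.symm, hw1.symm⟩
        have hsub : ({1, t, z, t * z, w} : Finset G) ⊆ ((S : Subgroup G) : Set G).toFinset := by
          intro a ha
          simp only [Finset.mem_insert, Finset.mem_singleton] at ha
          rw [Set.mem_toFinset, SetLike.mem_coe]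
          rcases ha with rfl | rfl | rfl | rfl | rfl
          · exact one_mem _
          · exact htS
          · exact hz
          · exact mul_mem htS hz
          · rw [hw]; exact hmap z hz
        have h4 := Finset.card_le_card hsub
        rw [h5, ← Set.ncard_eq_toFinset_card', ← Nat.card_coe_set_eq] at h4
        rw [show Nat.card ↑((S : Subgroup G) : Set G) = Nat.card (S : Subgroup G) from rfl, hcard] at h4
        omega
      have h2c : ((h * h : C) : G) * (p : G) = (p : G) * ((h * h : C) : G) := by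
        rcases hcom p hpS with e1 | e1
        · have e2 : (h : G) * p = p * h := mul_inv_eq_iff_eq_mul.1 e1
          rw [Subgroup.coe_mul, mul_assoc, e2, ← mul_assoc, e2, mul_assoc]
        · have e2 : (h : G) * p = t * p * h := mul_inv_eq_iff_eq_mul.1 e1
          rw [Subgroup.coe_mul, mul_assoc, e2, ← mul_assoc, ← mul_assoc, hth, mul_assoc t, e2, ← mul_assoc,
            ← mul_assoc, htt, one_mul, mul_assoc]
      obtain ⟨a, m, hm, hord⟩ := Nat.exists_eq_pow_mul_and_not_dvd (orderOf_pos h).ne' 2 (by norm_num)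
      have hP2 : h ^ m ∈ (P : Subgroup C) := by
        have hp2 : IsPGroup 2 (Subgroup.zpowers (h ^ m)) := by
          refine IsPGroup.of_card (n := a) ?_
          rw [Nat.card_zpowers, orderOf_pow' h (fun e' => by rw [e'] at hm; exact hm (dvd_zero 2)),
            Nat.gcd_eq_right (hord ▸ dvd_mul_left m (2 ^ a)), hord,
            Nat.mul_div_cancel _ (Nat.pos_of_ne_zero fun e' => by rw [e'] at hm; exact hm (dvd_zero 2))]
        have hle : Subgroup.zpowers (h ^ m) ≤ Subgroup.normalizer ((P : Subgroup C) : Set C) :=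
          Subgroup.zpowers_le.2 (pow_mem hh m)
        exact (P.is_maximal' (hp2.to_sup_of_normal_right' P.isPGroup' hle) le_sup_right) ▸
          Subgroup.mem_sup_left (Subgroup.mem_zpowers _)
      have hcm : Commute (h ^ m) p := Subtype.ext (hcomm _ ((hPm _).1 hP2) _ hpS)
      have hc2 : Commute (h * h) p := Subtype.ext h2c
      obtain ⟨j, rfl⟩ : Odd m := Nat.not_even_iff_odd.1 fun hev => hm (even_iff_two_dvd.1 hev)
      have e3 : h = ((h * h) ^ j)⁻¹ * h ^ (2 * j + 1) := by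
        rw [pow_succ, pow_mul, sq, inv_mul_cancel_left]
      rw [e3]
      exact (((hc2.pow_left j).inv_left).mul_left hcm).symm.eq
    obtain ⟨N, hNn, hNc⟩ := Fusion.hnpc_exists_complement (Fusion.hnpc_of_normalizer_le_centralizer P hnorm) P
    refine ⟨N.map C.subtype, Subgroup.map_subtype_le _, ?_, ?_, ?_⟩
    · rw [Subgroup.card_map_of_injective C.subtype_injective, ← hNc.index_eq_card]
      have := P.not_dvd_index
      exact Nat.not_even_iff_odd.1 fun h => this (even_iff_two_dvd.1 h)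
    · rintro c hc _ ⟨w, hw, rfl⟩
      exact ⟨(⟨c, hc⟩ : C) * w * (⟨c, hc⟩ : C)⁻¹, hNn.conj_mem _ hw _, rfl⟩
    · intro c hc
      obtain ⟨⟨⟨s, hs⟩, ⟨w, hw⟩⟩, he⟩ := hNc.symm.2 ⟨c, hc⟩
      exact ⟨s, (hPm s).1 hs, w, ⟨w, hw, rfl⟩, congrArg Subtype.val he⟩

theorem exists_rot_big [IsSimpleGroup G] (hna : ∃ a b : G, a * b ≠ b * a) (S : Sylow 2 G) {n : ℕ} [NeZero n]
    (ι : DihedralGroup n →* G) (h : DihSyl S ι) {t : G} (ht : orderOf t = 2) (htS : t ∈ (S : Subgroup G))
    (htZ : ∀ s ∈ (S : Subgroup G), s * t = t * s) :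
    Rot (S : Subgroup G) ((Solv.DihedralClasses.rotations n).map ι) t n := by
  classical
  haveI : Fact (Nat.Prime 2) := ⟨Nat.prime_two⟩
  obtain ⟨hfour, ⟨k, hk⟩, hinj, hrange⟩ := h
  have h := (⟨hfour, ⟨k, hk⟩, hinj, hrange⟩ : DihSyl S ι)
  have hn4 : 4 ≤ n := Nat.le_of_dvd (Nat.pos_of_ne_zero (NeZero.ne n)) hfour
  obtain ⟨d, hd⟩ : t ∈ ι.range := hrange ▸ htS
  have hdo : orderOf d = 2 := by rw [← orderOf_injective ι hinj d, hd, ht]
  have htJ : t = dihJ ι := by
    rcases Solv.DihedralClasses.involution_cases' hdo with rfl | ⟨i, rfl⟩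
    · exact hd.symm
    · exfalso
      have h1 := htZ (ι (r 1)) (h.mem _)
      rw [← hd, ← map_mul, ← map_mul] at h1
      have h2 := hinj h1
      rw [r_mul_sr, sr_mul_r] at h2
      have h3 : ((2 : ℕ) : ZMod n) = 0 := by push_cast; linear_combination -(sr.inj h2)
      have := Nat.le_of_dvd (by norm_num) ((ZMod.natCast_eq_zero_iff _ _).1 h3)
      omega
  have hmem : ∀ x, x ∈ (Solv.DihedralClasses.rotations n).map ι ↔ ∃ i, ι (r i) = x := by
    intro x
    constructor
    · rintro ⟨_, ⟨i, rfl⟩, rfl⟩; exact ⟨i, rfl⟩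
    · rintro ⟨i, rfl⟩; exact ⟨r i, ⟨i, rfl⟩, rfl⟩
  have hne : (S : Subgroup G) ≠ ⊥ := fun e => by
    have := h.card_sylow
    rw [e, Subgroup.card_bot] at this
    omega
  refine ⟨?_, (hmem t).2 ⟨_, htJ.symm⟩, ?_, ?_, ?_, ?_, ?_, ?_, ?_⟩
  · intro x hx
    obtain ⟨i, rfl⟩ := (hmem x).1 hx
    exact h.mem _
  · rw [Subgroup.card_map_of_injective hinj]
    have h2 := (Solv.DihedralClasses.rotations n).card_mul_index
    rw [Solv.DihedralClasses.rotations_index_two, DihedralGroup.nat_card] at h2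
    omega
  · intro a ha b hb
    obtain ⟨i, rfl⟩ := (hmem a).1 ha
    obtain ⟨j, rfl⟩ := (hmem b).1 hb
    rw [← map_mul, ← map_mul, r_mul_r, r_mul_r, add_comm]
  · intro a ha h2
    obtain ⟨i, rfl⟩ := (hmem a).1 ha
    rw [← map_mul] at h2
    by_cases hi : (r i : DihedralGroup n) = 1
    · exact Or.inl (by rw [hi, map_one])
    · rcases Solv.DihedralClasses.involution_cases hi (hinj (h2.trans (map_one ι).symm)) with e | ⟨j, e⟩
      · exact Or.inr (by rw [htJ, e])
      · cases e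
  · intro x hx hxA
    rw [← hrange] at hx
    obtain ⟨y, rfl⟩ := hx
    cases y with
    | r i => exact absurd ((hmem _).2 ⟨i, rfl⟩) hxA
    | sr i =>
      refine ⟨by rw [← map_mul, sr_mul_sr, sub_self, ← DihedralGroup.one_def, map_one], fun a ha => ?_⟩
      obtain ⟨j, rfl⟩ := (hmem a).1 ha
      rw [← map_inv, ← map_mul, ← map_mul, ← map_inv, inv_sr, sr_mul_r, sr_mul_sr, inv_r]
      congr 1
      congr 1
      ring
  · intro g hg hgo hgt
    rw [← hrange] at hg
    obtain ⟨y, rfl⟩ := hg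
    cases y with
    | r i => exact (hmem _).2 ⟨i, rfl⟩
    | sr i =>
      rw [orderOf_injective ι hinj, orderOf_sr] at hgo
      omega
  · rcases Solv.DihedralClasses.main S hfour ι hinj hrange with ⟨h1, -⟩ | ⟨-, ⟨N, hN, hi⟩, -⟩ | ⟨-, hnp⟩
    · intro x y hx hy
      obtain ⟨hsub, -⟩ := Nat.card_eq_one_iff_unique.mp h1
      exact ConjClasses.mk_eq_mk_iff_isConj.1 (congrArg Subtype.val (hsub.elim
        (⟨ConjClasses.mk x, x, rfl, hx⟩ : {C : ConjClasses G // ∃ g : G, ConjClasses.mk g = C ∧ orderOf g = 2})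
        ⟨ConjClasses.mk y, y, rfl, hy⟩))
    · exfalso
      rcases hN.eq_bot_or_eq_top with rfl | rfl
      · rw [Subgroup.index_bot] at hi
        obtain ⟨a, b, hab⟩ := hna
        haveI := isCyclic_of_prime_card (α := G) hi
        exact hab (IsCyclic.commGroup.mul_comm a b)
      · rw [Subgroup.index_top] at hi; omega
    · obtain ⟨N, hN, hc⟩ := Fusion.hnpc_exists_complement hnp S
      exact absurd hc fun hc => false_of_normal_complement hna S hne hN hc
  · rw [htJ]
    obtain ⟨L, hLC, hLodd, hLn, -, hLcard⟩ := h.exists_core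
    refine ⟨L, hLC, Nat.not_even_iff_odd.1 fun e => hLodd (even_iff_two_dvd.1 e), hLn, fun c hc => ?_⟩
    obtain ⟨⟨d', w⟩, hp⟩ := (h.core_surj hLC hLodd hLcard).2 ⟨c, hc⟩
    exact ⟨ι d', h.mem d', w, w.2, congrArg Subtype.val hp⟩

theorem sq_eq_one_of_even {F : Type} [Field F] [Fintype F] (hF : ¬ Odd (Fintype.card F)) :
    ∃ f : ℕ, Fintype.card F = 2 ^ f ∧
      (∀ g : Matrix.ProjectiveSpecialLinearGroup (Fin 2) F, (∃ k : ℕ, g ^ 2 ^ k = 1) → g * g = 1) ∧
      ∀ T : Sylow 2 (Matrix.ProjectiveSpecialLinearGroup (Fin 2) F),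
        Nat.card (T : Subgroup (Matrix.ProjectiveSpecialLinearGroup (Fin 2) F)) = 2 ^ f := by
  classical
  haveI : Fact (Nat.Prime 2) := ⟨Nat.prime_two⟩
  obtain ⟨p, hpc, ⟨f, hf⟩, hp, hcard⟩ := FiniteField.card' F
  have hp2 : p = 2 := by
    by_contra h
    exact hF (hcard ▸ (hp.odd_of_ne_two h).pow)
  subst hp2
  have h2 : (2 : F) = 0 := by exact_mod_cast CharP.cast_eq_zero F 2
  haveI : Finite (Matrix.ProjectiveSpecialLinearGroup (Fin 2) F) :=
    Finite.of_surjective _ Small.PSL2.pr_surjective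
  let U₀ : Sylow 2 (Matrix.ProjectiveSpecialLinearGroup (Fin 2) F) :=
    ⟨Small.PSL2.U, Small.PSL2.isPGroup_U hcard, fun hQ hle => Small.PSL2.U_maximal hQ hle⟩
  refine ⟨f, hcard, fun g ⟨k, hk⟩ => ?_, fun T => ?_⟩
  · obtain ⟨j, -, hj⟩ := (Nat.dvd_prime_pow Nat.prime_two).1 (orderOf_dvd_of_pow_eq_one hk)
    obtain ⟨T, hT⟩ := (IsPGroup.of_card (p := 2) (n := j) (by rw [Nat.card_zpowers, hj]) :
      IsPGroup 2 (Subgroup.zpowers g)).exists_le_sylow
    obtain ⟨c, rfl⟩ := MulAction.exists_smul_eq (Matrix.ProjectiveSpecialLinearGroup (Fin 2) F) U₀ T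
    obtain ⟨u, hu, hug⟩ := hT (Subgroup.mem_zpowers g)
    obtain ⟨x, rfl⟩ := (Small.PSL2.mem_U u).1 hu
    have h3 : Small.PSL2.pr (Small.PSL2.uS x) * Small.PSL2.pr (Small.PSL2.uS x) = 1 := by
      rw [← map_mul, ← Small.PSL2.uS_add, show x + x = 0 by rw [← two_mul, h2, zero_mul]]
      exact map_one (Small.PSL2.uP (F := F))
    rw [← hug]
    exact ((map_mul _ _ _).symm.trans ((congrArg _ h3).trans (map_one _)))
  · rw [Sylow.card_eq_multiplicity, ← Sylow.card_eq_multiplicity U₀]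
    show Nat.card (Small.PSL2.U : Subgroup (Matrix.ProjectiveSpecialLinearGroup (Fin 2) F)) = 2 ^ f
    rw [Small.PSL2.U, ← Nat.card_congr (MonoidHom.ofInjective (f := Small.PSL2.uP (F := F))
      fun x y e => Multiplicative.toAdd.injective (Small.PSL2.pr_uS_inj e)).toEquiv,
      Nat.card_congr Multiplicative.toAdd, Nat.card_eq_fintype_card, hcard]
    rfl

theorem psl_of_dihedral_wall [IsSimpleGroup G] (S : Sylow 2 G) {n : ℕ} (hn : 2 ≤ n)
    (e : (S : Subgroup G) ≃* DihedralGroup n) {t : G} (ht : orderOf t = 2) (htS : t ∈ (S : Subgroup G))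
    (htZ : ∀ s ∈ (S : Subgroup G), s * t = t * s) (O : Subgroup G)
    (hO : O = (Cfsg.oddCore (Subgroup.centralizer ({t} : Set G))).map (Subgroup.centralizer ({t} : Set G)).subtype)
    (ha : O ≠ ⊥ → IsCyclic ((S : Subgroup G) ⊓ Subgroup.centralizer (O : Set G) : Subgroup G) ∧
      ((S : Subgroup G) ⊓ Subgroup.centralizer (O : Set G)).relIndex (S : Subgroup G) = 2)
    (hb : ∀ s ∈ (S : Subgroup G), s ∉ Subgroup.centralizer (O : Set G) → ∀ y ∈ O, s * y * s⁻¹ = y⁻¹)
    (hc : ∀ Y : Subgroup G, Y ≤ O → Y ≠ ⊥ → Subgroup.normalizer (Y : Set G) ≤ Subgroup.centralizer ({t} : Set G)) :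
    ∃ (F : Type) (_ : Field F) (_ : Fintype F), Odd (Fintype.card F) ∧
      Nonempty (G ≃* Matrix.ProjectiveSpecialLinearGroup (Fin 2) F) := by
  classical
  haveI : Fact (Nat.Prime 2) := ⟨Nat.prime_two⟩
  haveI : NeZero n := ⟨by omega⟩
  have hScard : Nat.card (S : Subgroup G) = 2 * n := by rw [Nat.card_congr e.toEquiv, DihedralGroup.nat_card]
  obtain ⟨k, hk⟩ : ∃ k, n = 2 ^ k := by
    obtain ⟨m, hm⟩ := IsPGroup.iff_card.1 S.isPGroup'
    rw [hScard] at hm
    rcases m with _ | m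
    · omega
    · exact ⟨m, by rw [pow_succ] at hm; omega⟩
  obtain ⟨ι, hι⟩ : ∃ ι : DihedralGroup n →* G, ι = (S : Subgroup G).subtype.comp e.symm.toMonoidHom :=
    ⟨_, rfl⟩
  have hιinj : Function.Injective ι := hι ▸ (S : Subgroup G).subtype_injective.comp e.symm.injective
  have hιr : ι.range = (S : Subgroup G) := by
    rw [hι, MonoidHom.range_comp, MonoidHom.range_eq_top.2 e.symm.surjective, ← MonoidHom.range_eq_map,
      Subgroup.range_subtype]
  have hfour_or : n = 2 ∨ 4 ∣ n := by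
    rcases k with _ | _ | k
    · rw [pow_zero] at hk; omega
    · left; omega
    · right; exact ⟨2 ^ k, by rw [hk]; ring⟩
  have hna : ∃ a b : G, a * b ≠ b * a := by
    by_contra hab
    push Not at hab
    letI : CommGroup G := { (inferInstance : Group G) with mul_comm := hab }
    have hp := IsSimpleGroup.prime_card (α := G)
    have h1 := (S : Subgroup G).card_subgroup_dvd_card
    rw [hScard] at h1
    rcases (Nat.dvd_prime hp).1 h1 with h2 | h2
    · omega
    · exact Nat.not_prime_mul (by norm_num) (by omega) (h2 ▸ hp)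
  obtain ⟨A, hA⟩ : ∃ A, Rot (S : Subgroup G) A t n := by
    rcases hfour_or with h2 | h4
    · subst h2
      exact ⟨_, exists_rot_klein hna S e ht htS htZ⟩
    · exact ⟨_, exists_rot_big hna S ι ⟨h4, ⟨k, hk⟩, hιinj, hιr⟩ ht htS htZ⟩
  obtain ⟨L, hLC, hLodd, hLn, hLS⟩ := hA.core
  obtain ⟨C, hCd⟩ : ∃ C, C = Subgroup.centralizer ({t} : Set G) := ⟨_, rfl⟩
  have hmC : ∀ x, x ∈ C ↔ x * t = t * x := fun x => hCd ▸ Subgroup.mem_centralizer_singleton_iff
  have hSC : (S : Subgroup G) ≤ C := fun x hx => (hmC x).2 (htZ x hx)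
  -- the core
  have hOC : O ≤ C := hO ▸ hCd ▸ Subgroup.map_subtype_le _
  have hOodd : ∀ w ∈ O, Odd (orderOf w) := by
    intro w hw
    rw [hO] at hw
    obtain ⟨v, hv, rfl⟩ := hw
    rw [Subgroup.coe_subtype, Subgroup.orderOf_coe]
    exact Nat.coprime_two_right.1 (Fusion.mem_pPrimeCore_orderOf hv)
  have hOn : ∀ c ∈ C, ∀ w ∈ O, c * w * c⁻¹ ∈ O := by
    intro c hc w hw
    rw [hO] at hw ⊢
    obtain ⟨v, hv, rfl⟩ := hw
    exact ⟨(⟨c, hCd ▸ hc⟩ : Subgroup.centralizer ({t} : Set G)) * v * (⟨c, hCd ▸ hc⟩)⁻¹,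
      (Solv.pPrimeCore_normal 2).conj_mem _ hv _, rfl⟩
  have hLO : L ≤ O := by
    intro w hw
    rw [hO]
    haveI : (L.subgroupOf (Subgroup.centralizer ({t} : Set G))).Normal := ⟨fun v hv c => hLn c c.2 v hv⟩
    refine ⟨⟨w, hLC hw⟩, Fusion.le_pPrimeCore
      (N := L.subgroupOf (Subgroup.centralizer ({t} : Set G))) ?_ hw, rfl⟩
    rw [Nat.card_congr (Subgroup.subgroupOfEquivOfLe hLC).toEquiv]
    exact Nat.coprime_two_right.2 hLodd
  have htwo : ∀ x ∈ (S : Subgroup G), Odd (orderOf x) → x = 1 := by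
    intro x hx ho
    obtain ⟨j, hj⟩ := S.isPGroup' ⟨x, hx⟩
    obtain ⟨i, -, hi⟩ := (Nat.dvd_prime_pow Nat.prime_two).1
      (orderOf_dvd_of_pow_eq_one (congrArg Subtype.val hj : x ^ 2 ^ j = 1))
    rcases i with _ | i
    · rwa [pow_zero, orderOf_eq_one_iff] at hi
    · rw [hi, pow_succ] at ho
      exact absurd ho (Nat.not_odd_iff_even.2 ⟨2 ^ i, by ring⟩)
  have hCsplit : ∀ c ∈ C, ∃ s ∈ (S : Subgroup G), ∃ w ∈ O, s * w = c := fun c hc => by
    obtain ⟨s, hs, w, hw, e'⟩ := hLS c (hCd ▸ hc)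
    exact ⟨s, hs, w, hLO hw, e'⟩
  -- `A` centralises `O`
  have hidx : (A.subgroupOf (S : Subgroup G)).index = 2 := by
    have h1 := (A.subgroupOf (S : Subgroup G)).card_mul_index
    rw [Nat.card_congr (Subgroup.subgroupOfEquivOfLe hA.le).toEquiv, hA.card, hScard, mul_comm 2 n] at h1
    exact Nat.eq_of_mul_eq_mul_left (by omega) h1
  have hAO : O ≠ ⊥ → (S : Subgroup G) ⊓ Subgroup.centralizer (O : Set G) = A := by
    intro hne
    obtain ⟨hcyc, hrel⟩ := ha hne
    obtain ⟨A', hA'⟩ : ∃ A', A' = (S : Subgroup G) ⊓ Subgroup.centralizer (O : Set G) := ⟨_, rfl⟩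
    rw [← hA'] at hcyc hrel ⊢
    have hA'S : A' ≤ (S : Subgroup G) := hA' ▸ inf_le_left
    have hcard' : Nat.card A' = n := by
      have h1 := (A'.subgroupOf (S : Subgroup G)).card_mul_index
      rw [Nat.card_congr (Subgroup.subgroupOfEquivOfLe hA'S).toEquiv, hScard,
        show (A'.subgroupOf (S : Subgroup G)).index = 2 from hrel] at h1
      omega
    obtain ⟨g, hg⟩ := hcyc
    have hgo : orderOf (g : G) = n := by
      rw [Subgroup.orderOf_coe, orderOf_eq_card_of_forall_mem_zpowers hg, hcard']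
    have hgA : (g : G) ∈ A := by
      refine hA.cyc _ (hA'S g.2) hgo ?_
      rcases hfour_or with h2 | h4
      · right
        have htA' : t ∈ A' := hA' ▸ Subgroup.mem_inf.2 ⟨htS, Subgroup.mem_centralizer_iff.2
          fun w hw => (hmC w).1 (hOC hw)⟩
        obtain ⟨j, hj⟩ := hg ⟨t, htA'⟩
        have hj' : (g : G) ^ j = t := congrArg Subtype.val hj
        have hgg : (g : G) * g = 1 := by rw [← sq, ← h2, ← hgo, pow_orderOf_eq_one]
        rcases Int.even_or_odd' j with ⟨i, rfl | rfl⟩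
        · rw [zpow_mul, zpow_ofNat, sq, hgg, one_zpow] at hj'
          rw [← hj', orderOf_one] at ht; omega
        · rwa [zpow_add, zpow_mul, zpow_ofNat, sq, hgg, one_zpow, one_mul, zpow_one] at hj'
      · left
        have := Nat.le_of_dvd (by omega) h4
        omega
    refine Subgroup.eq_of_le_of_card_ge (fun x hx => ?_) (by rw [hA.card, hcard'])
    obtain ⟨j, hj⟩ := hg ⟨x, hx⟩
    rw [show x = (g : G) ^ j from (congrArg Subtype.val hj).symm]
    exact zpow_mem hgA j
  have hAc : ∀ a ∈ A, ∀ w ∈ O, a * w = w * a := by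
    intro a haA w hw
    by_cases hne : O = ⊥
    · rw [hne, Subgroup.mem_bot] at hw; rw [hw, mul_one, one_mul]
    · rw [← hAO hne] at haA
      exact (Subgroup.mem_centralizer_iff.1 (Subgroup.mem_inf.1 haA).2 w hw).symm
  have hxO : ∀ x ∈ (S : Subgroup G), x ∉ A → ∀ w ∈ O, x * w * x⁻¹ = w⁻¹ := by
    intro x hx hxA w hw
    by_cases hne : O = ⊥
    · rw [hne, Subgroup.mem_bot] at hw; rw [hw]; group
    · exact hb x hx (fun h => hxA ((hAO hne) ▸ Subgroup.mem_inf.2 ⟨hx, h⟩)) w hw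
  obtain ⟨s, hsS, hsA⟩ : ∃ s ∈ (S : Subgroup G), s ∉ A := by
    by_contra hno
    push Not at hno
    have h1 := Subgroup.card_le_of_le hno
    rw [hScard, hA.card] at h1
    omega
  obtain ⟨hss, hsinv⟩ := hA.out s hsS hsA
  have hsi : s⁻¹ = s := inv_eq_of_mul_eq_one_right hss
  have hOab : ∀ v ∈ O, ∀ w ∈ O, v * w = w * v := by
    intro v hv w hw
    have h1 := hxO s hsS hsA (v * w) (mul_mem hv hw)
    rw [show s * (v * w) * s⁻¹ = (s * v * s⁻¹) * (s * w * s⁻¹) by group, hxO s hsS hsA v hv,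
      hxO s hsS hsA w hw, mul_inv_rev] at h1
    have h2 := congrArg Inv.inv h1
    simp only [mul_inv_rev, inv_inv] at h2
    exact h2.symm
  obtain ⟨K, hK⟩ : ∃ K : Subgroup G, ∀ x, x ∈ K ↔ ∃ a ∈ A, ∃ w ∈ O, a * w = x := by
    refine ⟨{ carrier := {x | ∃ a ∈ A, ∃ w ∈ O, a * w = x}
              one_mem' := ⟨1, one_mem _, 1, one_mem _, mul_one _⟩
              mul_mem' := ?_
              inv_mem' := ?_ }, fun x => Iff.rfl⟩
    · rintro _ _ ⟨a, ha', w, hw, rfl⟩ ⟨b, hb', v, hv, rfl⟩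
      exact ⟨a * b, mul_mem ha' hb', w * v, mul_mem hw hv, by
        rw [mul_assoc, ← mul_assoc b w v, hAc b hb' w hw]; group⟩
    · rintro _ ⟨a, ha', w, hw, rfl⟩
      exact ⟨a⁻¹, inv_mem ha', w⁻¹, inv_mem hw, by
        rw [mul_inv_rev, hAc a⁻¹ (inv_mem ha') w⁻¹ (inv_mem hw)]⟩
  have hKab : ∀ x ∈ K, ∀ y ∈ K, x * y = y * x := by
    intro x hx y hy
    obtain ⟨a, ha', w, hw, rfl⟩ := (hK x).1 hx
    obtain ⟨b, hb', v, hv, rfl⟩ := (hK y).1 hy
    have c1 : Commute a b := hA.comm a ha' b hb'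
    have c2 : Commute w v := hOab w hw v hv
    have c3 : Commute a v := hAc a ha' v hv
    have c4 : Commute w b := (hAc b hb' w hw).symm
    exact ((c1.mul_right c3).mul_left (c4.mul_right c2)).eq
  have hKC : K ≤ C := fun x hx => by
    obtain ⟨a, ha', w, hw, rfl⟩ := (hK x).1 hx
    exact mul_mem (hSC (hA.le ha')) (hOC hw)
  have hKinv : ∀ x ∈ K, s * x * s⁻¹ = x⁻¹ := by
    intro x hx
    obtain ⟨a, ha', w, hw, rfl⟩ := (hK x).1 hx
    rw [show s * (a * w) * s⁻¹ = (s * a * s⁻¹) * (s * w * s⁻¹) by group, hsinv a ha',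
      hxO s hsS hsA w hw, mul_inv_rev, hAc a⁻¹ (inv_mem ha') w⁻¹ (inv_mem hw)]
  have hK2 : ∀ x ∈ K, x * x = 1 → x = 1 ∨ x = t := by
    intro x hx hxx
    obtain ⟨a, ha', w, hw, rfl⟩ := (hK x).1 hx
    have e1 : a * a * (w * w) = 1 := by
      rw [← hxx]; exact Commute.mul_mul_mul_comm (hAc a ha' w hw) a w
    have h1 : a * a = 1 := by
      refine htwo _ (hA.le (mul_mem ha' ha')) ?_
      rw [eq_inv_of_mul_eq_one_left e1, orderOf_inv]
      exact hOodd _ (mul_mem hw hw)
    rw [h1, one_mul] at e1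
    have hw1 : w = 1 := by
      have h2 := orderOf_dvd_of_pow_eq_one (show w ^ 2 = 1 by rw [sq, e1])
      obtain ⟨j, hj⟩ := hOodd w hw
      rcases (Nat.dvd_prime Nat.prime_two).1 h2 with h3 | h3
      · exact orderOf_eq_one_iff.1 h3
      · omega
    rw [hw1, mul_one]
    exact hA.invol a ha' h1
  have hAK : ∀ a ∈ A, a ∈ K := fun a ha' => (hK a).2 ⟨a, ha', 1, one_mem _, mul_one a⟩
  have hOK : ∀ w ∈ O, w ∈ K := fun w hw => (hK w).2 ⟨1, one_mem _, w, hw, one_mul w⟩
  have htt : t * t = 1 := by rw [← sq, ← ht, pow_orderOf_eq_one]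
  have htK : t ∈ K := hAK t hA.tA
  have hsK : s ∉ K := by
    intro h
    obtain ⟨a, ha', w, hw, e'⟩ := (hK s).1 h
    have hwS : w ∈ (S : Subgroup G) := by
      rw [show w = a⁻¹ * s by rw [← e']; group]
      exact mul_mem (inv_mem (hA.le ha')) hsS
    rw [htwo w hwS (hOodd w hw), mul_one] at e'
    exact hsA (e' ▸ ha')
  have hso : orderOf s = 2 := orderOf_eq_prime (by rw [sq, hss]) fun e' => hsA (e' ▸ one_mem A)
  have hsup : K ⊔ Subgroup.zpowers s = C := by
    refine le_antisymm (sup_le hKC (Subgroup.zpowers_le.2 (hSC hsS))) fun c hc => ?_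
    obtain ⟨σ, hσ, w, hw, rfl⟩ := hCsplit c hc
    by_cases hσA : σ ∈ A
    · exact Subgroup.mem_sup_left (mul_mem (hAK σ hσA) (hOK w hw))
    · have hm : σ * s ∈ A := by
        have h := (Subgroup.mul_mem_iff_of_index_two hidx (a := (⟨σ, hσ⟩ : (S : Subgroup G))) (b := ⟨s, hsS⟩))
        simp only [Subgroup.mem_subgroupOf, Subgroup.coe_mul] at h
        exact h.2 ⟨fun h' => absurd h' hσA, fun h' => absurd h' hsA⟩
      have e' : σ * w = σ * s * w⁻¹ * s := by
        rw [← hxO s hsS hsA w hw, hsi, show σ * s * (s * w * s) * s = σ * (s * s) * w * (s * s) by group,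
          hss, mul_one, mul_one]
      rw [e']
      exact mul_mem (Subgroup.mem_sup_left (mul_mem (hAK _ hm) (hOK _ (inv_mem hw))))
        (Subgroup.mem_sup_right (Subgroup.mem_zpowers s))
  have hfix : K ⊓ Subgroup.centralizer ({s} : Set G) = Subgroup.zpowers t := by
    refine le_antisymm (fun x hx => ?_) (Subgroup.zpowers_le.2 (Subgroup.mem_inf.2 ⟨htK,
      Subgroup.mem_centralizer_singleton_iff.2 (htZ s hsS).symm⟩))
    obtain ⟨hxK, hxs⟩ := Subgroup.mem_inf.1 hx
    have h1 := hKinv x hxK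
    rw [← Subgroup.mem_centralizer_singleton_iff.1 hxs, mul_inv_cancel_right] at h1
    rcases hK2 x hxK (by nth_rw 2 [h1]; exact mul_inv_cancel x) with rfl | rfl
    · exact one_mem _
    · exact Subgroup.mem_zpowers x
  have hTI : ∀ g : G, g ∉ Subgroup.centralizer ({t} : Set G) →
      K ⊓ K.map (MulAut.conj g).toMonoidHom = ⊥ := by
    intro g hg
    rw [eq_bot_iff]
    intro y hy
    rw [Subgroup.mem_bot]
    by_contra hy1
    obtain ⟨hyK, hyg⟩ := Subgroup.mem_inf.1 hy
    apply hg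
    have hmap : ∀ z ∈ K, g * z * g⁻¹ ∈ K.map (MulAut.conj g).toMonoidHom := fun z hz =>
      ⟨z, hz, by simp⟩
    have key : g * t * g⁻¹ = t → g ∈ Subgroup.centralizer ({t} : Set G) := fun e' =>
      Subgroup.mem_centralizer_singleton_iff.2 (mul_inv_eq_iff_eq_mul.1 e')
    refine key ?_
    have hinv2 : (g * t * g⁻¹) * (g * t * g⁻¹) = 1 := by
      rw [show g * t * g⁻¹ * (g * t * g⁻¹) = g * (t * t) * g⁻¹ by group, htt]; group
    have hne1 : g * t * g⁻¹ ≠ 1 := fun e' => by
      rw [conj_eq_one_iff] at e'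
      rw [e', orderOf_one] at ht; omega
    rcases Nat.even_or_odd (orderOf y) with he | ho
    · obtain ⟨j, hj⟩ := he
      have hz2 : y ^ j * y ^ j = 1 := by rw [← pow_add, ← hj, pow_orderOf_eq_one]
      have hz1 : y ^ j ≠ 1 := fun e' => by
        have := orderOf_dvd_of_pow_eq_one e'
        have hpos := orderOf_pos y
        have := Nat.le_of_dvd (by omega) this
        omega
      rcases hK2 _ (pow_mem hyK j) hz2 with h | h
      · exact absurd h hz1
      · obtain ⟨z, hz, hze⟩ := (K.map (MulAut.conj g).toMonoidHom).pow_mem hyg j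
        have hze' : g * z * g⁻¹ = t := by rw [← h, ← hze]; simp
        rcases hK2 z hz (by
          have : z * z = g⁻¹ * (t * t) * g := by rw [← hze']; group
          rw [this, htt]; group) with h' | h'
        · rw [h', mul_one, mul_inv_cancel] at hze'
          rw [← hze', orderOf_one] at ht; omega
        · rwa [h'] at hze'
    · have hyO : y ∈ O := by
        obtain ⟨a, ha', w, hw, rfl⟩ := (hK y).1 hyK
        have ha1 : a = 1 := by
          refine htwo a (hA.le ha') ?_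
          obtain ⟨m, hm⟩ : ∃ m, m = orderOf (a * w) * orderOf w := ⟨_, rfl⟩
          have h1 : a ^ m = 1 := by
            have h2 : (a * w) ^ m = 1 := by rw [hm, pow_mul, pow_orderOf_eq_one, one_pow]
            rw [(show Commute a w from hAc a ha' w hw).mul_pow] at h2
            rwa [show w ^ m = 1 by rw [hm, mul_comm, pow_mul, pow_orderOf_eq_one, one_pow], mul_one] at h2
          exact Odd.of_dvd_nat (hm ▸ ho.mul (hOodd w hw)) (orderOf_dvd_of_pow_eq_one h1)
        rwa [ha1, one_mul]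
      have hY : Subgroup.zpowers y ≠ ⊥ := fun e' => hy1 (Subgroup.zpowers_eq_bot.1 e')
      obtain ⟨z, hz, hze⟩ := hyg
      have hcy : g * t * g⁻¹ * y = y * (g * t * g⁻¹) := by
        rw [← hze]
        simp only [MulEquiv.coe_toMonoidHom, MulAut.conj_apply]
        rw [show g * t * g⁻¹ * (g * z * g⁻¹) = g * (t * z) * g⁻¹ by group, hKab t htK z hz]; group
      have hgC : g * t * g⁻¹ ∈ C := by
        rw [hCd]
        refine hc _ (Subgroup.zpowers_le.2 hyO) hY ?_
        refine mem_norm_of_conj fun x hx => ?_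
        obtain ⟨i, rfl⟩ := hx
        rw [(Commute.zpow_right hcy i).eq, mul_inv_cancel_right]
        exact ⟨i, rfl⟩
      obtain ⟨σ, hσ, w, hw, hσw⟩ := hCsplit _ hgC
      have hσA : σ ∈ A := by
        by_contra hσA
        have h1 : σ * y * σ⁻¹ = y := by
          have h2 : σ = g * t * g⁻¹ * w⁻¹ := by rw [← hσw]; group
          have h3 : Commute (g * t * g⁻¹ * w⁻¹) y :=
            Commute.mul_left hcy (show Commute w y from hOab w hw y hyO).inv_left
          rw [h2, h3.eq, mul_inv_cancel_right]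
        rw [hxO σ hσ hσA y hyO] at h1
        have h4 : y * y = 1 := by nth_rw 1 [← h1]; exact inv_mul_cancel y
        rcases (Nat.dvd_prime Nat.prime_two).1 (orderOf_dvd_of_pow_eq_one (show y ^ 2 = 1 by rw [sq, h4]))
          with h5 | h5
        · exact hy1 (orderOf_eq_one_iff.1 h5)
        · rw [h5] at ho; exact absurd ho (by decide)
      rcases hK2 _ (hσw ▸ mul_mem (hAK σ hσA) (hOK w hw)) hinv2 with h | h
      · exact absurd h hne1
      · exact h
  obtain ⟨Q, D, h1, h2, h3, h4, h5, h6, -⟩ := Cfsg.Agent.S3282.result t ht K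
    ⟨⟨fun x y => Subtype.ext (hKab x x.2 y y.2)⟩⟩ (hCd ▸ hKC) htK s hso
    (hCd ▸ hSC hsS) hsK (hCd ▸ hsup) hfix hKinv hTI hA.oneClass
  obtain ⟨F, iF, iFF, ⟨φ⟩, hev⟩ := psl_of_structure hna Q D h1 h2 h3 h4 h5 h6
  refine ⟨F, iF, iFF, ?_, ⟨φ⟩⟩
  by_contra hF
  obtain ⟨f, hf, hsq, hsyl⟩ := sq_eq_one_of_even hF
  have hsqG : ∀ x ∈ (S : Subgroup G), x * x = 1 := by
    intro x hx
    obtain ⟨j, hj⟩ := S.isPGroup' ⟨x, hx⟩
    refine φ.injective ?_
    rw [map_mul, map_one]
    exact hsq _ ⟨j, by rw [← map_pow, show x ^ 2 ^ j = 1 from congrArg Subtype.val hj, map_one]⟩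
  rcases hfour_or with h2' | h4'
  · haveI : Finite (Matrix.ProjectiveSpecialLinearGroup (Fin 2) F) := Finite.of_equiv G φ.toEquiv
    have hS' : Nat.card (S : Subgroup G) = 2 ^ f := by
      have := hsyl default
      rwa [Sylow.card_eq_multiplicity, ← Nat.card_congr φ.toEquiv, ← Sylow.card_eq_multiplicity S] at this
    have hcF : Fintype.card F = 4 := by rw [hf, ← hS', hScard, h2']
    have h60 : Nat.card G = 60 := by
      have := Classical.Dickson.card_psl F
      rw [hcF, ← Nat.card_congr φ.toEquiv] at this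
      rw [show Nat.gcd 2 (4 - 1) = 1 from rfl, mul_one] at this
      rw [this]
      norm_num
    rw [h60] at h1
    have hq : Nat.card Q = 5 := by
      rw [← h4] at h1 ⊢
      obtain ⟨d, hd⟩ : ∃ d, d = Nat.card ↥D := ⟨_, rfl⟩
      rw [← hd] at h1 ⊢
      rcases (show d ≤ 1 ∨ d = 2 ∨ 3 ≤ d by omega) with hd' | hd' | hd'
      · interval_cases d <;> simp at h1
      · omega
      · exfalso
        have e1 : 2 * d + 1 - 1 = 2 * d := by omega
        rw [e1] at h1
        have h7 := Nat.mul_le_mul (Nat.mul_le_mul (show 7 ≤ 2 * d + 1 by omega) (show 8 ≤ 2 * d + 1 + 1 by omega))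
          (show 6 ≤ 2 * d by omega)
        omega
    exact hF (hev (show Even (Nat.card ↥D) from ⟨1, by omega⟩))
  · have hr : ι (r 1) ∈ (S : Subgroup G) := hιr ▸ ⟨_, rfl⟩
    have h' := hsqG _ hr
    rw [← map_mul, r_mul_r] at h'
    have h'' := hιinj (h'.trans (map_one ι).symm)
    rw [DihedralGroup.one_def] at h''
    have h''' : ((2 : ℕ) : ZMod n) = 0 := by push_cast; linear_combination r.inj h''
    have := Nat.le_of_dvd (by norm_num) ((ZMod.natCast_eq_zero_iff _ _).1 h''')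
    have := Nat.le_of_dvd (by omega) h4'
    omega

end Cfsg.Agent.Char.BSW
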