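import Cfsg.Agent.Lib.Char.BSW.Setup
import Cfsg.Agent.Lib.Char.Linear
import Cfsg.Agent.Lib.Char.Exceptional
import Cfsg.Agent.Lib.Char.IndValue

/-!
# The generalized characters induced from `1 - λ`
-/

set_option autoImplicit false
set_option linter.unusedSectionVars false
set_option linter.unusedVariables false
set_option linter.style.haveILetI false

namespace Cfsg.Agent.Char.BSW

open Cfsg
open scoped ComplexConjugate Classical

variable {G : Type*} [Group G] [Fintype G] {t s : G} {K : Subgroup G}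

/-- The linear character `l` as a member of the irreducible characters of `K`. -/
noncomputable def linC (l : ↥K →* ℂˣ) : IrrCharacter ↥K :=
  ⟨fun y => (l y : ℂ), isIrrCharacter_linear l⟩

/-- The function `1 - l` on `K`. -/
noncomputable def diffFun (l : ↥K →* ℂˣ) : ↥K → ℂ := fun y => 1 - (l y : ℂ)

/-- The induced generalized character. -/
noncomputable def phi (l : ↥K →* ℂˣ) : G → ℂ := indFun K (diffFun l)

theorem linC_injective : Function.Injective (linC (K := K)) := fun l l' e => by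
  ext y
  exact congrFun (congrArg Subtype.val e) y

theorem lin_orth (l l' : ↥K →* ℂˣ) :
    classInner (fun y : ↥K => (l y : ℂ)) (fun y => (l' y : ℂ)) = if l = l' then 1 else 0 := by
  have := irrC_orth (linC l) (linC l')
  by_cases e : l = l'
  · rw [if_pos e]; rwa [if_pos (congrArg linC e)] at this
  · rw [if_neg e]; rwa [if_neg (linC_injective.ne e)] at this

theorem lin_inv (l : ↥K →* ℂˣ) (y : ↥K) : ((l⁻¹ : ↥K →* ℂˣ) y : ℂ) = (l y⁻¹ : ℂ) := by
  rw [MonoidHom.inv_apply, map_inv]

theorem diffFun_one (l : ↥K →* ℂˣ) : diffFun l 1 = 0 := by simp [diffFun]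

theorem exists_mult (χ : IrrCharacter G) (l : ↥K →* ℂˣ) :
    ∃ m : ℕ, classInner (fun y : ↥K => (χ : G → ℂ) y) (fun y => (l y : ℂ)) = m :=
  classInner_natCast (isCharacter_comp K.subtype (irr_isCharacter χ.2)) (isCharacter_linear l)

/-- The multiplicity of `l` in the restriction of `χ`. -/
noncomputable def mult (χ : IrrCharacter G) (l : ↥K →* ℂˣ) : ℕ := (exists_mult χ l).choose

theorem mult_spec (χ : IrrCharacter G) (l : ↥K →* ℂˣ) :
    classInner (fun y : ↥K => (χ : G → ℂ) y) (fun y => (l y : ℂ)) = mult χ l :=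
  (exists_mult χ l).choose_spec

/-- The coefficient of `χ` in `phi l`. -/
noncomputable def coef (l : ↥K →* ℂˣ) (χ : IrrCharacter G) : ℤ :=
  (mult χ (1 : ↥K →* ℂˣ) : ℤ) - mult χ l

theorem coef_one (χ : IrrCharacter G) : coef (1 : ↥K →* ℂˣ) χ = 0 := sub_self _

theorem phi_coef (l : ↥K →* ℂˣ) (χ : IrrCharacter G) :
    classInner (phi l) (χ : G → ℂ) = (coef l χ : ℂ) := by
  have hd : diffFun l = (fun y : ↥K => ((1 : ↥K →* ℂˣ) y : ℂ)) - fun y : ↥K => (l y : ℂ) := by
    funext y; simp [diffFun]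
  rw [phi, frobenius K _ (isClassFunction_character (irr_isCharacter χ.2)), hd, classInner_sub_left,
    ← classInner_symm (fun y : ↥K => (χ : G → ℂ) y), ← classInner_symm (fun y : ↥K => (χ : G → ℂ) y),
    mult_spec, mult_spec, coef]
  simp

theorem phi_expand (l : ↥K →* ℂˣ) :
    phi l = ∑ χ : IrrCharacter G, (coef l χ : ℂ) • (χ : G → ℂ) := by
  conv_lhs => rw [classFun_expansion (isClassFunction_indFun K (diffFun l)) (f := phi l)]
  simp only [phi_coef]

theorem phi_one (l : ↥K →* ℂˣ) : phi l 1 = 0 := by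
  rw [phi, indFun_one, diffFun_one, mul_zero]

theorem phi_off (l : ↥K →* ℂˣ) {g : G} (hg : ∀ a : G, a⁻¹ * g * a ∈ K → a⁻¹ * g * a = 1) :
    phi l g = 0 := by
  rw [phi, indFun, Finset.sum_eq_zero, mul_zero]
  intro a _
  by_cases ha : a⁻¹ * g * a ∈ K
  · rw [extendByZero_mem K _ ha, show (⟨_, ha⟩ : ↥K) = 1 from Subtype.ext (hg a ha), diffFun_one]
  · exact extendByZero_not_mem K _ ha

theorem phi_on (h : Ctx t s K) (l : ↥K →* ℂˣ) (y : ↥K) :
    phi l (y : G) = diffFun l y + diffFun l y⁻¹ := by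
  rcases eq_or_ne y 1 with rfl | hy
  · rw [OneMemClass.coe_one, phi_one, inv_one, diffFun_one, add_zero]
  have hk : (Nat.card K : ℂ) ≠ 0 := Nat.cast_ne_zero.2 Nat.card_pos.ne'
  have hterm : ∀ a : G, extendByZero K (diffFun l) (a⁻¹ * (y : G) * a) =
      (if a ∈ K then diffFun l y else 0) + (if s * a ∈ K then diffFun l y⁻¹ else 0) := by
    intro a
    by_cases haH : a ∈ Subgroup.centralizer ({t} : Set G)
    · by_cases haK : a ∈ K
      · rw [if_pos haK, if_neg, add_zero]
        · have e : a⁻¹ * (y : G) * a = y := by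
            rw [mul_assoc, h.comm y y.2 a haK, ← mul_assoc, inv_mul_cancel, one_mul]
          rw [e, extendByZero_mem K _ y.2]
        · intro h'
          exact h.sK (by simpa using K.mul_mem h' (K.inv_mem haK))
      · rw [if_neg haK, if_pos ((h.mem_or haH).resolve_left haK), zero_add]
        have e : a⁻¹ * (y : G) * a = ((y⁻¹ : ↥K) : G) := by
          have := h.out_inv (inv_mem haH) (fun h' => haK (by simpa using K.inv_mem h')) y.2
          rw [inv_inv] at this
          exact this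
        rw [e, extendByZero_mem K _ (y⁻¹).2]
    · rw [if_neg (fun h' => haH (h.kle h')), if_neg, add_zero]
      · refine extendByZero_not_mem K _ fun h' => haH ?_
        have := h.mem_of_conj y.2 (fun e => hy (Subtype.ext e)) (g := a⁻¹) (by rwa [inv_inv])
        exact inv_mem_iff.1 this
      · intro h'
        refine haH ?_
        have e : a = s * (s * a) := by rw [← mul_assoc, h.s_sq, one_mul]
        rw [e]
        exact h.sK_mem h'
  have h1 : (Finset.univ.filter fun a : G => a ∈ K).card = Nat.card K := by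
    rw [Nat.card_eq_fintype_card, Fintype.card_subtype]
  have h2 : (Finset.univ.filter fun a : G => s * a ∈ K).card = Nat.card K := by
    rw [← h1]
    exact Finset.card_equiv (Equiv.mulLeft s) fun a => by simp
  rw [phi, indFun, Finset.sum_congr rfl fun a _ => hterm a, Finset.sum_add_distrib,
    ← Finset.sum_filter, ← Finset.sum_filter, Finset.sum_const, Finset.sum_const, h1, h2,
    nsmul_eq_mul, nsmul_eq_mul, ← mul_add, ← mul_assoc, inv_mul_cancel₀ hk, one_mul]

theorem phi_inner (h : Ctx t s K) (l l' : ↥K →* ℂˣ) (hl : l ≠ 1) (hl' : l' ≠ 1) :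
    classInner (phi l) (phi l') =
      2 + (if l = l' then 1 else 0) + (if l = l'⁻¹ then (1 : ℂ) else 0) := by
  rw [phi, frobenius K _ (χ := phi l') (isClassFunction_indFun K _)]
  have hd : diffFun l = (fun y : ↥K => ((1 : ↥K →* ℂˣ) y : ℂ)) - fun y : ↥K => (l y : ℂ) := by
    funext y; simp [diffFun]
  have hr : (fun y : ↥K => phi l' (y : G)) =
      ((fun y : ↥K => ((1 : ↥K →* ℂˣ) y : ℂ)) - fun y : ↥K => (l' y : ℂ)) +
      ((fun y : ↥K => ((1 : ↥K →* ℂˣ) y : ℂ)) - fun y : ↥K => ((l'⁻¹ : ↥K →* ℂˣ) y : ℂ)) := by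
    funext y
    rw [phi_on h]
    simp [diffFun]
  rw [hd, hr]
  simp only [classInner_sub_left, classInner_sub_right, classInner_add_right, lin_orth]
  have hl'' : ¬ ((1 : ↥K →* ℂˣ) = l'⁻¹) := fun e => hl' (MonoidHom.ext fun y => by
    have := congrArg (fun f : ↥K →* ℂˣ => f y) e
    simp only [MonoidHom.one_apply, MonoidHom.inv_apply] at this
    rw [MonoidHom.one_apply]; exact inv_eq_one.1 this.symm)
  rw [if_neg (Ne.symm hl'), if_neg hl, if_neg hl'']
  simp only [if_true]
  ring

theorem coef_inner (h : Ctx t s K) (l l' : ↥K →* ℂˣ) (hl : l ≠ 1) (hl' : l' ≠ 1) :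
    ∑ χ : IrrCharacter G, coef l χ * coef l' χ =
      2 + (if l = l' then 1 else 0) + (if l = l'⁻¹ then 1 else 0) := by
  have h1 := phi_inner h l l' hl hl'
  rw [phi_expand l, classInner_sum_left] at h1
  have h2 : ∀ χ : IrrCharacter G, classInner ((coef l χ : ℂ) • (χ : G → ℂ)) (phi l') =
      ((coef l χ * coef l' χ : ℤ) : ℂ) := by
    intro χ
    rw [classInner_smul_left, ← classInner_symm (phi l'), phi_coef]
    simp
  rw [Finset.sum_congr rfl fun χ _ => h2 χ, ← Int.cast_sum] at h1
  split_ifs at h1 ⊢ <;> norm_num at h1 ⊢ <;> exact_mod_cast h1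

/-- The trivial character of `G`. -/
noncomputable def oneC : IrrCharacter G := ⟨fun _ => 1, isIrrCharacter_one⟩

theorem coef_trivial {l : ↥K →* ℂˣ} (hl : l ≠ 1) : coef l (oneC (G := G)) = 1 := by
  have h1 := mult_spec (oneC (G := G)) l
  have h2 := mult_spec (oneC (G := G)) (1 : ↥K →* ℂˣ)
  have e : (fun y : ↥K => ((oneC (G := G)) : G → ℂ) y) = fun y : ↥K => ((1 : ↥K →* ℂˣ) y : ℂ) := by
    funext y; simp [oneC]
  rw [e, lin_orth] at h1 h2
  rw [if_neg (Ne.symm hl)] at h1
  rw [if_pos rfl] at h2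
  have e1 : mult (oneC (G := G)) l = 0 := by exact_mod_cast h1.symm
  have e2 : mult (oneC (G := G)) (1 : ↥K →* ℂˣ) = 1 := by exact_mod_cast h2.symm
  simp [coef, e1, e2]

/-- The characters of `K` as the linear characters. -/
theorem linC_surjective (h : Ctx t s K) : Function.Surjective (linC (K := K)) := by
  intro θ
  have hc : ∀ a b : ↥K, a * b = b * a := fun a b => Subtype.ext (h.comm a a.2 b b.2)
  obtain ⟨l, hl⟩ := exists_hom_of_degree_one (irr_isCharacter θ.2) (forall_linear_iff_comm.1 hc θ)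
  exact ⟨l, Subtype.ext (by rw [hl]; rfl)⟩

theorem card_dual (h : Ctx t s K) : Nat.card (↥K →* ℂˣ) = Nat.card K := by
  rw [card_hom_units]
  have : commutator ↥K = ⊥ := by
    rw [commutator_def, eq_bot_iff, Subgroup.commutator_le]
    intro a _ b _
    rw [Subgroup.mem_bot, commutatorElement_eq_one_iff_mul_comm]
    exact Subtype.ext (h.comm a a.2 b b.2)
  rw [this, Subgroup.index_bot]

noncomputable instance : Fintype (↥K →* ℂˣ) := Fintype.ofInjective _ (linC_injective (K := K))

theorem dual_sum (h : Ctx t s K) (y : ↥K) :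
    ∑ l : ↥K →* ℂˣ, (l y : ℂ) = if y = 1 then (Nat.card K : ℂ) else 0 := by
  have hbij : Function.Bijective (linC (K := K)) := ⟨linC_injective, linC_surjective h⟩
  have h1 := second_orth (G := ↥K) y 1
  rw [← hbij.sum_comp (fun χ : IrrCharacter ↥K => (χ : ↥K → ℂ) y * conj ((χ : ↥K → ℂ) 1))] at h1
  simp only [linC, map_one, Units.val_one, mul_one] at h1
  rw [h1]
  by_cases hy : y = 1
  · subst hy
    rw [if_pos (IsConj.refl _), if_pos rfl]
    have hsub : Subsingleton {x : ↥K // IsConj 1 x} :=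
      ⟨fun a b => Subtype.ext ((isConj_one_right.1 a.2).trans (isConj_one_right.1 b.2).symm)⟩
    haveI : Nonempty {x : ↥K // IsConj 1 x} := ⟨⟨1, IsConj.refl _⟩⟩
    rw [Nat.card_eq_one_iff_unique.2 ⟨hsub, inferInstance⟩, Nat.cast_one, div_one]
  · rw [if_neg (fun e => hy (isConj_one_left.1 e)), if_neg hy]

/-- Restriction to `K` is read off the coefficients. -/
theorem char_on (h : Ctx t s K) (χ : IrrCharacter G) (y : ↥K) :
    (χ : G → ℂ) (y : G) = (mult χ (1 : ↥K →* ℂˣ) : ℂ) * (if y = 1 then (Nat.card K : ℂ) else 0) -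
      ∑ l : ↥K →* ℂˣ, (coef l χ : ℂ) * (l y : ℂ) := by
  have hbij : Function.Bijective (linC (K := K)) := ⟨linC_injective, linC_surjective h⟩
  have h1 := congrFun (char_expansion (isCharacter_comp K.subtype (irr_isCharacter χ.2))) y
  simp only [Finset.sum_apply, Pi.smul_apply, smul_eq_mul] at h1
  rw [← hbij.sum_comp (fun θ : IrrCharacter ↥K =>
    classInner ((χ : G → ℂ) ∘ ⇑K.subtype) (θ : ↥K → ℂ) * (θ : ↥K → ℂ) y)] at h1
  rw [show (χ : G → ℂ) (y : G) = ((χ : G → ℂ) ∘ ⇑K.subtype) y from rfl, h1, ← dual_sum h y,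
    Finset.mul_sum, ← Finset.sum_sub_distrib]
  refine Finset.sum_congr rfl fun l _ => ?_
  rw [show classInner ((χ : G → ℂ) ∘ ⇑K.subtype) (linC l : ↥K → ℂ) = (mult χ l : ℂ) from mult_spec χ l]
  rw [coef]
  simp [linC]
  ring

theorem coef_sym (h : Ctx t s K) (l : ↥K →* ℂˣ) (χ : IrrCharacter G) :
    coef l⁻¹ χ = coef l χ := by
  have e : phi l⁻¹ = phi l := by
    funext g
    simp only [phi, indFun]
    congr 1
    refine (Fintype.sum_equiv (Equiv.mulRight s) _ _ fun a => ?_).symm
    simp only [Equiv.coe_mulRight, mul_inv_rev]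
    by_cases ha : a⁻¹ * g * a ∈ K
    · have e' : s⁻¹ * a⁻¹ * g * (a * s) = (a⁻¹ * g * a)⁻¹ := by
        rw [h.s_inv, ← h.sxs ha]; simp [mul_assoc]
      rw [e', extendByZero_mem K _ ha, extendByZero_mem K _ (K.inv_mem ha)]
      simp only [diffFun, lin_inv]
      congr 2
      congr 1
      exact Subtype.ext (by simp [mul_assoc])
    · rw [extendByZero_not_mem K _ ha, extendByZero_not_mem]
      intro h'
      refine ha ?_
      have := K.inv_mem h'
      have e' : a⁻¹ * g * a = s * (s⁻¹ * a⁻¹ * g * (a * s)) * s⁻¹ := by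
        rw [h.s_inv]; simp [mul_assoc, ← mul_assoc s s, h.s_sq]
      rw [e', h.inv _ h']
      exact this
  have h1 := phi_coef l⁻¹ χ
  rw [e, phi_coef] at h1
  exact_mod_cast h1.symm

end Cfsg.Agent.Char.BSW
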