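import Cfsg.Agent.Lib.Char.BSW.Chars
import Cfsg.Agent.Lib.Solv.BrauerReynoldsEven

/-!
# Pairs of involutions with a given product
-/

set_option autoImplicit false
set_option linter.unusedSectionVars false
set_option linter.unusedVariables false
set_option linter.style.haveILetI false

namespace Cfsg.Agent.Char.BSW

open Cfsg
open scoped ComplexConjugate Classical

variable {G : Type*} [Group G] [Fintype G] {t s : G} {K : Subgroup G}

/-- The number of involutions `u` with `u * g` again an involution. -/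
noncomputable def invCount (t g : G) : ℕ := Nat.card {u : G // IsConj t u ∧ IsConj t (u * g)}

/-- The weight `|χ(t)|² / χ(1)`. -/
noncomputable def wgt (t : G) (χ : IrrCharacter G) : ℂ :=
  (χ : G → ℂ) t * conj ((χ : G → ℂ) t) / (χ : G → ℂ) 1

theorem invCount_formula (h : Ctx t s K) (g : G) :
    (2 * Nat.card K : ℂ) * invCount t g =
      ((Subgroup.centralizer ({t} : Set G)).index : ℂ) *
        ∑ χ : IrrCharacter G, wgt t χ * (χ : G → ℂ) g := by
  have hn : (Nat.card {x : G // IsConj t x} : ℂ) = ((Subgroup.centralizer ({t} : Set G)).index : ℂ) := by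
    rw [h.card_invol]
  have hn0 : ((Subgroup.centralizer ({t} : Set G)).index : ℂ) ≠ 0 :=
    Nat.cast_ne_zero.2 Subgroup.index_ne_zero_of_finite
  have h1 : ∑ χ : IrrCharacter G, (∑ x : G with IsConj t x, (χ : G → ℂ) (x * g)) * conj ((χ : G → ℂ) t) =
      ((Subgroup.centralizer ({t} : Set G)).index : ℂ) *
        ∑ χ : IrrCharacter G, wgt t χ * (χ : G → ℂ) g := by
    rw [Finset.mul_sum]
    refine Finset.sum_congr rfl fun χ _ => ?_
    rw [Cfsg.Agent.Solv.BReyn.sum_class_mul χ t g, hn, wgt]
    ring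
  rw [← h1]
  simp only [Finset.sum_mul]
  rw [Finset.sum_comm]
  simp only [second_orth]
  rw [← Finset.sum_filter, Finset.sum_const, nsmul_eq_mul, hn, Finset.filter_filter]
  have hc : (Finset.univ.filter fun x : G => IsConj t x ∧ IsConj (x * g) t).card = invCount t g := by
    rw [invCount, Nat.card_eq_fintype_card, Fintype.card_subtype]
    congr 1
    ext x
    simp only [Finset.mem_filter, Finset.mem_univ, true_and]
    exact and_congr_right fun _ => ⟨IsConj.symm, IsConj.symm⟩
  rw [hc, h.card_eq]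
  push_cast
  field_simp

theorem invCount_on (h : Ctx t s K) {y : G} (hy : y ∈ K) (hy1 : y ≠ 1) :
    invCount t y = Nat.card K := by
  rw [invCount]
  have key : ∀ u : G, (IsConj t u ∧ IsConj t (u * y)) ↔
      (u ∈ Subgroup.centralizer ({t} : Set G) ∧ u ∉ K) := by
    intro u
    constructor
    · rintro ⟨hu, huy⟩
      rw [h.isConj_iff_order] at hu huy
      have hu2 : u * u = 1 := by rw [← sq, ← hu, pow_orderOf_eq_one]
      have huy2 : u * y * (u * y) = 1 := by rw [← sq, ← huy, pow_orderOf_eq_one]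
      have e : u * y * u⁻¹ = y⁻¹ := by
        rw [inv_eq_of_mul_eq_one_right hu2, eq_inv_iff_mul_eq_one]
        simpa [mul_assoc] using huy2
      have hH := h.mem_of_conj hy hy1 (g := u) (by rw [e]; exact K.inv_mem hy)
      refine ⟨hH, fun huK => ?_⟩
      rcases h.inv_in_K huK hu2 with e' | e'
      · simp [e'] at hu
      · subst e'
        rw [h.comm u huK y hy, mul_inv_cancel_right] at e
        have hyy : y * y = 1 := by nth_rewrite 2 [e]; exact mul_inv_cancel y
        rcases h.inv_in_K hy hyy with e' | e'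
        · exact hy1 e'
        · simp [e', h.t_sq] at huy
    · rintro ⟨hu, huK⟩
      refine ⟨(h.invol_in_H hu).2 (Or.inr huK), (h.invol_in_H (mul_mem hu (h.kle hy))).2 (Or.inr ?_)⟩
      intro h'
      exact huK (by simpa using K.mul_mem h' (K.inv_mem hy))
  rw [Nat.card_congr (Equiv.subtypeEquivRight key)]
  refine Nat.card_congr ((Equiv.mulLeft s).subtypeEquiv fun u => ?_)
  simp only [Equiv.coe_mulLeft]
  constructor
  · exact fun hu => (h.mem_or hu.1).resolve_left hu.2
  · intro hu
    have e : u = s * (s * u) := by rw [← mul_assoc, h.s_sq, one_mul]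
    rw [e]
    exact ⟨h.sK_mem hu, h.sK_not_mem hu⟩

/-- The basic equation attached to a non-trivial linear character of `K`. -/
theorem basic_equation (h : Ctx t s K) {l : ↥K →* ℂˣ} (hl : l ≠ 1) :
    ((Subgroup.centralizer ({t} : Set G)).index : ℂ) *
      ∑ χ : IrrCharacter G, (coef l χ : ℂ) * wgt t χ = 2 * (Nat.card K : ℂ) ^ 2 := by
  have hk : (Nat.card K : ℂ) ≠ 0 := Nat.cast_ne_zero.2 Nat.card_pos.ne'
  have hsum : ∑ y : ↥K, diffFun l y⁻¹ = (Nat.card K : ℂ) := by
    have h2 := lin_orth l (1 : ↥K →* ℂˣ)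
    rw [if_neg hl, classInner, mul_eq_zero] at h2
    have h3 := h2.resolve_left (inv_ne_zero hk)
    simp only [MonoidHom.one_apply, Units.val_one, map_one, mul_one] at h3
    rw [show ∑ y : ↥K, diffFun l y⁻¹ = ∑ y : ↥K, diffFun l y from
      Fintype.sum_equiv (Equiv.inv _) _ _ fun y => rfl]
    simp only [diffFun, Finset.sum_sub_distrib, Finset.sum_const, Finset.card_univ, nsmul_one, h3,
      sub_zero, ← Nat.card_eq_fintype_card]
  have hχ : ∀ χ : IrrCharacter G,
      ∑ y : ↥K, diffFun l y⁻¹ * (χ : G → ℂ) (y : G) = (Nat.card K : ℂ) * (coef l χ : ℂ) := by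
    intro χ
    have h2 := phi_coef l χ
    rw [phi, frobenius K _ (isClassFunction_character (irr_isCharacter χ.2)), classInner,
      inv_mul_eq_iff_eq_mul₀ hk] at h2
    rw [← h2]
    refine Fintype.sum_equiv (Equiv.inv _) _ _ fun y => ?_
    rw [← char_inv (irr_isCharacter χ.2)]
    simp
  have hleft : ∑ y : ↥K, diffFun l y⁻¹ * ((2 * Nat.card K : ℂ) * invCount t (y : G)) =
      (2 * Nat.card K : ℂ) * (Nat.card K : ℂ) * (Nat.card K : ℂ) := by
    rw [show (2 * Nat.card K : ℂ) * (Nat.card K : ℂ) * (Nat.card K : ℂ) =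
      (2 * Nat.card K : ℂ) * (Nat.card K : ℂ) * ∑ y : ↥K, diffFun l y⁻¹ by rw [hsum], Finset.mul_sum]
    refine Finset.sum_congr rfl fun y _ => ?_
    rcases eq_or_ne y 1 with rfl | hy
    · simp [diffFun_one]
    · rw [invCount_on h y.2 (fun e => hy (Subtype.ext e))]
      ring
  simp only [invCount_formula h, Finset.mul_sum] at hleft
  rw [Finset.sum_comm] at hleft
  refine mul_left_cancel₀ hk ?_
  rw [Finset.mul_sum, Finset.mul_sum]
  rw [show (Nat.card K : ℂ) * (2 * (Nat.card K : ℂ) ^ 2) =
    (2 * Nat.card K : ℂ) * (Nat.card K : ℂ) * (Nat.card K : ℂ) by ring, ← hleft]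
  refine Finset.sum_congr rfl fun χ _ => ?_
  rw [show (Nat.card K : ℂ) * (((Subgroup.centralizer ({t} : Set G)).index : ℂ) *
    ((coef l χ : ℂ) * wgt t χ)) = ((Subgroup.centralizer ({t} : Set G)).index : ℂ) * wgt t χ *
    ((Nat.card K : ℂ) * (coef l χ : ℂ)) by ring, ← hχ, Finset.mul_sum]
  exact Finset.sum_congr rfl fun y _ => by ring

end Cfsg.Agent.Char.BSW
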