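import Cfsg.Agent.Lib.Char.BSW.Star
import Cfsg.Agent.S0165

/-!
# Degrees, order and values off `K`
-/

set_option autoImplicit false
set_option linter.unusedSectionVars false
set_option linter.unusedVariables false
set_option linter.style.haveILetI false

namespace Cfsg.Agent.Char.BSW

open Cfsg
open scoped ComplexConjugate Classical

variable {G : Type*} [Group G]

/-- The elements conjugate into `K`. -/
def InK (K : Subgroup G) (g : G) : Prop := ∃ a : G, a⁻¹ * g * a ∈ K

variable [Fintype G] {t s : G} {K : Subgroup G}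

theorem exists_int_arith {n k : ℕ} (hn : Odd n) (hk : 2 ∣ k) (hk4 : 4 ≤ k) (j : ℤ)
    (hE : (n : ℤ) * ((1 + j * k) - 1) ^ 2 = 2 * (k : ℤ) ^ 2 * (1 + j * k) * ((1 + j * k) + 1)) :
    ∃ i : ℤ, (i = 1 ∨ i = -1) ∧ j = 2 * i ∧ (n : ℤ) = (2 * k + i) * (k + i) := by
  have hk0 : (k : ℤ) ^ 2 ≠ 0 := pow_ne_zero _ (by omega)
  have h1 : (n : ℤ) * j ^ 2 = 2 * (1 + j * k) * (2 + j * k) :=
    mul_left_cancel₀ hk0 (by linear_combination hE)
  obtain ⟨k', rfl⟩ := hk
  have hj : (2 : ℤ) ∣ j := by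
    have h2 : (2 : ℤ) ∣ (n : ℤ) * j ^ 2 := ⟨(1 + j * ↑(2 * k')) * (2 + j * ↑(2 * k')), by rw [h1]; ring⟩
    rcases Int.prime_two.dvd_mul.1 h2 with h3 | h3
    · exfalso
      have h4 : 2 ∣ n := by exact_mod_cast h3
      rw [Nat.odd_iff] at hn
      omega
    · exact Int.prime_two.dvd_of_dvd_pow h3
  obtain ⟨i, rfl⟩ := hj
  have h2 : (n : ℤ) * i ^ 2 = (1 + 2 * i * ↑(2 * k')) * (1 + i * ↑(2 * k')) :=
    mul_left_cancel₀ (show (4 : ℤ) ≠ 0 by norm_num) (by linear_combination h1)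
  have hc : IsCoprime i ((1 + 2 * i * ↑(2 * k')) * (1 + i * ↑(2 * k'))) :=
    IsCoprime.mul_right ⟨-(2 * ↑(2 * k')), 1, by ring⟩ ⟨-↑(2 * k'), 1, by ring⟩
  have hu : IsUnit i := hc.isUnit_of_dvd' dvd_rfl ⟨(n : ℤ) * i, by rw [← h2]; ring⟩
  rw [Int.isUnit_iff] at hu
  refine ⟨i, hu, rfl, ?_⟩
  rcases hu with rfl | rfl
  · linear_combination h2
  · linear_combination h2

theorem mult_one_eq (h : Ctx t s K) (χ : IrrCharacter G) :
    ((deg (χ : G → ℂ) : ℤ)) = (mult χ (1 : ↥K →* ℂˣ) : ℤ) * (Nat.card K : ℤ) -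
      ∑ l : ↥K →* ℂˣ, coef l χ := by
  have h1 := char_on h χ 1
  rw [OneMemClass.coe_one, char_one_eq_deg (irr_isCharacter χ.2), if_pos rfl] at h1
  simp only [map_one, Units.val_one, mul_one] at h1
  exact_mod_cast h1

section Star

variable {e : ↥K →* ℂˣ} {X Z W : IrrCharacter G} {a ez ew : ℤ}
  {Y : (↥K →* ℂˣ) → IrrCharacter G} {b : (↥K →* ℂˣ) → ℤ}

theorem Star.e_not_mem (H : Star K e X Z W a ez ew Y b) : e ∉ nonReal K :=
  fun h => (mem_nonReal.1 h).2 H.e_inv

theorem Star.sum_dual (H : Star K e X Z W a ez ew Y b) {M : Type*} [AddCommMonoid M]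
    (F : (↥K →* ℂˣ) → M) : ∑ l, F l = F 1 + (F e + ∑ l ∈ nonReal K, F l) := by
  have h1 : (Finset.univ : Finset (↥K →* ℂˣ)) = insert 1 (insert e (nonReal K)) := by
    ext l
    simp only [Finset.mem_univ, Finset.mem_insert, mem_nonReal, true_iff]
    by_cases hl : l⁻¹ = l
    · rcases H.e_uniq l hl with r | r <;> tauto
    · by_cases h1 : l = 1 <;> tauto
  rw [h1, Finset.sum_insert (by simp [Ne.symm H.e_ne, mem_nonReal]),
    Finset.sum_insert H.e_not_mem]

theorem Star.card_nonReal (H : Star K e X Z W a ez ew Y b) (h : Ctx t s K) :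
    (nonReal K).card + 2 = Nat.card K := by
  have h1 := H.sum_dual (fun _ => 1)
  simp only [Finset.sum_const, smul_eq_mul, mul_one, Finset.card_univ, ← Nat.card_eq_fintype_card,
    card_dual h] at h1
  omega

theorem Star.coef_eX (H : Star K e X Z W a ez ew Y b) : coef e X = a := by
  rw [H.coef_e]; simp [H.X_one, H.XZ, H.XW]

theorem Star.coef_lX (H : Star K e X Z W a ez ew Y b) {l : ↥K →* ℂˣ} (hl : l ∈ nonReal K) :
    coef l X = a := by
  rw [H.coef_l l hl]; simp [H.X_one, Ne.symm (H.Y_ne l hl).2.1]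

theorem Star.sum_coef_X (H : Star K e X Z W a ez ew Y b) (h : Ctx t s K) :
    ∑ l : ↥K →* ℂˣ, coef l X = a * ((Nat.card K : ℤ) - 1) := by
  rw [H.sum_dual, coef_one, H.coef_eX, Finset.sum_congr rfl fun l hl => H.coef_lX hl,
    Finset.sum_const, nsmul_eq_mul, ← H.card_nonReal h]
  push_cast
  ring

/-- The value of `X` on `K`. -/
theorem Star.X_on (H : Star K e X Z W a ez ew Y b) (h : Ctx t s K) {y : ↥K} (hy : y ≠ 1) :
    (X : G → ℂ) (y : G) = a := by
  have h0 := dual_sum h y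
  rw [if_neg hy, H.sum_dual] at h0
  simp only [MonoidHom.one_apply, Units.val_one] at h0
  rw [char_on h X y, if_neg hy, mul_zero, zero_sub, H.sum_dual, coef_one, H.coef_eX,
    Finset.sum_congr rfl (g := fun l => (a : ℂ) * (l y : ℂ)) fun l hl => by rw [H.coef_lX hl],
    ← Finset.mul_sum]
  push_cast
  linear_combination -(a : ℂ) * h0

theorem Star.val_t (H : Star K e X Z W a ez ew Y b) (h : Ctx t s K) (χ : IrrCharacter G) :
    (χ : G → ℂ) t * conj ((χ : G → ℂ) t) =
      (if χ = oneC then (1 : ℂ) else 0) + (if χ = X then 1 else 0) + (if χ = Z then 1 else 0) +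
      (if χ = W then 1 else 0) + ∑ l ∈ nonReal K, if χ = Y l then 2 else 0 := by
  set T : ↥K := ⟨t, h.tK⟩ with hT
  have hT1 : T ≠ 1 := fun e' => h.t_ne (congrArg Subtype.val e')
  have hv : (χ : G → ℂ) t =
      -((coef e χ : ℂ) * (e T : ℂ) + ∑ l ∈ nonReal K, (coef l χ : ℂ) * (l T : ℂ)) := by
    rw [show (χ : G → ℂ) t = (χ : G → ℂ) (T : G) from rfl, char_on h χ T, if_neg hT1, H.sum_dual,
      coef_one]
    push_cast
    ring
  by_cases a1 : χ = oneC
  · subst a1
    rw [Finset.sum_eq_zero fun l hl => if_neg (Ne.symm (H.Y_ne l hl).1)]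
    rw [show ((oneC : IrrCharacter G) : G → ℂ) t = 1 from rfl]
    simp [Ne.symm H.X_one, Ne.symm H.Z_one, Ne.symm H.W_one]
  by_cases a2 : χ = X
  · subst a2
    rw [Finset.sum_eq_zero fun l hl => if_neg (Ne.symm (H.Y_ne l hl).2.1),
      show (χ : G → ℂ) t = (χ : G → ℂ) (T : G) from rfl, H.X_on h hT1]
    rcases H.ha with r | r <;> simp [a1, H.XZ, H.XW, r]
  by_cases a3 : χ = Z
  · subst a3
    have hz : ∀ l ∈ nonReal K, coef l χ = 0 := fun l hl => by
      rw [H.coef_l l hl]; simp [a1, a2, Ne.symm (H.Y_ne l hl).2.2.1]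
    rw [Finset.sum_eq_zero fun l hl => if_neg (Ne.symm (H.Y_ne l hl).2.2.1)]
    rw [hv, Finset.sum_eq_zero fun l hl => by rw [hz l hl]; simp, H.coef_e]
    rcases H.hez with r | r <;> rcases val_t_sign h e with r' | r' <;> rw [← hT] at r' <;>
      simp [a1, a2, H.ZW, r, r']
  by_cases a4 : χ = W
  · subst a4
    have hz : ∀ l ∈ nonReal K, coef l χ = 0 := fun l hl => by
      rw [H.coef_l l hl]; simp [a1, a2, Ne.symm (H.Y_ne l hl).2.2.2]
    rw [Finset.sum_eq_zero fun l hl => if_neg (Ne.symm (H.Y_ne l hl).2.2.2)]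
    rw [hv, Finset.sum_eq_zero fun l hl => by rw [hz l hl]; simp, H.coef_e]
    rcases H.hew with r | r <;> rcases val_t_sign h e with r' | r' <;> rw [← hT] at r' <;>
      simp [a1, a2, a3, r, r']
  have he0 : coef e χ = 0 := by rw [H.coef_e]; simp [a1, a2, a3, a4]
  simp only [a1, a2, a3, a4, if_false, zero_add]
  by_cases a5 : ∃ l ∈ nonReal K, χ = Y l
  · obtain ⟨l, hl, rfl⟩ := a5
    have hl2 := inv_mem_nonReal hl
    have hYi : Y l⁻¹ = Y l ∧ b l⁻¹ = b l := by
      have h1 := coef_sym h l (Y l)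
      rw [H.coef_l _ hl2, H.coef_l _ hl] at h1
      simp only [a1, a2, if_false, zero_add, if_true] at h1
      by_cases r : Y l = Y l⁻¹
      · exact ⟨r.symm, by rw [if_pos r] at h1; exact h1⟩
      · rw [if_neg r] at h1
        rcases H.hb l hl with r' | r' <;> omega
    have hpair : ∀ {M : Type} [AddCommMonoid M] (F : (↥K →* ℂˣ) → M),
        (∀ m ∈ nonReal K, Y l ≠ Y m → F m = 0) → ∑ m ∈ nonReal K, F m = F l + F l⁻¹ := by
      intro M _ F hF
      rw [← Finset.sum_pair (Ne.symm (mem_nonReal.1 hl).2)]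
      refine (Finset.sum_subset ?_ ?_).symm
      · intro m hm
        simp only [Finset.mem_insert, Finset.mem_singleton] at hm
        rcases hm with rfl | rfl
        · exact hl
        · exact hl2
      · intro m hm hm'
        refine hF m hm fun r => hm' ?_
        simp [H.Y_inj l hl m hm r]
    rw [hpair (fun m => if Y l = Y m then (2 : ℂ) else 0) (fun m _ r => if_neg r), hv, he0,
      hpair (fun m => (coef m (Y l) : ℂ) * (m T : ℂ)) (fun m hm r => by
        rw [H.coef_l m hm]; simp [a1, a2, r]), coef_sym h l, lin_inv,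
      show T⁻¹ = T from Subtype.ext h.t_inv, H.coef_l l hl, hYi.1]
    simp only [a1, a2, if_false, if_true, zero_add]
    rcases H.hb l hl with r | r <;> rcases val_t_sign h l with r' | r' <;> rw [← hT] at r' <;>
      simp [r, r'] <;> norm_num
  · push Not at a5
    rw [hv, he0, Finset.sum_eq_zero fun l hl => by rw [H.coef_l l hl]; simp [a1, a2, a5 l hl],
      Finset.sum_eq_zero fun l hl => if_neg (a5 l hl)]
    simp

theorem Star.weighted (H : Star K e X Z W a ez ew Y b) (h : Ctx t s K) (F : IrrCharacter G → ℂ) :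
    ∑ χ : IrrCharacter G, (χ : G → ℂ) t * conj ((χ : G → ℂ) t) * F χ =
      F oneC + F X + F Z + F W + 2 * ∑ l ∈ nonReal K, F (Y l) := by
  simp only [H.val_t h, add_mul, Finset.sum_add_distrib, Finset.sum_mul]
  rw [Finset.sum_comm (s := Finset.univ) (t := nonReal K), Finset.mul_sum]
  simp [ite_mul]

theorem Star.sum_l (H : Star K e X Z W a ez ew Y b) {l : ↥K →* ℂˣ} (hl : l ∈ nonReal K)
    {R : Type*} [CommRing R] (F : IrrCharacter G → R) :
    ∑ χ : IrrCharacter G, (coef l χ : R) * F χ = F oneC + (a : R) * F X + (b l : R) * F (Y l) := by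
  rw [show (∑ χ : IrrCharacter G, (coef l χ : R) * F χ) = ∑ χ : IrrCharacter G,
      ((if χ = oneC then (1 : R) else 0) + (if χ = X then (a : R) else 0) +
        (if χ = Y l then (b l : R) else 0)) * F χ from
      Finset.sum_congr rfl fun χ _ => by rw [H.coef_l l hl]; push_cast; rfl, sum_ite3, one_mul]

theorem Star.sum_e (H : Star K e X Z W a ez ew Y b) {R : Type*} [CommRing R]
    (F : IrrCharacter G → R) :
    ∑ χ : IrrCharacter G, (coef e χ : R) * F χ =
      F oneC + (a : R) * F X + (ez : R) * F Z + (ew : R) * F W := by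
  simp only [H.coef_e, Int.cast_add, add_mul, Finset.sum_add_distrib, Int.cast_ite, Int.cast_one,
    Int.cast_zero, ite_mul, zero_mul, Finset.sum_ite_eq', Finset.mem_univ, if_true, one_mul]

end Star

theorem deg_oneC : deg ((oneC : IrrCharacter G) : G → ℂ) = 1 := by
  have := char_one_eq_deg (irr_isCharacter (oneC : IrrCharacter G).2)
  simp only [oneC] at this ⊢
  exact_mod_cast this.symm

theorem defect_zero_vanish {p : ℕ} (hp : p.Prime) {χ : IrrCharacter G}
    (hd : p ^ (Nat.card G).factorization p ∣ deg (χ : G → ℂ)) {g : G} (hg : p ∣ orderOf g) :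
    (χ : G → ℂ) g = 0 := by
  obtain ⟨n, ρ, hρ, he⟩ := χ.2
  haveI := hρ
  rw [← he]
  refine Cfsg.Agent.S0165.result ρ p ((Nat.card G).factorization p) hp (Nat.ordProj_dvd _ _) ?_ ?_ g hg
  · exact Nat.pow_succ_factorization_not_dvd Nat.card_pos.ne' hp
  · rwa [← deg_character ρ, he]

theorem inK_of_order (h : Ctx t s K) {g : G} (hg : g ≠ 1) {p : ℕ} (hp : p.Prime)
    (hpn : ¬ p ∣ (Subgroup.centralizer ({t} : Set G)).index) (hpg : p ∣ orderOf g) : InK K g := by
  haveI : Fact p.Prime := ⟨hp⟩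
  obtain ⟨d, hd⟩ := hpg
  have hd0 : d ≠ 0 := by
    rintro rfl
    exact (orderOf_pos g).ne' (by simpa using hd)
  set z := g ^ d with hz
  have hoz : orderOf z = p := by
    rw [hz, orderOf_pow' g hd0, Nat.gcd_eq_right ⟨p, by rw [hd]; ring⟩, hd,
      Nat.mul_div_cancel _ (Nat.pos_of_ne_zero hd0)]
  have hP : IsPGroup p (Subgroup.zpowers z) :=
    IsPGroup.of_card (n := 1) (by rw [Nat.card_zpowers, hoz, pow_one])
  obtain ⟨x, hx⟩ := hP.nonempty_fixed_point_of_prime_not_dvd_card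
    (G ⧸ Subgroup.centralizer ({t} : Set G)) (by rwa [← Subgroup.index_eq_card])
  obtain ⟨a, rfl⟩ := QuotientGroup.mk_surjective x
  have h1 : a⁻¹ * z * a ∈ Subgroup.centralizer ({t} : Set G) := by
    have := hx ⟨z, Subgroup.mem_zpowers z⟩
    change ((z * a : G) : G ⧸ Subgroup.centralizer ({t} : Set G)) = _ at this
    rw [QuotientGroup.eq] at this
    simp only [smul_eq_mul, mul_inv_rev] at this
    exact inv_mem_iff.1 (by simpa [mul_assoc] using this)
  have hoc : ∀ c : G, orderOf (c⁻¹ * z * c) = p := fun c => by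
    rw [← hoz, show c⁻¹ * z * c = MulAut.conj c⁻¹ z by simp, MulEquiv.orderOf_eq]
  obtain ⟨c, hc, hc1⟩ : ∃ c : G, c⁻¹ * z * c ∈ K ∧ c⁻¹ * z * c ≠ 1 := by
    by_cases hK : a⁻¹ * z * a ∈ K
    · exact ⟨a, hK, fun r => hp.ne_one (by rw [← hoc a, r, orderOf_one])⟩
    · obtain ⟨w, hw⟩ := isConj_iff.1 ((h.invol_in_H h1).2 (Or.inr hK))
      refine ⟨a * w, ?_⟩
      have : (a * w)⁻¹ * z * (a * w) = t := by
        rw [mul_inv_rev, show w⁻¹ * a⁻¹ * z * (a * w) = w⁻¹ * (a⁻¹ * z * a) * w by group, ← hw]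
        group
      rw [this]
      exact ⟨h.tK, h.t_ne⟩
  have hcomm : Commute (c⁻¹ * g * c) (c⁻¹ * z * c) := by
    have : Commute g z := (Commute.refl g).pow_right d
    show _ = _
    rw [show c⁻¹ * g * c * (c⁻¹ * z * c) = c⁻¹ * (g * z) * c by group, this.eq]
    group
  by_cases hct : c⁻¹ * z * c = t
  · rw [hct] at hcomm
    have hgH : c⁻¹ * g * c ∈ Subgroup.centralizer ({t} : Set G) :=
      Subgroup.mem_centralizer_singleton_iff.2 hcomm.eq
    by_cases hgK : c⁻¹ * g * c ∈ K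
    · exact ⟨c, hgK⟩
    · obtain ⟨w, hw⟩ := isConj_iff.1 ((h.invol_in_H hgH).2 (Or.inr hgK))
      refine ⟨c * w, ?_⟩
      have : (c * w)⁻¹ * g * (c * w) = t := by
        rw [mul_inv_rev, show w⁻¹ * c⁻¹ * g * (c * w) = w⁻¹ * (c⁻¹ * g * c) * w by group, ← hw]
        group
      rw [this]; exact h.tK
  · exact ⟨c, by rw [← h.cent_eq hc hc1 hct]; exact Subgroup.mem_centralizer_singleton_iff.2 hcomm.eq⟩

theorem card_inK (h : Ctx t s K) :
    Nat.card {g : G // g ≠ 1 ∧ InK K g} =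
      (Nat.card K - 1) * (Subgroup.centralizer ({t} : Set G)).index := by
  let A : Finset (G × ↥K) := Finset.univ ×ˢ (Finset.univ.erase 1)
  let B : Finset G := Finset.univ.filter fun g => g ≠ 1 ∧ InK K g
  let f : G × ↥K → G := fun p => p.1 * (p.2 : G) * p.1⁻¹
  have hmap : ∀ p ∈ A, f p ∈ B := by
    rintro ⟨a, y⟩ hp
    simp only [A, Finset.mem_product, Finset.mem_univ, Finset.mem_erase, true_and, and_true] at hp
    simp only [B, f, Finset.mem_filter, Finset.mem_univ, true_and]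
    exact ⟨fun r => hp (Subtype.ext (conj_eq_one_iff.1 r)), a,
      by rw [show a⁻¹ * (a * (y : G) * a⁻¹) * a = y by group]; exact y.2⟩
  have hfib : ∀ g ∈ B, (A.filter fun p => f p = g).card =
      Nat.card (Subgroup.centralizer ({t} : Set G)) := by
    intro g hg
    obtain ⟨hg1, a, ha⟩ := (Finset.mem_filter.1 hg).2
    rw [Nat.card_eq_fintype_card, Fintype.card_subtype]
    refine Finset.card_bij (fun p _ => a⁻¹ * p.1) ?_ ?_ ?_
    · rintro ⟨c, y⟩ hp
      simp only [A, f, Finset.mem_filter, Finset.mem_product, Finset.mem_univ, Finset.mem_erase,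
        true_and, and_true] at hp
      simp only [Finset.mem_filter, Finset.mem_univ, true_and]
      refine h.mem_of_conj y.2 (fun r => hp.1 (Subtype.ext r)) ?_
      rw [show a⁻¹ * c * (y : G) * (a⁻¹ * c)⁻¹ = a⁻¹ * (c * (y : G) * c⁻¹) * a by group, hp.2]
      exact ha
    · rintro ⟨c, y⟩ hp ⟨c', y'⟩ hp' r
      simp only [A, f, Finset.mem_filter] at hp hp'
      have r1 : c = c' := mul_left_cancel r
      subst r1
      have r2 := hp.2.trans hp'.2.symm
      rw [mul_left_inj, mul_right_inj] at r2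
      rw [Subtype.ext r2]
    · intro w hw
      simp only [Finset.mem_filter, Finset.mem_univ, true_and] at hw
      refine ⟨(a * w, ⟨w⁻¹ * (a⁻¹ * g * a) * w, ?_⟩), ?_, by simp⟩
      · have := h.conj_mem (inv_mem hw) ha
        rwa [inv_inv] at this
      · simp only [A, f, Finset.mem_filter, Finset.mem_product, Finset.mem_univ, Finset.mem_erase,
          true_and, and_true]
        refine ⟨fun r => hg1 ?_, by group⟩
        have r' := congrArg Subtype.val r
        simp only [OneMemClass.coe_one] at r'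
        calc g = a * (w * (w⁻¹ * (a⁻¹ * g * a) * w) * w⁻¹) * a⁻¹ := by group
          _ = 1 := by rw [r']; group
  have h1 : A.card = B.card * Nat.card (Subgroup.centralizer ({t} : Set G)) := by
    rw [Finset.card_eq_sum_card_fiberwise hmap, Finset.sum_congr rfl hfib, Finset.sum_const,
      smul_eq_mul]
  simp only [A, Finset.card_product, Finset.card_univ, Finset.card_erase_of_mem (Finset.mem_univ _),
    ← Nat.card_eq_fintype_card, h.card_eq, h.card_H] at h1
  rw [Nat.card_eq_fintype_card, Fintype.card_subtype]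
  have h2 : 0 < 2 * Nat.card K := Nat.mul_pos two_pos Nat.card_pos
  exact (Nat.eq_of_mul_eq_mul_right h2 (by rw [← h1]; ring)).symm

/-- The arithmetical and sectional data. -/
structure Data (t : G) (K : Subgroup G) (ε : ℤ) (q m : ℕ) : Prop where
  eps : ε = 1 ∨ ε = -1
  hq : (q : ℤ) = 2 * Nat.card K + ε
  hm : (m : ℤ) = Nat.card K + ε
  index : (Subgroup.centralizer ({t} : Set G)).index = q * m
  sec : ∀ g : G, g ≠ 1 → ¬ InK K g →
    (orderOf g ∣ q ∧ 2 * (invCount t g : ℤ) = (1 + ε) * q) ∨ (orderOf g ∣ m ∧ invCount t g = m)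
  cardQ : Nat.card {g : G // g ≠ 1 ∧ ¬ InK K g ∧ orderOf g ∣ q} = 4 * Nat.card K * m
  cardA : Nat.card {g : G // g ≠ 1 ∧ ¬ InK K g ∧ orderOf g ∣ m} = q * Nat.card K * (m - 1)

theorem exists_data (h : Ctx t s K) (hk : 4 ≤ Nat.card K) :
    ∃ (ε : ℤ) (q m : ℕ), Data t K ε q m := by
  obtain ⟨e, X, Z, W, a, ez, ew, Y, b, H⟩ := exists_star h hk
  set n := (Subgroup.centralizer ({t} : Set G)).index with hn
  set k := Nat.card K with hkdef
  have hn0 : (n : ℂ) ≠ 0 := Nat.cast_ne_zero.2 Subgroup.index_ne_zero_of_finite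
  have hk0 : (k : ℂ) ≠ 0 := Nat.cast_ne_zero.2 (by omega)
  set T : ↥K := ⟨t, h.tK⟩ with hT
  obtain ⟨l0, hl0⟩ : (nonReal K).Nonempty := by
    rw [← Finset.card_pos]; have := H.card_nonReal h; omega
  have hd : ∀ χ : IrrCharacter G, (χ : G → ℂ) 1 = ((deg (χ : G → ℂ) : ℤ) : ℂ) := fun χ => by
    rw [char_one_eq_deg (irr_isCharacter χ.2)]; simp
  have hd0 : ∀ χ : IrrCharacter G, (deg (χ : G → ℂ) : ℤ) ≠ 0 := fun χ => by
    have := deg_pos χ.2; omega
  set x : ℤ := a * deg (X : G → ℂ) with hx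
  set z : ℤ := ez * deg (Z : G → ℂ) with hz
  set w : ℤ := ew * deg (W : G → ℂ) with hw
  have hy : ∀ l ∈ nonReal K, b l * (deg (Y l : G → ℂ) : ℤ) = -1 - x := by
    intro l hl
    have := coef_degree (G := G) l
    rw [show (∑ χ : IrrCharacter G, coef l χ * (deg (χ : G → ℂ) : ℤ)) =
      _ from H.sum_l hl (R := ℤ) (fun χ => (deg (χ : G → ℂ) : ℤ)), deg_oneC] at this
    rw [hx]; push_cast at this; linarith
  have hzw : z + w = -1 - x := by
    have := coef_degree (G := G) e
    rw [show (∑ χ : IrrCharacter G, coef e χ * (deg (χ : G → ℂ) : ℤ)) =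
      _ from H.sum_e (R := ℤ) (fun χ => (deg (χ : G → ℂ) : ℤ)), deg_oneC] at this
    rw [hx, hz, hw]; push_cast at this; linarith
  have sgn : ∀ {u : ℤ}, u = 1 ∨ u = -1 → (u : ℂ) ^ 2 = 1 := by
    rintro u (rfl | rfl) <;> simp
  have hx0 : (x : ℂ) ≠ 0 := Int.cast_ne_zero.2 (mul_ne_zero (by rcases H.ha with r | r <;> simp [r]) (hd0 _))
  have hz0 : (z : ℂ) ≠ 0 := Int.cast_ne_zero.2 (mul_ne_zero (by rcases H.hez with r | r <;> simp [r]) (hd0 _))
  have hw0 : (w : ℂ) ≠ 0 := Int.cast_ne_zero.2 (mul_ne_zero (by rcases H.hew with r | r <;> simp [r]) (hd0 _))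
  have hy0 : ((-1 - x : ℤ) : ℂ) ≠ 0 := Int.cast_ne_zero.2 (by
    rw [← hy l0 hl0]
    exact mul_ne_zero (by rcases H.hb l0 hl0 with r | r <;> simp [r]) (hd0 _))
  have divsgn : ∀ {u : ℤ} (v : ℂ) (d : ℤ), u = 1 ∨ u = -1 → (u : ℂ) * v / ((u * d : ℤ) : ℂ) = v / (d : ℂ) := by
    rintro u v d (rfl | rfl) <;> simp [neg_div_neg_eq]
  -- the two basic equations
  have hY4 : ∀ l ∈ nonReal K, (Y l : G → ℂ) t * conj ((Y l : G → ℂ) t) = 4 := by
    intro l hl
    rw [H.val_t h]
    obtain ⟨y1, y2, y3, y4⟩ := H.Y_ne l hl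
    simp only [y1, y2, y3, y4, if_false, zero_add]
    rw [← Finset.sum_filter, show (nonReal K).filter (fun m => Y l = Y m) = {l, l⁻¹} from ?_]
    · rw [Finset.sum_pair (Ne.symm (mem_nonReal.1 hl).2)]; norm_num
    · ext m
      simp only [Finset.mem_filter, Finset.mem_insert, Finset.mem_singleton]
      refine ⟨fun r => H.Y_inj l hl m r.1 r.2, ?_⟩
      rintro (rfl | rfl)
      · exact ⟨hl, rfl⟩
      · refine ⟨inv_mem_nonReal hl, ?_⟩
        have h1 := coef_sym h l (Y l)
        rw [H.coef_l _ (inv_mem_nonReal hl), H.coef_l _ hl] at h1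
        by_contra r
        simp only [y1, y2, r, if_false, zero_add, if_true] at h1
        rcases H.hb l hl with r' | r' <;> omega
  have hX1 : (X : G → ℂ) t * conj ((X : G → ℂ) t) = 1 := by
    rw [show (X : G → ℂ) t = (X : G → ℂ) (T : G) from rfl,
      H.X_on h (fun e' => h.t_ne (congrArg Subtype.val e'))]
    rcases H.ha with r | r <;> simp [r]
  have hZW1 : (Z : G → ℂ) t * conj ((Z : G → ℂ) t) = 1 ∧ (W : G → ℂ) t * conj ((W : G → ℂ) t) = 1 := by
    constructor
    · rw [H.val_t h, Finset.sum_eq_zero fun l hl => if_neg (Ne.symm (H.Y_ne l hl).2.2.1)]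
      simp [H.Z_one, Ne.symm H.XZ, H.ZW]
    · rw [H.val_t h, Finset.sum_eq_zero fun l hl => if_neg (Ne.symm (H.Y_ne l hl).2.2.2)]
      simp [H.W_one, Ne.symm H.XW, Ne.symm H.ZW]
  have term : ∀ {u : ℤ} (χ : IrrCharacter G) (v : ℂ), u = 1 ∨ u = -1 →
      (χ : G → ℂ) t * conj ((χ : G → ℂ) t) = v →
      (u : ℂ) * wgt t χ = v / ((u * deg (χ : G → ℂ) : ℤ) : ℂ) := by
    intro u χ v hu hv
    rw [wgt, hv, hd]
    have := divsgn (u := u) v (deg (χ : G → ℂ)) hu
    rcases hu with rfl | rfl <;> simp at this ⊢ <;> linear_combination (0 : ℂ) * this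
  have hw1 : wgt t (oneC : IrrCharacter G) = 1 := by simp [wgt, oneC]
  have hEl : (n : ℂ) * (1 + 1 / (x : ℂ) + 4 / ((-1 - x : ℤ) : ℂ)) = 2 * (k : ℂ) ^ 2 := by
    rw [← basic_equation h (mem_nonReal.1 hl0).1, H.sum_l hl0 (wgt t), hw1,
      term X 1 H.ha hX1, term (Y l0) 4 (H.hb l0 hl0) (hY4 l0 hl0), hy l0 hl0, ← hx]
  have hEe : (n : ℂ) * (1 + 1 / (x : ℂ) + 1 / (z : ℂ) + 1 / (w : ℂ)) = 2 * (k : ℂ) ^ 2 := by
    rw [← basic_equation h H.e_ne, H.sum_e (wgt t), hw1,
      term X 1 H.ha hX1, term Z 1 H.hez hZW1.1, term W 1 H.hew hZW1.2, ← hx, ← hz, ← hw]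
  have hzeq : z = w := by
    have h1 := mul_left_cancel₀ hn0 (hEe.trans hEl.symm)
    rw [← hzw] at h1 hy0
    push_cast at h1 hy0
    field_simp at h1
    have h2 : ((z : ℂ) - w) ^ 2 = 0 := by
      apply mul_left_cancel₀ hx0
      rw [mul_zero]
      linear_combination h1
    have := sub_eq_zero.1 (pow_eq_zero_iff two_ne_zero |>.1 h2)
    exact_mod_cast this
  have hXdeg : ∃ j : ℤ, x = 1 + j * k := by
    refine ⟨a * (mult X (1 : ↥K →* ℂˣ) : ℤ) - 1, ?_⟩
    rw [hx, mult_one_eq h X, H.sum_coef_X h, ← hkdef]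
    rcases H.ha with r | r <;> rw [r] <;> ring
  obtain ⟨j, hj⟩ := hXdeg
  obtain ⟨ε, hε, rfl, hnint⟩ := exists_int_arith (n := n) (k := k) (by rw [hn]; exact h.index_odd) h.even_card hk j (by
    rw [← hj]
    have h1 := hEl
    field_simp at h1
    have h2 : (((n : ℤ) * (x - 1) ^ 2 : ℤ) : ℂ) = ((2 * (k : ℤ) ^ 2 * x * (x + 1) : ℤ) : ℂ) := by
      push_cast at h1 ⊢
      linear_combination -1 * h1
    exact_mod_cast h2)
  obtain ⟨q, hq⟩ : ∃ q : ℕ, (q : ℤ) = 2 * k + ε :=
    ⟨(2 * (k : ℤ) + ε).toNat, by rw [Int.toNat_of_nonneg (by omega)]⟩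
  obtain ⟨m, hm⟩ : ∃ m : ℕ, (m : ℤ) = k + ε :=
    ⟨((k : ℤ) + ε).toNat, by rw [Int.toNat_of_nonneg (by omega)]⟩
  have hidx : n = q * m := by exact_mod_cast (by rw [hnint, hq, hm] : (n : ℤ) = q * m)
  have hεε : ε * ε = 1 := by rcases hε with r | r <;> simp [r]
  have hxq : x = ε * q := by rw [hj, hq]; linear_combination -hεε
  have hym : -1 - x = -2 * ε * m := by rw [hj, hm]; linear_combination 2 * hεε
  have hzm : z = -ε * m := by
    have : 2 * z = -2 * ε * m := by rw [← hym, ← hzw, hzeq]; ring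
    linarith
  have hnat : ∀ {u : ℤ} (χ : IrrCharacter G) (d : ℕ) (c : ℤ), u = 1 ∨ u = -1 →
      c = 1 ∨ c = -1 → u * (deg (χ : G → ℂ) : ℤ) = c * (d : ℤ) → deg (χ : G → ℂ) = d := by
    intro u χ d c hu hc he
    have := congrArg Int.natAbs he
    rcases hu with rfl | rfl <;> rcases hc with rfl | rfl <;> simpa [Int.natAbs_mul] using this
  have dX : deg (X : G → ℂ) = q := hnat X q ε H.ha hε hxq
  have dZ : deg (Z : G → ℂ) = m := hnat Z m (-ε) H.hez (by omega) hzm
  have dW : deg (W : G → ℂ) = m := hnat W m (-ε) H.hew (by omega) ((by rw [← hw, ← hzeq, hzm]))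
  have dY : ∀ l ∈ nonReal K, deg (Y l : G → ℂ) = 2 * m := fun l hl =>
    hnat (Y l) (2 * m) (-ε) (H.hb l hl) (by omega) (by rw [hy l hl, hym]; push_cast; ring)
  have hG : Nat.card G = q * m * (2 * k) := by rw [h.card_eq, ← hn, hidx]
  have hmq : Nat.Coprime q m := by
    rw [← Nat.isCoprime_iff_coprime, hq, hm]
    rcases hε with r | r <;> subst r
    · exact ⟨-1, 2, by ring⟩
    · exact ⟨1, -2, by ring⟩
  have hqk : Nat.Coprime q (2 * k) := by
    rw [← Nat.isCoprime_iff_coprime, hq]; push_cast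
    exact ⟨ε, -ε, by linear_combination hεε⟩
  have hmk : Nat.Coprime m (2 * k) := by
    have h1 : Nat.Coprime m k := by
      rw [← Nat.isCoprime_iff_coprime, hm]
      exact ⟨ε, -ε, by linear_combination hεε⟩
    refine Nat.Coprime.mul_right ?_ h1
    rw [Nat.coprime_two_right, Nat.odd_iff]
    obtain ⟨k', hk'⟩ := h.even_card
    omega
  -- values off K
  have hoff : ∀ g : G, ¬ InK K g →
      (∀ l ∈ nonReal K, (b l : ℂ) * (Y l : G → ℂ) g = -1 - (a : ℂ) * (X : G → ℂ) g) ∧
      (ez : ℂ) * (Z : G → ℂ) g + (ew : ℂ) * (W : G → ℂ) g = -1 - (a : ℂ) * (X : G → ℂ) g := by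
    intro g hg
    have h1 : ∀ l : ↥K →* ℂˣ, ∑ χ : IrrCharacter G, (coef l χ : ℂ) * (χ : G → ℂ) g = 0 := by
      intro l
      have := congrFun (phi_expand (G := G) l) g
      rw [phi_off l (fun c hc => absurd ⟨c, hc⟩ hg)] at this
      simpa [Finset.sum_apply] using this.symm
    have hone : ((oneC : IrrCharacter G) : G → ℂ) g = 1 := rfl
    constructor
    · intro l hl
      have := h1 l
      rw [H.sum_l hl (fun χ => (χ : G → ℂ) g), hone] at this
      linear_combination this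
    · have := h1 e
      rw [H.sum_e (fun χ => (χ : G → ℂ) g), hone] at this
      linear_combination this
  have hsec : ∀ g : G, g ≠ 1 → ¬ InK K g →
      (orderOf g ∣ q ∧ (a : ℂ) * (X : G → ℂ) g = 0) ∨ (orderOf g ∣ m ∧ (a : ℂ) * (X : G → ℂ) g = -1) := by
    intro g hg hgK
    have hvq : ∀ p : ℕ, p.Prime → p ∣ q → p ∣ orderOf g → (a : ℂ) * (X : G → ℂ) g = 0 := by
      intro p hp hpq hpg
      rw [defect_zero_vanish hp ?_ hpg, mul_zero]
      rw [dX]
      have : Nat.Coprime (p ^ (Nat.card G).factorization p) (m * (2 * k)) :=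
        Nat.Coprime.pow_left _ ((hmq.mul_right hqk).coprime_dvd_left hpq)
      exact this.dvd_of_dvd_mul_right (by rw [← mul_assoc, ← hG]; exact Nat.ordProj_dvd _ _)
    have hvm : ∀ p : ℕ, p.Prime → p ∣ m → p ∣ orderOf g → (a : ℂ) * (X : G → ℂ) g = -1 := by
      intro p hp hpm hpg
      have hdiv : p ^ (Nat.card G).factorization p ∣ m := by
        have : Nat.Coprime (p ^ (Nat.card G).factorization p) (q * (2 * k)) :=
          Nat.Coprime.pow_left _ ((hmq.symm.mul_right hmk).coprime_dvd_left hpm)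
        refine this.dvd_of_dvd_mul_right ?_
        rw [show m * (q * (2 * k)) = Nat.card G by rw [hG]; ring]
        exact Nat.ordProj_dvd _ _
      have := (hoff g hgK).1 l0 hl0
      rw [defect_zero_vanish hp (by rw [dY l0 hl0]; exact hdiv.mul_left 2) hpg, mul_zero] at this
      linear_combination this
    have hn' : ∀ p : ℕ, p.Prime → p ∣ orderOf g → p ∣ q * m := fun p hp hpg => by
      by_contra r
      exact hgK (inK_of_order h hg hp (by rw [← hn, hidx]; exact r) hpg)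
    have hcop : Nat.Coprime (orderOf g) (2 * k) := by
      refine Nat.coprime_of_dvd fun p hp h1 h2 => ?_
      exact hp.ne_one (Nat.dvd_one.1 ((hqk.mul hmk) ▸ Nat.dvd_gcd (hn' p hp h1) h2))
    have hdqm : orderOf g ∣ q * m := hcop.dvd_of_dvd_mul_right (by rw [← hG]; exact orderOf_dvd_natCard g)
    obtain ⟨p, hp, hpg⟩ := Nat.exists_prime_and_dvd (fun r => hg (orderOf_eq_one_iff.1 r))
    rcases hp.dvd_mul.1 (hn' p hp hpg) with hpq | hpm
    · refine Or.inl ⟨?_, hvq p hp hpq hpg⟩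
      refine Nat.Coprime.dvd_of_dvd_mul_right ?_ hdqm
      refine Nat.coprime_of_dvd fun r hr h1 h2 => ?_
      have := (hvq p hp hpq hpg).symm.trans (hvm r hr h2 h1)
      norm_num at this
    · refine Or.inr ⟨?_, hvm p hp hpm hpg⟩
      refine Nat.Coprime.dvd_of_dvd_mul_left ?_ hdqm
      refine Nat.coprime_of_dvd fun r hr h1 h2 => ?_
      have := (hvm p hp hpm hpg).symm.trans (hvq r hr h2 h1)
      norm_num at this
  have hcount : ∀ g : G, ¬ InK K g → (2 * (k : ℂ)) * invCount t g = (n : ℂ) *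
      (1 + (a : ℂ) * (X : G → ℂ) g / (x : ℂ) -
        ((k : ℂ) - 1) * (1 + (a : ℂ) * (X : G → ℂ) g) / (z : ℂ)) := by
    intro g hgK
    obtain ⟨hYg, hZg⟩ := hoff g hgK
    rw [invCount_formula h g, ← hn]
    congr 1
    have := H.weighted h (fun χ => (χ : G → ℂ) g / (χ : G → ℂ) 1)
    rw [show (∑ χ : IrrCharacter G, wgt t χ * (χ : G → ℂ) g) = ∑ χ : IrrCharacter G,
      (χ : G → ℂ) t * conj ((χ : G → ℂ) t) * ((χ : G → ℂ) g / (χ : G → ℂ) 1) from
      Finset.sum_congr rfl fun χ _ => by rw [wgt]; ring, this]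
    simp only [hd]
    rw [← divsgn ((X : G → ℂ) g) _ H.ha, ← divsgn ((Z : G → ℂ) g) _ H.hez,
      ← divsgn ((W : G → ℂ) g) _ H.hew, ← hx, ← hz, ← hw, ← hzeq,
      Finset.sum_congr rfl (g := fun _ => (-1 - (a : ℂ) * (X : G → ℂ) g) / ((-1 - x : ℤ) : ℂ))
        (fun l hl => by rw [← divsgn ((Y l : G → ℂ) g) _ (H.hb l hl), hy l hl, hYg l hl]),
      Finset.sum_const, nsmul_eq_mul, deg_oneC, ← hzw, ← hzeq]
    have hc : ((nonReal K).card : ℂ) = (k : ℂ) - 2 := by
      rw [hkdef, ← H.card_nonReal h]; push_cast; ring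
    rw [hc, show ((oneC : IrrCharacter G) : G → ℂ) g = 1 from rfl]
    push_cast
    field_simp
    linear_combination (2 : ℂ) * (x : ℂ) * hZg
  refine ⟨ε, q, m, hε, hq, hm, by rw [← hn, hidx], ?_, ?_, ?_⟩
  · intro g hg hgK
    have hval := hcount g hgK
    rcases hsec g hg hgK with ⟨h1, h2⟩ | ⟨h1, h2⟩
    · refine Or.inl ⟨h1, ?_⟩
      rw [h2, hzm, hidx] at hval
      simp only [zero_div, add_zero, mul_one] at hval
      have hm0 : (m : ℂ) ≠ 0 := by
        intro r; apply hz0; rw [hzm]; push_cast; rw [r]; ring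
      have hqC : (q : ℂ) = 2 * k + ε := by exact_mod_cast congrArg (fun v : ℤ => (v : ℂ)) hq
      have hmC : (m : ℂ) = k + ε := by exact_mod_cast congrArg (fun v : ℤ => (v : ℂ)) hm
      have h3 : (k : ℂ) * (2 * (invCount t g : ℂ) - (1 + ε) * q) = 0 := by
        rcases hε with r | r <;> subst r <;> push_cast at hval hmC hqC ⊢ <;> field_simp at hval <;>
          linear_combination hval + (q : ℂ) * hmC
      have h4 := (mul_eq_zero.1 h3).resolve_left hk0
      exact_mod_cast sub_eq_zero.1 h4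
    · refine Or.inr ⟨h1, ?_⟩
      rw [h2, hxq, hidx] at hval
      simp only [add_neg_cancel, mul_zero, zero_div, sub_zero] at hval
      have hq0 : (q : ℂ) ≠ 0 := by
        intro r; apply hx0; rw [hxq]; push_cast; rw [r]; ring
      have hqC : (q : ℂ) = 2 * k + ε := by exact_mod_cast congrArg (fun v : ℤ => (v : ℂ)) hq
      have h3 : (2 * (k : ℂ)) * ((invCount t g : ℂ) - m) = 0 := by
        rcases hε with r | r <;> subst r <;> push_cast at hval hqC ⊢ <;> field_simp at hval <;>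
          linear_combination hval + (m : ℂ) * hqC
      have h4 := (mul_eq_zero.1 h3).resolve_left (mul_ne_zero two_ne_zero hk0)
      exact_mod_cast sub_eq_zero.1 h4
  all_goals
    have hsum : ∑ g : G, (a : ℂ) * (X : G → ℂ) g = 0 := by
      have h1 := irrC_orth X (oneC : IrrCharacter G)
      rw [if_neg H.X_one, classInner, mul_eq_zero] at h1
      have h2 := h1.resolve_left (inv_ne_zero (Nat.cast_ne_zero.2 Nat.card_pos.ne'))
      rw [← Finset.mul_sum]
      simp only [oneC, map_one, mul_one] at h2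
      rw [h2, mul_zero]
    set S1 := Finset.univ.filter fun g : G => g ≠ 1 ∧ InK K g with hS1
    set S2 := Finset.univ.filter fun g : G => g ≠ 1 ∧ ¬ InK K g ∧ orderOf g ∣ q with hS2
    set S3 := Finset.univ.filter fun g : G => g ≠ 1 ∧ ¬ InK K g ∧ orderOf g ∣ m with hS3
    have hval : ∀ g : G, (a : ℂ) * (X : G → ℂ) g =
        (if g = 1 then (x : ℂ) else 0) + (if g ∈ S1 then 1 else 0) + (if g ∈ S3 then -1 else 0) ∧
        (1 : ℕ) = (if g = 1 then 1 else 0) + (if g ∈ S1 then 1 else 0) + (if g ∈ S2 then 1 else 0) +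
          (if g ∈ S3 then 1 else 0) := by
      intro g
      simp only [hS1, hS2, hS3, Finset.mem_filter, Finset.mem_univ, true_and]
      by_cases g1 : g = 1
      · subst g1
        simp [hd, hx]
      by_cases gK : InK K g
      · obtain ⟨c, hc⟩ := gK
        have hX := H.X_on h (y := ⟨_, hc⟩) (fun r => g1 (by
          have := congrArg Subtype.val r
          simp only [OneMemClass.coe_one] at this
          calc g = c * (c⁻¹ * g * c) * c⁻¹ := by group
            _ = 1 := by rw [this]; group))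
        have hconj : (X : G → ℂ) g = (X : G → ℂ) (c⁻¹ * g * c) := by
          have := isClassFunction_character (irr_isCharacter X.2) (c⁻¹ * g * c) c
          rw [show c * (c⁻¹ * g * c) * c⁻¹ = g by group] at this
          exact this
        rw [hconj, hX]
        have : InK K g := ⟨c, hc⟩
        rcases H.ha with r | r <;> simp [g1, this, r]
      · rcases hsec g g1 gK with ⟨h1, h2⟩ | ⟨h1, h2⟩
        · have h3 : ¬ orderOf g ∣ m := fun r =>
            g1 (orderOf_eq_one_iff.1 (Nat.dvd_one.1 (hmq ▸ Nat.dvd_gcd h1 r)))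
          simp [g1, gK, h1, h2, h3]
        · have h3 : ¬ orderOf g ∣ q := fun r =>
            g1 (orderOf_eq_one_iff.1 (Nat.dvd_one.1 (hmq ▸ Nat.dvd_gcd r h1)))
          simp [g1, gK, h1, h2, h3]
    have htot : Nat.card G = 1 + S1.card + S2.card + S3.card := by
      rw [Nat.card_eq_fintype_card, ← Finset.card_univ, Finset.card_eq_sum_ones,
        Finset.sum_congr rfl fun g _ => (hval g).2]
      simp [Finset.sum_add_distrib, Finset.sum_ite_mem]
    have hS1c : S1.card = (k - 1) * n := by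
      rw [hkdef, hn, ← card_inK h, Nat.card_eq_fintype_card, Fintype.card_subtype]
    rw [Finset.sum_congr rfl fun g _ => (hval g).1] at hsum
    simp [Finset.sum_add_distrib, Finset.sum_ite_mem] at hsum
    have hS3c : (S3.card : ℤ) = x + S1.card := by
      have : (((S3.card : ℤ)) : ℂ) = ((x + S1.card : ℤ) : ℂ) := by push_cast; linear_combination -hsum
      exact_mod_cast this
    have hk1 : ((k - 1 : ℕ) : ℤ) = k - 1 := by omega
    have hA : S3.card = q * k * (m - 1) := by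
      have hm1 : ((m - 1 : ℕ) : ℤ) = m - 1 := by omega
      have h5 : (S3.card : ℤ) = ((q * k * (m - 1) : ℕ) : ℤ) := by
        rw [hS3c, hS1c, hxq, hidx]; push_cast [hk1, hm1]
        linear_combination -(q : ℤ) * hm
      exact_mod_cast h5
    rw [Nat.card_eq_fintype_card, Fintype.card_subtype]
  · have h6 : (S2.card : ℤ) = ((4 * k * m : ℕ) : ℤ) := by
      have h7 : (Nat.card G : ℤ) = ((1 + S1.card + S2.card + S3.card : ℕ) : ℤ) := by rw [htot]
      rw [hG] at h7
      push_cast at h7 ⊢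
      rw [hS3c, hS1c, hxq, hidx] at h7
      push_cast [hk1] at h7
      rw [hq] at h7
      rw [hm] at h7 ⊢
      linear_combination -1 * h7 + hεε
    exact_mod_cast h6
  · exact hA

end Cfsg.Agent.Char.BSW
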