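import Cfsg.Agent.Lib.Char.BSW.Parts

/-!
# The normalizer structure
-/

set_option autoImplicit false
set_option linter.unusedSectionVars false
set_option linter.unusedVariables false
set_option linter.style.haveILetI false

namespace Cfsg.Agent.Char.BSW

open Cfsg
open scoped Classical

variable {G : Type*} [Group G] [Fintype G] {t s : G} {K : Subgroup G}

/-- The conclusion of the theorem. -/
def Concl (G : Type*) [Group G] : Prop :=
    ∃ Q D : Subgroup G, 2 * Nat.card G = Nat.card ↥Q * (Nat.card ↥Q + 1) * (Nat.card ↥Q - 1) ∧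
      (∀ x ∈ Q, x ≠ 1 → Subgroup.centralizer ({x} : Set G) = Q) ∧
      IsMulCommutative ↥D ∧ 2 * Nat.card ↥D + 1 = Nat.card ↥Q ∧ Q ⊓ D = ⊥ ∧
      Subgroup.normalizer (Q : Set G) = Q ⊔ D ∧
      ∀ X : Subgroup G, X ≤ D → X ≠ ⊥ →
        Subgroup.normalizer (X : Set G) = Subgroup.normalizer (D : Set G) ∧
        ∃ u : G, orderOf u = 2 ∧ u ∉ D ∧ (∀ d ∈ D, u * d * u⁻¹ = d⁻¹) ∧
          Subgroup.normalizer (D : Set G) = D ⊔ Subgroup.zpowers u

theorem mem_norm_of_conj {X : Subgroup G} {g : G} (hg : ∀ x ∈ X, g * x * g⁻¹ ∈ X) :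
    g ∈ Subgroup.normalizer (X : Set G) := by
  have hle : X.map (MulAut.conj g).toMonoidHom ≤ X := by
    rintro _ ⟨x, hx, rfl⟩
    exact hg x hx
  have e := Subgroup.eq_of_le_of_card_ge hle
    (by rw [Subgroup.card_map_of_injective (MulAut.conj g).injective])
  rw [Subgroup.mem_normalizer_iff]
  intro y
  conv_rhs => rw [← e]
  simp only [Subgroup.mem_map_equiv, MulAut.conj_symm_apply]
  rw [show g⁻¹ * (g * y * g⁻¹) * g = y by group]

theorem norm_conj {X : Subgroup G} {g x : G} (hg : g ∈ Subgroup.normalizer (X : Set G)) (hx : x ∈ X) :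
    g * x * g⁻¹ ∈ X := (Subgroup.mem_normalizer_iff.1 hg x).1 hx

theorem odd_mem {L : Subgroup G} {g : G} (hg : Odd (orderOf g)) (h2 : g * g ∈ L) : g ∈ L := by
  obtain ⟨a, ha⟩ := hg
  have e : g = ((g * g) ^ a)⁻¹ := by
    rw [eq_inv_iff_mul_eq_one, ← sq, ← pow_mul, ← pow_succ', ← ha, pow_orderOf_eq_one]
  rw [e]
  exact L.inv_mem (L.pow_mem h2 a)

theorem odd_order_of_mem {M : Subgroup G} (hM : Odd (Nat.card M)) {g : G} (hg : g ∈ M) :
    Odd (orderOf g) := hM.of_dvd_nat (Subgroup.orderOf_dvd_natCard M hg)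

theorem fpf_inverts {C : Subgroup G} {u : G} (hu : u * u = 1)
    (hn : u ∈ Subgroup.normalizer (C : Set G)) (hfix : ∀ c ∈ C, u * c * u⁻¹ = c → c = 1) :
    ∀ c ∈ C, u * c * u⁻¹ = c⁻¹ := by
  have hui : u⁻¹ = u := inv_eq_of_mul_eq_one_right hu
  let f : ↥C → ↥C := fun c => ⟨(c : G)⁻¹ * (u * c * u⁻¹), C.mul_mem (C.inv_mem c.2) (norm_conj hn c.2)⟩
  have hinj : Function.Injective f := by
    intro a b e
    have e' : (a : G)⁻¹ * (u * a * u⁻¹) = (b : G)⁻¹ * (u * b * u⁻¹) := congrArg Subtype.val e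
    have h1 := hfix ((b : G) * (a : G)⁻¹) (C.mul_mem b.2 (C.inv_mem a.2)) (by
      calc u * ((b : G) * (a : G)⁻¹) * u⁻¹
          = (b : G) * ((b : G)⁻¹ * (u * b * u⁻¹)) * (u * a * u⁻¹)⁻¹ := by group
        _ = (b : G) * ((a : G)⁻¹ * (u * a * u⁻¹)) * (u * a * u⁻¹)⁻¹ := by rw [e']
        _ = (b : G) * (a : G)⁻¹ := by group)
    exact Subtype.ext (mul_inv_eq_one.1 h1).symm
  intro c hc
  obtain ⟨d, hd⟩ := Finite.surjective_of_injective hinj ⟨c, hc⟩
  have e : (d : G)⁻¹ * (u * d * u⁻¹) = c := congrArg Subtype.val hd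
  rw [← e, hui]
  simp only [mul_inv_rev, inv_inv, hui]
  simp [mul_assoc, hu]

theorem card_class (y : G) :
    Nat.card {g : G // IsConj y g} = (Subgroup.centralizer ({y} : Set G)).index := by
  have h1 : Nat.card {g : G // IsConj y g} = (MulAction.orbit (ConjAct G) y).ncard := by
    rw [← Nat.card_coe_set_eq]
    exact Nat.card_congr (Equiv.subtypeEquivRight fun g => by
      rw [ConjAct.mem_orbit_conjAct]; exact ⟨IsConj.symm, IsConj.symm⟩)
  rw [h1, ← MulAction.index_stabilizer, Subgroup.centralizer_eq_comap_stabilizer]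
  exact (Subgroup.index_comap_of_surjective _ ConjAct.toConjAct.surjective).symm

theorem sylow_nc {M : Subgroup G} {p : ℕ} [Fact p.Prime] (hp : p ∣ Nat.card M)
    (hB : ∀ z ∈ M, orderOf z = p →
      (∀ a ∈ Subgroup.centralizer ({z} : Set G), ∀ b ∈ Subgroup.centralizer ({z} : Set G),
        a * b = b * a) ∧
      ∀ g ∈ M, g * z * g⁻¹ ∈ Subgroup.centralizer ({z} : Set G) →
        g ∈ Subgroup.centralizer ({z} : Set G))
    (S : Sylow p ↥M) :
    Subgroup.normalizer ((S : Subgroup ↥M) : Set ↥M) ≤ Subgroup.centralizer ((S : Subgroup ↥M) : Set ↥M) ∧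
      ∃ z : ↥M, z ∈ (S : Subgroup ↥M) ∧ orderOf z = p ∧ ∀ w ∈ (S : Subgroup ↥M), w * z = z * w := by
  haveI : Nontrivial ↥(S : Subgroup ↥M) := by
    rw [← Finite.one_lt_card_iff_nontrivial]
    exact lt_of_lt_of_le Nat.AtLeastTwo.one_lt (le_trans (le_refl 2)
      ((Fact.out : p.Prime).two_le.trans (Nat.le_of_dvd Nat.card_pos (S.dvd_card_of_dvd_card hp))))
  haveI : Nontrivial (Subgroup.center ↥(S : Subgroup ↥M)) := S.isPGroup'.center_nontrivial
  obtain ⟨n, hn, hcard⟩ := (S.isPGroup'.to_subgroup (Subgroup.center _)).nontrivial_iff_card.1 inferInstance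
  obtain ⟨c, hc⟩ := exists_prime_orderOf_dvd_card' (G := Subgroup.center ↥(S : Subgroup ↥M)) p
    (hcard ▸ dvd_pow_self p hn.ne')
  set z : ↥M := ((c : ↥(S : Subgroup ↥M)) : ↥M) with hz
  have hzS : z ∈ (S : Subgroup ↥M) := (c : ↥(S : Subgroup ↥M)).2
  have hzo : orderOf z = p := by rw [hz, Subgroup.orderOf_coe, Subgroup.orderOf_coe, hc]
  have hcomm : ∀ w ∈ (S : Subgroup ↥M), w * z = z * w := fun w hw =>
    congrArg Subtype.val (Subgroup.mem_center_iff.1 c.2 ⟨w, hw⟩)
  obtain ⟨hab, hnorm⟩ := hB (z : G) z.2 (by rw [Subgroup.orderOf_coe, hzo])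
  have hS : ∀ w ∈ (S : Subgroup ↥M), (w : G) ∈ Subgroup.centralizer ({(z : G)} : Set G) := fun w hw =>
    Subgroup.mem_centralizer_singleton_iff.2 (congrArg Subtype.val (hcomm w hw))
  refine ⟨fun g hg => ?_, z, hzS, hzo, hcomm⟩
  have hgz := hnorm (g : G) g.2 (by
    simpa using hS _ ((Subgroup.mem_normalizer_iff.1 hg z).1 hzS))
  rw [Subgroup.mem_centralizer_iff]
  intro w hw
  exact Subtype.ext (hab (w : G) (hS w hw) (g : G) hgz)

theorem sylow_normal {M : Subgroup G} {r : ℕ} [Fact r.Prime]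
    (hB : ∀ p : ℕ, p.Prime → p ≠ r → ∀ z ∈ M, orderOf z = p →
      (∀ a ∈ Subgroup.centralizer ({z} : Set G), ∀ b ∈ Subgroup.centralizer ({z} : Set G),
        a * b = b * a) ∧
      ∀ g ∈ M, g * z * g⁻¹ ∈ Subgroup.centralizer ({z} : Set G) →
        g ∈ Subgroup.centralizer ({z} : Set G))
    (R : Sylow r ↥M) : (R : Subgroup ↥M).Normal := by
  have hL : ∀ p : ℕ, p.Prime → p ≠ r → ∃ L : Subgroup ↥M, L.Normal ∧ ¬ p ∣ Nat.card L ∧
      (R : Subgroup ↥M) ≤ L := by
    intro p hp hpr
    haveI : Fact p.Prime := ⟨hp⟩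
    by_cases hpM : p ∣ Nat.card M
    · obtain ⟨S⟩ : Nonempty (Sylow p ↥M) := inferInstance
      obtain ⟨hnc, -⟩ := sylow_nc hpM (hB p hp hpr) S
      refine ⟨(MonoidHom.transferSylow S hnc).ker, inferInstance,
        MonoidHom.not_dvd_card_ker_transferSylow S hnc, fun x hx => ?_⟩
      rw [MonoidHom.mem_ker, ← orderOf_eq_one_iff]
      obtain ⟨i, hi⟩ := IsPGroup.iff_orderOf.1 R.isPGroup' ⟨x, hx⟩
      obtain ⟨j, hj⟩ := IsPGroup.iff_orderOf.1 S.isPGroup' (MonoidHom.transferSylow S hnc x)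
      rw [Subgroup.orderOf_mk] at hi
      have hd := orderOf_map_dvd (MonoidHom.transferSylow S hnc) x
      rw [hi, hj] at hd
      rw [hj]
      exact Nat.dvd_one.1 (((Nat.coprime_primes hp Fact.out).2 hpr).pow j i ▸ Nat.dvd_gcd dvd_rfl hd)
    · exact ⟨⊤, inferInstance, by rwa [Subgroup.card_top], le_top⟩
  choose L hLn hLc hLR using hL
  let I : Subgroup ↥M := ⨅ (p : ℕ) (hp : p.Prime) (hpr : p ≠ r), L p hp hpr
  have hIn : I.Normal := Subgroup.normal_iInf_normal fun p =>
    Subgroup.normal_iInf_normal fun hp => Subgroup.normal_iInf_normal fun hpr => hLn p hp hpr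
  have hRI : (R : Subgroup ↥M) ≤ I := le_iInf fun p => le_iInf fun hp => le_iInf fun hpr => hLR p hp hpr
  have hIr : IsPGroup r I := by
    refine IsPGroup.of_card (n := (Nat.card I).primeFactorsList.length) ?_
    refine Nat.eq_prime_pow_of_unique_prime_dvd Nat.card_pos.ne' fun {p} hp hpI => ?_
    by_contra hpr
    exact hLc p hp hpr (hpI.trans (Subgroup.card_dvd_of_le
      ((iInf_le _ p).trans ((iInf_le _ hp).trans (iInf_le _ hpr)))))
  rw [← R.3 hIr hRI]
  exact hIn

section Cases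

variable {q m : ℕ}

theorem Data.count_pos (h : Ctx t s K) (D : Data t K 1 q m) {g : G} (hg : g ≠ 1)
    (hgr : orderOf g ∣ q) : invCount t g = q := by
  rcases D.sec g hg ((D.partQ h).not_inK hg hgr) with ⟨-, e⟩ | ⟨e, -⟩
  · omega
  · exact absurd (orderOf_eq_one_iff.1 (Nat.dvd_one.1 ((D.cop h).1 ▸ Nat.dvd_gcd hgr e))) hg

theorem Data.count_A (h : Ctx t s K) {ε : ℤ} (D : Data t K ε q m) {g : G} (hg : g ≠ 1)
    (hgr : orderOf g ∣ m) : invCount t g = m := by
  rcases D.sec g hg ((D.partA h).not_inK hg hgr) with ⟨e, -⟩ | ⟨-, e⟩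
  · exact absurd (orderOf_eq_one_iff.1 (Nat.dvd_one.1 ((D.cop h).1 ▸ Nat.dvd_gcd e hgr))) hg
  · exact e

theorem case_pos (h : Ctx t s K) (hk : 4 ≤ Nat.card K) (D : Data t K 1 q m) : Concl G := by
  have P := D.partQ h
  have hq := D.hq
  have hm := D.hm
  set k := Nat.card K with hkdef
  have hqv : q = 2 * k + 1 := by omega
  have hmv : m = k + 1 := by omega
  obtain ⟨p, hp, hpq⟩ := Nat.exists_prime_and_dvd (by omega : q ≠ 1)
  haveI : Fact p.Prime := ⟨hp⟩
  obtain ⟨z0, hz0⟩ := exists_prime_orderOf_dvd_card' (G := G) p (P.card ▸ hpq.mul_right _)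
  obtain ⟨u, hu, hc0, hTI0, hinv0, -⟩ := P.count h (fun g hg hgr => D.count_pos h hg hgr) hp hz0 hpq
  obtain ⟨w, hw⟩ := isConj_iff.1 (h.isConj_iff_order.2 hu)
  set z := w⁻¹ * z0 * w with hzdef
  have hz : orderOf z = p := by
    rw [← hz0, hzdef, show w⁻¹ * z0 * w = MulAut.conj w⁻¹ z0 by simp, MulEquiv.orderOf_eq]
  obtain ⟨-, -, hcard, hTI, -, hcount⟩ := P.count h (fun g hg hgr => D.count_pos h hg hgr) hp hz hpq
  set Q := Subgroup.centralizer ({z} : Set G) with hQ
  have hz1 : z ≠ 1 := fun e => hp.ne_one (by rw [← hz, e, orderOf_one])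
  have hzQ : z ∈ Q := Subgroup.mem_centralizer_singleton_iff.2 rfl
  have htinv : ∀ c ∈ Q, t * c * t⁻¹ = c⁻¹ := by
    intro c hc
    have hc' : w * c * w⁻¹ ∈ Subgroup.centralizer ({z0} : Set G) := by
      have e := conj_cent w z
      rw [show w * z * w⁻¹ = z0 by rw [hzdef]; group] at e
      rw [← e]
      exact Subgroup.mem_map.2 ⟨c, hc, rfl⟩
    have h1 := hinv0 _ hc'
    rw [← hw] at h1
    calc t * c * t⁻¹ = w⁻¹ * (w * t * w⁻¹ * (w * c * w⁻¹) * (w * t * w⁻¹)⁻¹) * w := by group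
      _ = c⁻¹ := by rw [h1]; group
  set N := Subgroup.normalizer (Q : Set G) with hN
  have hidx : N.index = 2 * m := by
    rw [D.cardQ, show q - 1 = 2 * k by omega] at hcount
    refine Nat.eq_of_mul_eq_mul_right (show 0 < 2 * k by omega) ?_
    rw [← hcount]; ring
  have hNcard : Nat.card N = q * k := by
    refine Nat.eq_of_mul_eq_mul_left (show 0 < 2 * m by omega) ?_
    rw [← hidx, N.index_mul_card, P.card, hidx]; ring
  have hQH : ∀ x ∈ Q, x ∈ Subgroup.centralizer ({t} : Set G) → x = 1 := by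
    intro x hx hxH
    refine orderOf_eq_one_iff.1 (Nat.dvd_one.1 (P.copK ▸ Nat.dvd_gcd ?_ ?_))
    · rw [← hcard]; exact Subgroup.orderOf_dvd_natCard Q hx
    · rw [← h.card_H]; exact Subgroup.orderOf_dvd_natCard _ hxH
  have hQodd : Odd (Nat.card Q) := by rw [hcard, hqv]; exact ⟨k, rfl⟩
  set L := N ⊓ Subgroup.centralizer ({t} : Set G) with hL
  have hQN : Q ≤ N := Subgroup.le_normalizer
  have hdec : ∀ n ∈ N, ∃ d ∈ Q, d * n ∈ L := by
    intro n hn
    have hc : t * (n * t * n⁻¹) ∈ Q := by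
      rw [hQ, Subgroup.mem_centralizer_singleton_iff]
      have h2 : n⁻¹ * z * n ∈ Q := by
        have := norm_conj (N.inv_mem hn) hzQ
        rwa [inv_inv] at this
      have e1 : n * t * n⁻¹ * z * (n * t * n⁻¹)⁻¹ = z⁻¹ := by
        calc n * t * n⁻¹ * z * (n * t * n⁻¹)⁻¹ = n * (t * (n⁻¹ * z * n) * t⁻¹) * n⁻¹ := by group
          _ = z⁻¹ := by rw [htinv _ h2]; group
      have e2 := htinv _ (Q.inv_mem hzQ)
      rw [inv_inv] at e2
      rw [← mul_inv_eq_iff_eq_mul]
      calc t * (n * t * n⁻¹) * z * (t * (n * t * n⁻¹))⁻¹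
          = t * (n * t * n⁻¹ * z * (n * t * n⁻¹)⁻¹) * t⁻¹ := by group
        _ = z := by rw [e1, e2]
    set c := t * (n * t * n⁻¹) with hcdef
    have hd : c ^ (k + 1) ∈ Q := Q.pow_mem hc _
    refine ⟨c ^ (k + 1), hd, N.mul_mem (hQN hd) hn, Subgroup.mem_centralizer_singleton_iff.2 ?_⟩
    set d := c ^ (k + 1) with hddef
    have hd2 : d * d = c := by
      have hcq : c ^ (2 * k + 1) = 1 := by
        rw [← orderOf_dvd_iff_pow_eq_one, ← hqv, ← hcard]; exact Subgroup.orderOf_dvd_natCard Q hc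
      rw [hddef, ← pow_add, show k + 1 + (k + 1) = 2 * k + 1 + 1 by ring, pow_succ, hcq, one_mul]
    have htd := htinv d hd
    rw [h.t_inv] at htd
    have e : n * t * n⁻¹ = t * (d * d) := by
      rw [hd2, hcdef, ← mul_assoc, h.t_sq, one_mul]
    calc d * n * t = d * (n * t * n⁻¹) * n := by group
      _ = d * t * d * d * n := by rw [e]; group
      _ = t * (t * d * t) * d * d * n := by simp [← mul_assoc, h.t_sq]
      _ = t * (d * n) := by rw [htd]; group
  have hLcard : Nat.card L = k := by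
    let f : ↥Q × ↥L → ↥N := fun v => ⟨(v.1 : G) * v.2, N.mul_mem (hQN v.1.2) v.2.2.1⟩
    have hf : Function.Bijective f := by
      refine ⟨fun a b e => ?_, fun n => ?_⟩
      · have e' : (a.1 : G) * a.2 = b.1 * b.2 := congrArg Subtype.val e
        have h1 : (b.1 : G)⁻¹ * a.1 = b.2 * (a.2 : G)⁻¹ := by
          rw [eq_mul_inv_iff_mul_eq, mul_assoc, e', inv_mul_cancel_left]
        have h2 := hQH _ (Q.mul_mem (Q.inv_mem b.1.2) a.1.2)
          (h1 ▸ mul_mem b.2.2.2 (inv_mem a.2.2.2))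
        have h3 : (a.1 : G) = b.1 := (inv_mul_eq_one.1 h2).symm
        rw [h3] at e'
        exact Prod.ext (Subtype.ext h3) (Subtype.ext (mul_left_cancel e'))
      · obtain ⟨d, hd, hl⟩ := hdec n n.2
        exact ⟨(⟨d⁻¹, Q.inv_mem hd⟩, ⟨_, hl⟩), Subtype.ext (inv_mul_cancel_left d n)⟩
    have := Nat.card_eq_of_bijective f hf
    rw [Nat.card_prod, hcard, hNcard] at this
    exact Nat.eq_of_mul_eq_mul_left (by omega) this
  have hLK : L ≤ K := by
    intro g hg
    by_contra hgK
    have hg2 := h.out_sq hg.2 hgK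
    have hg1 : g ≠ 1 := fun e => hgK (e ▸ K.one_mem)
    have hginv := fpf_inverts hg2 hg.1 (fun c hc e => by
      by_contra hc1
      have : g ∈ Q := by
        rw [← hTI.cent c hc hc1]
        exact Subgroup.mem_centralizer_singleton_iff.2 (mul_inv_eq_iff_eq_mul.1 e)
      exact hg1 (hQH g this hg.2))
    have hgt : g * t ∈ Q := by
      rw [hQ, Subgroup.mem_centralizer_singleton_iff, ← mul_inv_eq_iff_eq_mul]
      calc g * t * z * (g * t)⁻¹ = g * (t * z * t⁻¹) * g⁻¹ := by group
        _ = z := by rw [htinv z hzQ, hginv _ (Q.inv_mem hzQ), inv_inv]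
    have := hQH _ hgt (mul_mem hg.2 (h.kle h.tK))
    exact hgK (by rw [mul_eq_one_iff_eq_inv.1 this, h.t_inv]; exact h.tK)
  have hLeq : L = K := Subgroup.eq_of_le_of_card_ge hLK (by rw [hLcard])
  have hNK : Subgroup.normalizer (K : Set G) = Subgroup.centralizer ({t} : Set G) :=
    le_antisymm (fun g hg => h.mem_of_conj h.tK h.t_ne (norm_conj hg h.tK))
      fun g hg => mem_norm_of_conj fun x hx => h.conj_mem hg hx
  refine ⟨Q, K, ?_, fun x hx hx1 => hTI.cent x hx hx1,
    ⟨⟨fun a b => Subtype.ext (h.comm a a.2 b b.2)⟩⟩, by rw [hcard, hqv, hkdef], ?_, ?_, ?_⟩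
  · rw [hcard, P.card, hqv, hmv, Nat.add_sub_cancel]; ring
  · rw [eq_bot_iff]
    exact fun x hx => Subgroup.mem_bot.2 (hQH x hx.1 (h.kle hx.2))
  · refine le_antisymm (fun n hn => ?_) (sup_le hQN ?_)
    · obtain ⟨d, hd, hl⟩ := hdec n hn
      rw [← inv_mul_cancel_left d n]
      exact Subgroup.mul_mem_sup (Q.inv_mem hd) (hLeq ▸ hl)
    · rw [← hLeq]; exact inf_le_left
  · intro X hXK hX
    refine ⟨?_, s, h.s2, h.sK, h.inv, by rw [hNK, h.sup_eq]⟩
    rw [hNK]
    refine le_antisymm (fun g hg => ?_) fun g hg => mem_norm_of_conj fun x hx => ?_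
    · obtain ⟨x, hx1⟩ := Subgroup.ne_bot_iff_exists_ne_one.1 hX
      exact h.mem_of_conj (hXK x.2) (fun e => hx1 (Subtype.ext e)) (hXK (norm_conj hg x.2))
    · by_cases hgK : g ∈ K
      · rw [h.comm g hgK x (hXK hx), mul_inv_cancel_right]; exact hx
      · rw [h.out_inv hg hgK (hXK hx)]; exact X.inv_mem hx

theorem case_neg (h : Ctx t s K) (hk : 4 ≤ Nat.card K) (D : Data t K (-1) q m) : Concl G := by
  have PQ := D.partQ h
  have PA := D.partA h
  obtain ⟨hqm, hqk, hmk⟩ := D.cop h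
  have hq := D.hq
  have hm := D.hm
  set k := Nat.card K with hkdef
  have hqv : q + 1 = 2 * k := by omega
  have hmv : m + 1 = k := by omega
  -- centralizers of elements of prime order not dividing `q` in odd subgroups
  have hB : ∀ M : Subgroup G, Odd (Nat.card M) → ∀ p : ℕ, p.Prime → ¬ p ∣ q → ∀ z ∈ M, orderOf z = p →
      (∀ a ∈ Subgroup.centralizer ({z} : Set G), ∀ b ∈ Subgroup.centralizer ({z} : Set G),
        a * b = b * a) ∧
      ∀ g ∈ M, g * z * g⁻¹ ∈ Subgroup.centralizer ({z} : Set G) →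
        g ∈ Subgroup.centralizer ({z} : Set G) := by
    intro M hM p hp hpq z hzM hz
    have hz1 : z ≠ 1 := fun e => hp.ne_one (by rw [← hz, e, orderOf_one])
    have hzodd := odd_order_of_mem hM hzM
    by_cases hpm : p ∣ m
    · obtain ⟨u, hu, hc, hTI, hinv, hcount⟩ :=
        PA.count h (fun g hg hgr => D.count_A h hg hgr) hp hz hpm
      set A := Subgroup.centralizer ({z} : Set G) with hA
      have hab : ∀ a ∈ A, ∀ b ∈ A, a * b = b * a := by
        intro a ha b hb
        have h1 := hinv _ (mul_mem ha hb)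
        rw [show u * (a * b) * u⁻¹ = (u * a * u⁻¹) * (u * b * u⁻¹) by group, hinv a ha, hinv b hb,
          mul_inv_rev] at h1
        have := congrArg (·⁻¹) h1
        simpa [mul_inv_rev] using this.symm
      refine ⟨hab, fun g hgM hgz => ?_⟩
      have hgN := hTI.norm (Subgroup.mem_centralizer_singleton_iff.2 rfl : z ∈ A) hz1 hgz
      set N := Subgroup.normalizer (A : Set G)
      rw [D.cardA] at hcount
      have hidx : N.index = q * k := Nat.eq_of_mul_eq_mul_right (show 0 < m - 1 by omega) hcount.symm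
      have hNc : Nat.card N = 2 * m := by
        refine Nat.eq_of_mul_eq_mul_left (show 0 < q * k from Nat.mul_pos (by omega) (by omega)) ?_
        rw [← hidx, N.index_mul_card, PA.card, hidx]; ring
      have h2 : (A.subgroupOf N).index = 2 := by
        have h3 := (A.subgroupOf N).index_mul_card
        rw [hNc, Nat.card_congr (Subgroup.subgroupOfEquivOfLe Subgroup.le_normalizer).toEquiv, hc] at h3
        exact Nat.eq_of_mul_eq_mul_right (by omega) h3
      refine odd_mem (odd_order_of_mem hM hgM) ?_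
      have := Subgroup.sq_mem_of_index_two h2 (⟨g, hgN⟩ : ↥N)
      rwa [Subgroup.mem_subgroupOf, SubmonoidClass.coe_pow, sq] at this
    · have hInK : InK K z := inK_of_order h hz1 hp
        (by rw [D.index, hp.dvd_mul]; tauto) (hz ▸ dvd_rfl)
      obtain ⟨c, hcK⟩ := hInK
      have hne : c⁻¹ * z * c ≠ 1 := fun e => hz1 (by
        calc z = c * (c⁻¹ * z * c) * c⁻¹ := by group
          _ = 1 := by rw [e]; group)
      have hnt : c⁻¹ * z * c ≠ t := fun e => by
        have h2 : orderOf z = 2 := by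
          rw [show z = MulAut.conj c (c⁻¹ * z * c) by simp [mul_assoc], MulEquiv.orderOf_eq, e, h.t2]
        rw [h2] at hzodd
        exact absurd hzodd (by decide)
      have hcent : ∀ a : G, a ∈ Subgroup.centralizer ({z} : Set G) ↔ c⁻¹ * a * c ∈ K := by
        intro a
        rw [← h.cent_eq hcK hne hnt, Subgroup.mem_centralizer_singleton_iff,
          Subgroup.mem_centralizer_singleton_iff]
        constructor
        · intro e
          rw [show c⁻¹ * a * c * (c⁻¹ * z * c) = c⁻¹ * (a * z) * c by group, e]; group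
        · intro e
          calc a * z = c * (c⁻¹ * a * c * (c⁻¹ * z * c)) * c⁻¹ := by group
            _ = z * a := by rw [e]; group
      refine ⟨fun a ha b hb => ?_, fun g hgM hgz => (hcent g).2 ?_⟩
      · have e := h.comm _ ((hcent a).1 ha) _ ((hcent b).1 hb)
        calc a * b = c * (c⁻¹ * a * c * (c⁻¹ * b * c)) * c⁻¹ := by group
          _ = b * a := by rw [e]; group
      · have h1 := (hcent _).1 hgz
        rw [show c⁻¹ * (g * z * g⁻¹) * c = c⁻¹ * g * c * (c⁻¹ * z * c) * (c⁻¹ * g * c)⁻¹ by group] at h1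
        have hH := h.mem_of_conj hcK hne h1
        by_contra hgK
        have h2 := h.out_order hH hgK
        rw [show c⁻¹ * g * c = MulAut.conj c⁻¹ g by simp, MulEquiv.orderOf_eq] at h2
        have h3 := odd_order_of_mem hM hgM
        rw [h2] at h3
        exact absurd h3 (by decide)
  -- no element of the section is inverted by an involution
  have hno : ∀ x u : G, x ≠ 1 → orderOf x ∣ q → orderOf u = 2 → u * x * u⁻¹ ≠ x⁻¹ := by
    intro x u hx hxq hu e
    have hu' := h.isConj_iff_order.2 hu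
    have h0 : invCount t x = 0 := by
      rcases D.sec x hx (PQ.not_inK hx hxq) with ⟨-, e'⟩ | ⟨e', -⟩
      · omega
      · exact absurd (orderOf_eq_one_iff.1 (Nat.dvd_one.1 (hqm ▸ Nat.dvd_gcd hxq e'))) hx
    rw [inv_eq_of_mul_eq_one_right (h.invol_mul_self hu'), eq_inv_iff_mul_eq_one] at e
    have hux : orderOf (u * x) = 2 := by
      refine orderOf_eq_prime (by rw [sq]; simpa [mul_assoc] using e) fun e' => ?_
      rw [mul_eq_one_iff_eq_inv] at e'
      have h2 : orderOf x = 2 := by rw [← orderOf_inv, ← e', hu]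
      rw [h2] at hxq
      omega
    rw [invCount, Nat.card_eq_zero] at h0
    rcases h0 with h0 | h0
    · exact h0.false ⟨u, hu', h.isConj_iff_order.2 hux⟩
    · exact not_finite {v : G // IsConj t v ∧ IsConj t (v * x)}
  have hclass : ∀ y : G, y ≠ 1 → orderOf y ∣ q →
      Nat.card (Subgroup.centralizer ({y} : Set G)) = q ∧
        ∀ g : G, g ≠ 1 → orderOf g ∣ q → IsConj y g ∨ IsConj y⁻¹ g := by
    intro y hy hyq
    have hne : ¬ IsConj y y⁻¹ := by
      intro e
      obtain ⟨g, hg⟩ := isConj_iff.1 e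
      have hg2 : g * g ∈ Subgroup.centralizer ({y} : Set G) := by
        rw [Subgroup.mem_centralizer_singleton_iff, ← mul_inv_eq_iff_eq_mul,
          show g * g * y * (g * g)⁻¹ = g * (g * y * g⁻¹) * g⁻¹ by group, hg,
          show g * y⁻¹ * g⁻¹ = (g * y * g⁻¹)⁻¹ by group, hg, inv_inv]
      have hd := PQ.cent_order h hy hyq hg2
      have hodd : Odd (orderOf (g * g)) := Odd.of_dvd_nat (by rw [Nat.odd_iff]; omega) hd
      set d := orderOf (g * g) with hddef
      obtain ⟨a, ha⟩ := hodd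
      have hu : g ^ d * g ^ d = 1 := by
        rw [← (Commute.refl g).mul_pow, pow_orderOf_eq_one]
      have hgd : g ^ d = (g * g) ^ a * g := by rw [ha, ← sq, ← pow_mul, ← pow_succ]
      have hinv : g ^ d * y * (g ^ d)⁻¹ = y⁻¹ := by
        rw [hgd, show (g * g) ^ a * g * y * ((g * g) ^ a * g)⁻¹ =
          (g * g) ^ a * (g * y * g⁻¹) * ((g * g) ^ a)⁻¹ by group, hg, mul_inv_eq_iff_eq_mul]
        exact Subgroup.mem_centralizer_singleton_iff.1 (pow_mem
          (show g * g ∈ Subgroup.centralizer ({y⁻¹} : Set G) by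
            rw [Subgroup.mem_centralizer_singleton_iff]
            exact (Commute.inv_right (Subgroup.mem_centralizer_singleton_iff.1 hg2 :
              Commute (g * g) y)).eq) a)
      refine hno y (g ^ d) hy hyq (orderOf_eq_prime (by rw [sq, hu]) fun e1 => ?_) hinv
      rw [e1, one_mul, inv_one, mul_one] at hinv
      exact PQ.ne_inv hy hyq hinv
    set C := Subgroup.centralizer ({y} : Set G) with hC
    have hCi : Subgroup.centralizer ({y⁻¹} : Set G) = C := by
      ext g
      rw [hC, Subgroup.mem_centralizer_singleton_iff, Subgroup.mem_centralizer_singleton_iff]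
      exact ⟨fun e => by simpa using (Commute.inv_right (e : Commute g y⁻¹)).eq,
        fun e => (Commute.inv_right (e : Commute g y)).eq⟩
    set S := Finset.univ.filter fun g : G => g ≠ 1 ∧ ¬ InK K g ∧ orderOf g ∣ q with hS
    set A1 := Finset.univ.filter fun g : G => IsConj y g with hA1
    set A2 := Finset.univ.filter fun g : G => IsConj y⁻¹ g with hA2
    have hScard : S.card = 4 * k * m := by
      rw [← D.cardQ, Nat.card_eq_fintype_card, Fintype.card_subtype]
    have hsub : A1 ∪ A2 ⊆ S := by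
      intro g hg
      have key : ∀ v : G, v ≠ 1 → orderOf v ∣ q → IsConj v g → g ∈ S := by
        intro v hv hvq e
        obtain ⟨c, rfl⟩ := isConj_iff.1 e
        have hv' : orderOf (c * v * c⁻¹) ∣ q := by
          rwa [← MulAut.conj_apply, MulEquiv.orderOf_eq]
        have hv1 : c * v * c⁻¹ ≠ 1 := fun r => hv (conj_eq_one_iff.1 r)
        simp [hS, hv', hv1, PQ.not_inK hv1 hv', hv]
      simp only [hA1, hA2, Finset.mem_union, Finset.mem_filter, Finset.mem_univ, true_and] at hg
      rcases hg with e | e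
      · exact key y hy hyq e
      · exact key y⁻¹ (inv_ne_one.2 hy) (by rwa [orderOf_inv]) e
    have hdisj : Disjoint A1 A2 := by
      rw [Finset.disjoint_left]
      intro g h1 h2
      simp only [hA1, hA2, Finset.mem_filter, Finset.mem_univ, true_and] at h1 h2
      exact hne (h1.trans h2.symm)
    have hc1 : A1.card = C.index := by
      rw [hC, ← card_class, Nat.card_eq_fintype_card, Fintype.card_subtype]
    have hc2 : A2.card = C.index := by
      rw [← hCi, ← card_class, Nat.card_eq_fintype_card, Fintype.card_subtype]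
    have hle := Finset.card_le_card hsub
    rw [Finset.card_union_of_disjoint hdisj, hc1, hc2, hScard] at hle
    have hCq : Nat.card C ≤ q := Nat.le_of_dvd (by omega) (PQ.cent_card h hy hyq)
    have hmul := C.index_mul_card
    rw [PQ.card] at hmul
    have hge : m * (2 * k) ≤ C.index := by
      refine Nat.le_of_mul_le_mul_right ?_ (show 0 < q by omega)
      calc m * (2 * k) * q = C.index * Nat.card C := by rw [hmul]; ring
        _ ≤ C.index * q := Nat.mul_le_mul_left _ hCq
    have heq : C.index = m * (2 * k) :=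
      le_antisymm (by rw [show 4 * k * m = m * (2 * k) + m * (2 * k) by ring] at hle; omega) hge
    constructor
    · rw [heq] at hmul
      exact Nat.eq_of_mul_eq_mul_left (Nat.mul_pos (by omega) (by omega)) (hmul.trans (mul_comm _ _))
    · intro g g1 gq
      have hall : A1 ∪ A2 = S := Finset.eq_of_subset_of_card_le hsub (by
        rw [Finset.card_union_of_disjoint hdisj, hc1, hc2, hScard, heq]
        exact le_of_eq (by ring))
      have : g ∈ A1 ∪ A2 := by
        rw [hall]
        simp [hS, g1, gq, PQ.not_inK g1 gq]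
      simpa [hA1, hA2] using this
  obtain ⟨r, hr, hrq⟩ := Nat.exists_prime_and_dvd (by omega : q ≠ 1)
  haveI : Fact r.Prime := ⟨hr⟩
  obtain ⟨z, hz⟩ := exists_prime_orderOf_dvd_card' (G := G) r (PQ.card ▸ hrq.mul_right _)
  have hz1 : z ≠ 1 := fun e => hr.ne_one (by rw [← hz, e, orderOf_one])
  have hord : ∀ g : G, g ≠ 1 → orderOf g ∣ q → orderOf g = r := by
    intro g g1 gq
    rcases (hclass z hz1 (hz ▸ hrq)).2 g g1 gq with e | e <;> obtain ⟨c, rfl⟩ := isConj_iff.1 e
    · rw [← MulAut.conj_apply, MulEquiv.orderOf_eq, hz]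
    · rw [← MulAut.conj_apply, MulEquiv.orderOf_eq, orderOf_inv, hz]
  have hprime : ∀ p : ℕ, p.Prime → p ∣ q → p = r := by
    intro p hp hpq
    haveI : Fact p.Prime := ⟨hp⟩
    obtain ⟨g, hg⟩ := exists_prime_orderOf_dvd_card' (G := G) p (PQ.card ▸ hpq.mul_right _)
    rw [← hg]
    exact hord g (fun e => hp.ne_one (by rw [← hg, e, orderOf_one])) (hg ▸ hpq)
  obtain ⟨e, he⟩ : ∃ e, q = r ^ e :=
    ⟨_, Nat.eq_prime_pow_of_unique_prime_dvd (by omega) fun {p} hp hpq => hprime p hp hpq⟩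
  have hsyl : ∀ R : Sylow r G, Nat.card R = q := by
    intro R
    rw [R.card_eq_multiplicity, PQ.card, Nat.factorization_mul (by omega)
      (Nat.mul_pos (by omega) (by omega)).ne', Finsupp.add_apply,
      Nat.factorization_eq_zero_of_not_dvd (n := m * (2 * k)) fun h2 =>
        hr.ne_one (Nat.dvd_one.1 (PQ.cop ▸ Nat.dvd_gcd hrq h2)), add_zero, he,
      hr.factorization_pow, Finsupp.single_eq_same]
  have hR : ∀ R : Subgroup G, Nat.card R = q → ∀ x ∈ R, orderOf x ∣ q := fun R hR x hx =>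
    hR ▸ Subgroup.orderOf_dvd_natCard R hx
  -- two subgroups of order `q` meet trivially
  have hTI : ∀ R R' : Subgroup G, Nat.card R = q → Nat.card R' = q → R ⊓ R' ≠ ⊥ → R = R' := by
    by_contra hcon
    push Not at hcon
    obtain ⟨R1, R2, hR1, hR2, hI, hne⟩ := hcon
    let T := Finset.univ.filter fun v : Subgroup G × Subgroup G =>
      Nat.card v.1 = q ∧ Nat.card v.2 = q ∧ v.1 ≠ v.2
    obtain ⟨⟨R, R'⟩, hmem, hmax⟩ := T.exists_max_image (fun v => Nat.card ↥(v.1 ⊓ v.2))
      ⟨(R1, R2), by simp [T, hR1, hR2, hne, -Nat.card_eq_fintype_card]⟩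
    simp only [T, Finset.mem_filter, Finset.mem_univ, true_and] at hmem
    obtain ⟨cR, cR', hRR⟩ := hmem
    set R0 := R ⊓ R' with hR0
    have hR0ne : R0 ≠ ⊥ := fun e0 => by
      have h1 := hmax (R1, R2) (by simp [T, hR1, hR2, hne, -Nat.card_eq_fintype_card])
      simp only [← hR0, e0, Subgroup.card_bot] at h1
      exact hI ((Subgroup.card_le_one_iff_eq_bot _).1 h1)
    set M := Subgroup.normalizer (R0 : Set G) with hM
    have hModd : Odd (Nat.card M) := by
      rw [← Nat.not_even_iff_odd, even_iff_two_dvd]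
      intro h2
      haveI : Fact (Nat.Prime 2) := ⟨Nat.prime_two⟩
      obtain ⟨u, hu⟩ := exists_prime_orderOf_dvd_card' (G := M) 2 h2
      have hu' : orderOf (u : G) = 2 := by rw [Subgroup.orderOf_coe, hu]
      obtain ⟨x, hx1⟩ := Subgroup.ne_bot_iff_exists_ne_one.1 hR0ne
      have hinv := fpf_inverts (by rw [← sq, ← hu', pow_orderOf_eq_one]) u.2 (fun c hc e' => by
        by_contra hc1
        have hcq : orderOf c ∣ q := hR R cR c hc.1
        have := PQ.cent_order h hc1 hcq
          (Subgroup.mem_centralizer_singleton_iff.2 (mul_inv_eq_iff_eq_mul.1 e') :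
            (u : G) ∈ Subgroup.centralizer ({c} : Set G))
        rw [hu'] at this
        omega) x x.2
      exact hno x u (fun e' => hx1 (Subtype.ext e')) (hR R cR x x.2.1) hu' hinv
    haveI hNormal := fun P : Sylow r ↥M => sylow_normal
      (fun p hp hpr => hB M hModd p hp (fun h2 => hpr (hprime p hp h2))) P
    obtain ⟨P⟩ : Nonempty (Sylow r ↥M) := inferInstance
    haveI := Sylow.unique_of_normal P (hNormal P)
    obtain ⟨S, hS⟩ := (P.isPGroup'.map M.subtype).exists_le_sylow
    have key : ∀ V : Subgroup G, Nat.card V = q → R0 < V → (S : Subgroup G) = V := by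
      intro V cV hlt
      have hpV : IsPGroup r V := IsPGroup.of_card (cV.trans he)
      haveI := hpV.isNilpotent
      have hlt' : R0.subgroupOf V < ⊤ := by
        rw [lt_top_iff_ne_top, Ne, Subgroup.subgroupOf_eq_top]
        exact hlt.not_ge
      obtain ⟨v, hvN, hv0⟩ := SetLike.exists_of_lt
        (Group.normalizerCondition_of_isNilpotent _ hlt')
      have hvM : (v : G) ∈ M := mem_norm_of_conj fun x hx => by
        have := norm_conj hvN (x := ⟨x, hlt.le hx⟩) (Subgroup.mem_subgroupOf.2 hx)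
        simpa [Subgroup.mem_subgroupOf] using this
      have hpM : IsPGroup r (V.subgroupOf M) :=
        hpV.comap_of_injective M.subtype M.subtype_injective
      obtain ⟨P', hP'⟩ := hpM.exists_le_sylow
      rw [Subsingleton.elim P' P] at hP'
      have hin : ∀ x ∈ V, x ∈ M → x ∈ (S : Subgroup G) := fun x hxV hxM =>
        hS (Subgroup.mem_map.2 ⟨⟨x, hxM⟩, hP' (Subgroup.mem_subgroupOf.2 hxV), rfl⟩)
      by_contra hne'
      have hgt : R0 < (S : Subgroup G) ⊓ V := by
        refine lt_of_le_of_ne (le_inf (fun x hx => hin x (hlt.le hx) (Subgroup.le_normalizer hx))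
          hlt.le) fun eq0 => hv0 ?_
        rw [Subgroup.mem_subgroupOf, eq0]
        exact ⟨hin v v.2 hvM, v.2⟩
      have h1 := hmax ((S : Subgroup G), V) (by simp [T, hsyl S, cV, hne', -Nat.card_eq_fintype_card])
      simp only [← hR0] at h1
      exact hgt.ne (Subgroup.eq_of_le_of_card_ge hgt.le h1)
    have ltR : R0 < R := lt_of_le_of_ne inf_le_left fun e' =>
      hRR (Subgroup.eq_of_le_of_card_ge (inf_eq_left.1 e') (by rw [cR, cR']))
    have ltR' : R0 < R' := lt_of_le_of_ne inf_le_right fun e' =>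
      hRR (Subgroup.eq_of_le_of_card_ge (inf_eq_right.1 e') (by rw [cR, cR'])).symm
    exact hRR ((key R cR ltR).symm.trans (key R' cR' ltR'))
  set Q := Subgroup.centralizer ({z} : Set G) with hQ
  have hcard : Nat.card Q = q := (hclass z hz1 (hz ▸ hrq)).1
  have hzQ : z ∈ Q := Subgroup.mem_centralizer_singleton_iff.2 rfl
  have hQTI : SelfTI Q := ⟨fun x hx hx1 => by
    have hcx := (hclass x hx1 (hR Q hcard x hx)).1
    refine hTI _ _ hcx hcard ?_
    rw [Subgroup.ne_bot_iff_exists_ne_one]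
    exact ⟨⟨x, Subgroup.mem_centralizer_singleton_iff.2 rfl, hx⟩, fun e' => hx1 (congrArg Subtype.val e')⟩⟩
  set N := Subgroup.normalizer (Q : Set G) with hN
  have hidx : N.index = 2 * k := by
    have hc := card_conjugates Q (fun x hx hx1 g hg => hQTI.norm hx hx1 hg)
      (fun g => g ≠ 1 ∧ ¬ InK K g ∧ orderOf g ∣ q) (fun g => ?_)
    · rw [D.cardQ, hcard] at hc
      refine Nat.eq_of_mul_eq_mul_right (show 0 < q - 1 by omega) ?_
      rw [← hc, show q - 1 = 2 * m by omega]; ring
    · constructor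
      · rintro ⟨g1, -, gq⟩
        exact ⟨g1, PQ.prime_conj hcard hr (hord g g1 gq) hrq⟩
      · rintro ⟨g1, a, ha⟩
        have gq : orderOf g ∣ q := by
          rw [show g = MulAut.conj a (a⁻¹ * g * a) by simp [mul_assoc], MulEquiv.orderOf_eq]
          exact hR Q hcard _ ha
        exact ⟨g1, PQ.not_inK g1 gq, gq⟩
  have hNcard : Nat.card N = q * m := by
    refine Nat.eq_of_mul_eq_mul_left (show 0 < 2 * k by omega) ?_
    rw [← hidx, N.index_mul_card, PQ.card, hidx]; ring
  have hQ' : Nat.card (Q.subgroupOf N) = q := by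
    rw [Nat.card_congr (Subgroup.subgroupOfEquivOfLe Subgroup.le_normalizer).toEquiv, hcard]
  have hQidx : (Q.subgroupOf N).index = m := by
    have h3 := (Q.subgroupOf N).index_mul_card
    rw [hQ', hNcard, mul_comm q] at h3
    exact Nat.eq_of_mul_eq_mul_right (by omega) h3
  obtain ⟨D0, hD0⟩ := Subgroup.exists_right_complement'_of_coprime
    (N := Q.subgroupOf N) (by rw [hQ', hQidx]; exact hqm)
  have hD0c : Nat.card D0 = m := by
    have h3 := hD0.card_mul
    rw [hQ', hNcard] at h3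
    exact Nat.eq_of_mul_eq_mul_left (by omega) h3
  set E := D0.map N.subtype with hE
  have hEc : Nat.card E = m := by
    rw [hE, Subgroup.card_map_of_injective N.subtype_injective, hD0c]
  have hEodd : Odd (Nat.card E) := by
    rw [hEc, Nat.odd_iff]
    obtain ⟨k', hk'⟩ := h.even_card
    omega
  have hEN : E ≤ N := Subgroup.map_subtype_le D0
  obtain ⟨p, hp, hpm⟩ := Nat.exists_prime_and_dvd (by omega : m ≠ 1)
  haveI : Fact p.Prime := ⟨hp⟩
  have hpq : ∀ p' : ℕ, p'.Prime → ∀ w ∈ E, orderOf w = p' → ¬ p' ∣ q := by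
    intro p' hp' w hw e' h2
    exact hp'.ne_one (Nat.dvd_one.1 (hqm ▸ Nat.dvd_gcd h2 (e' ▸ hEc ▸ Subgroup.orderOf_dvd_natCard E hw)))
  obtain ⟨S⟩ : Nonempty (Sylow p ↥E) := inferInstance
  have hBE : ∀ p' : ℕ, p'.Prime → ∀ w ∈ E, orderOf w = p' → _ ∧ _ := fun p' hp' w hw e' =>
    hB E hEodd p' hp' (hpq p' hp' w hw e') w hw e'
  obtain ⟨hnc, z', hz'S, hz'o, hz'c⟩ := sylow_nc (M := E) (p := p) (hEc ▸ hpm) (hBE p hp) S
  have hSn := sylow_normal (M := E) (r := p) (fun p' hp' _ => hBE p' hp') S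
  have hz'o' : orderOf (z' : G) = p := by rw [Subgroup.orderOf_coe, hz'o]
  obtain ⟨u, hu, hAc, hATI, hAinv, hAcount⟩ :=
    PA.count h (fun g hg hgr => D.count_A h hg hgr) hp hz'o' hpm
  set A := Subgroup.centralizer ({(z' : G)} : Set G) with hA
  have hz'1 : (z' : G) ≠ 1 := fun e' => hp.ne_one (by rw [← hz'o', e', orderOf_one])
  have hEA : E = A := by
    refine Subgroup.eq_of_le_of_card_ge (fun g hg => ?_) (by rw [hAc, hEc])
    have : (⟨g, hg⟩ : ↥E) ∈ Subgroup.normalizer ((S : Subgroup ↥E) : Set ↥E) := by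
      haveI := hSn
      rw [Subgroup.normalizer_eq_top]; exact Subgroup.mem_top _
    have h2 := Subgroup.mem_centralizer_iff.1 (hnc this) z' hz'S
    exact Subgroup.mem_centralizer_singleton_iff.2 (congrArg Subtype.val h2).symm
  set NA := Subgroup.normalizer (A : Set G) with hNA
  rw [D.cardA] at hAcount
  have hNAidx : NA.index = q * k := Nat.eq_of_mul_eq_mul_right (show 0 < m - 1 by omega) hAcount.symm
  have hNAc : Nat.card NA = 2 * m := by
    refine Nat.eq_of_mul_eq_mul_left (show 0 < q * k from Nat.mul_pos (by omega) (by omega)) ?_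
    rw [← hNAidx, NA.index_mul_card, PA.card, hNAidx]; ring
  have huA : u ∉ A := fun hu' => by
    have h3 := odd_order_of_mem (hEA ▸ hEodd) hu'
    rw [hu] at h3
    exact absurd h3 (by decide)
  have huN : u ∈ NA := mem_norm_of_conj fun x hx => by rw [hAinv x hx]; exact A.inv_mem hx
  have hNAeq : NA = A ⊔ Subgroup.zpowers u := by
    have hle : A ⊔ Subgroup.zpowers u ≤ NA :=
      sup_le Subgroup.le_normalizer ((Subgroup.zpowers_le).2 huN)
    refine (Subgroup.eq_of_le_of_card_ge hle ?_).symm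
    obtain ⟨j, hj⟩ := Subgroup.card_dvd_of_le (le_sup_left : A ≤ A ⊔ Subgroup.zpowers u)
    rw [hAc] at hj
    rw [hNAc, hj, mul_comm]
    refine Nat.mul_le_mul_left _ ?_
    by_contra hj2
    push Not at hj2
    interval_cases j
    · rw [mul_zero] at hj; exact Nat.card_pos.ne' hj
    · rw [mul_one] at hj
      have := Subgroup.eq_of_le_of_card_ge (le_sup_left : A ≤ A ⊔ Subgroup.zpowers u) (by rw [hj, hAc])
      exact huA (this ▸ Subgroup.mem_sup_right (Subgroup.mem_zpowers u))
  have hAab : ∀ a ∈ A, ∀ b ∈ A, a * b = b * a :=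
    (hB E hEodd p hp (hpq p hp z' z'.2 hz'o') z' z'.2 hz'o').1
  refine ⟨Q, A, ?_, fun x hx hx1 => hQTI.cent x hx hx1,
    ⟨⟨fun a b => Subtype.ext (hAab a a.2 b b.2)⟩⟩, by rw [hAc, hcard]; omega, ?_, ?_, ?_⟩
  · rw [hcard, PQ.card, show q - 1 = 2 * m by omega, hqv]; ring
  · rw [eq_bot_iff]
    intro x hx
    rw [Subgroup.mem_bot]
    refine orderOf_eq_one_iff.1 (Nat.dvd_one.1 (hqm ▸ Nat.dvd_gcd (hR Q hcard x hx.1) ?_))
    rw [← hAc]; exact Subgroup.orderOf_dvd_natCard A hx.2
  · refine le_antisymm (fun n hn => ?_) (sup_le Subgroup.le_normalizer (hEA ▸ hEN))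
    obtain ⟨⟨a, b⟩, hab⟩ := hD0.2 ⟨n, hn⟩
    rw [show n = ((a : ↥N) : G) * ((b : ↥N) : G) from (congrArg Subtype.val hab).symm]
    exact Subgroup.mul_mem_sup (Subgroup.mem_subgroupOf.1 a.2)
      (hEA ▸ Subgroup.mem_map.2 ⟨b, b.2, rfl⟩)
  · intro X hXA hX
    refine ⟨?_, u, hu, huA, hAinv, hNAeq⟩
    refine le_antisymm (fun g hg => ?_) fun g hg => mem_norm_of_conj fun x hx => ?_
    · obtain ⟨x, hx1⟩ := Subgroup.ne_bot_iff_exists_ne_one.1 hX
      exact hATI.norm (hXA x.2) (fun e' => hx1 (Subtype.ext e')) (hXA (norm_conj hg x.2))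
    · by_cases hgA : g ∈ A
      · rw [hAab g hgA x (hXA hx), mul_inv_cancel_right]; exact hx
      · have h2 : (A.subgroupOf NA).index = 2 := by
          have h3 := (A.subgroupOf NA).index_mul_card
          rw [hNAc, Nat.card_congr (Subgroup.subgroupOfEquivOfLe Subgroup.le_normalizer).toEquiv,
            hAc] at h3
          exact Nat.eq_of_mul_eq_mul_right (by omega) h3
        have hug : u * g ∈ A := by
          have h4 := Subgroup.mul_mem_iff_of_index_two h2 (a := ⟨u, huN⟩) (b := ⟨g, hg⟩)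
          simp only [Subgroup.mem_subgroupOf, Subgroup.coe_mul, huA, hgA, iff_self, iff_true] at h4
          exact h4
        have e1 : u * g * x = x * (u * g) := hAab _ hug x (hXA hx)
        have e2 := hAinv x (hXA hx)
        have e3 : g * x * g⁻¹ = x⁻¹ := by
          calc g * x * g⁻¹ = u⁻¹ * (u * g * x) * g⁻¹ := by group
            _ = u⁻¹ * x * u := by rw [e1]; group
            _ = x⁻¹ := by
              have e4 := hAinv x⁻¹ (A.inv_mem (hXA hx))
              rw [inv_inv] at e4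
              nth_rewrite 1 [← e4]; group
        rw [e3]; exact X.inv_mem hx

end Cases

end Cfsg.Agent.Char.BSW
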