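import Cfsg.Agent.Lib.Char.BSW.Eqs

/-!
# The Hall sections off `K`
-/

set_option autoImplicit false
set_option linter.unusedSectionVars false
set_option linter.unusedVariables false
set_option linter.style.haveILetI false

namespace Cfsg.Agent.Char.BSW

open Cfsg
open scoped Classical

variable {G : Type*} [Group G] [Fintype G] {t s : G} {K : Subgroup G}

/-- A Hall part `r` of the order off `K`. -/
structure Part (t : G) (K : Subgroup G) (r r' : ℕ) : Prop where
  card : Nat.card G = r * r'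
  cop : Nat.Coprime r r'
  copK : Nat.Coprime r (2 * Nat.card K)
  sec : ∀ g : G, g ≠ 1 → ¬ InK K g → orderOf g ∣ r ∨ Nat.Coprime (orderOf g) r

theorem Data.cop (h : Ctx t s K) {ε : ℤ} {q m : ℕ} (D : Data t K ε q m) :
    Nat.Coprime q m ∧ Nat.Coprime q (2 * Nat.card K) ∧ Nat.Coprime m (2 * Nat.card K) := by
  have hεε : ε * ε = 1 := by rcases D.eps with r | r <;> simp [r]
  refine ⟨?_, ?_, Nat.Coprime.mul_right ?_ ?_⟩
  · rw [← Nat.isCoprime_iff_coprime, D.hq, D.hm]
    rcases D.eps with r | r <;> subst r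
    · exact ⟨-1, 2, by ring⟩
    · exact ⟨1, -2, by ring⟩
  · rw [← Nat.isCoprime_iff_coprime, D.hq]; push_cast
    exact ⟨ε, -ε, by linear_combination hεε⟩
  · rw [Nat.coprime_two_right, Nat.odd_iff]
    obtain ⟨k', hk'⟩ := h.even_card
    have := D.hm
    rcases D.eps with r | r <;> omega
  · rw [← Nat.isCoprime_iff_coprime, D.hm]
    exact ⟨ε, -ε, by linear_combination hεε⟩

theorem Data.partQ (h : Ctx t s K) {ε : ℤ} {q m : ℕ} (D : Data t K ε q m) :
    Part t K q (m * (2 * Nat.card K)) := by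
  obtain ⟨h1, h2, h3⟩ := D.cop h
  refine ⟨by rw [h.card_eq, D.index]; ring, h1.mul_right h2, h2, fun g g1 gK => ?_⟩
  rcases D.sec g g1 gK with ⟨r, -⟩ | ⟨r, -⟩
  · exact Or.inl r
  · exact Or.inr ((h1.symm).coprime_dvd_left r)

theorem Data.partA (h : Ctx t s K) {ε : ℤ} {q m : ℕ} (D : Data t K ε q m) :
    Part t K m (q * (2 * Nat.card K)) := by
  obtain ⟨h1, h2, h3⟩ := D.cop h
  refine ⟨by rw [h.card_eq, D.index]; ring, h1.symm.mul_right h3, h3, fun g g1 gK => ?_⟩
  rcases D.sec g g1 gK with ⟨r, -⟩ | ⟨r, -⟩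
  · exact Or.inr (h1.coprime_dvd_left r)
  · exact Or.inl r

theorem InK.order_dvd {g : G} (hg : InK K g) : orderOf g ∣ Nat.card K := by
  obtain ⟨a, ha⟩ := hg
  rw [show g = MulAut.conj a (a⁻¹ * g * a) by simp [mul_assoc], MulEquiv.orderOf_eq]
  exact Subgroup.orderOf_dvd_natCard K ha

variable {r r' : ℕ}

theorem Part.not_inK (P : Part t K r r') {g : G} (hg : g ≠ 1) (hgr : orderOf g ∣ r) : ¬ InK K g := by
  intro hK
  refine hg (orderOf_eq_one_iff.1 (Nat.dvd_one.1 (P.copK ▸ Nat.dvd_gcd hgr ?_)))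
  exact hK.order_dvd.mul_left 2

theorem Part.ne_inv (P : Part t K r r') {g : G} (hg : g ≠ 1) (hgr : orderOf g ∣ r) : g ≠ g⁻¹ := by
  intro e
  have h2 : orderOf g ∣ 2 := by
    rw [orderOf_dvd_iff_pow_eq_one, sq]; nth_rewrite 2 [e]; exact mul_inv_cancel g
  exact hg (orderOf_eq_one_iff.1 (Nat.dvd_one.1 (P.copK ▸ Nat.dvd_gcd hgr (h2.mul_right _))))

theorem inK_of_commute (h : Ctx t s K) {g z : G} (hz : z ≠ 1) (hzK : InK K z)
    (hc : Commute g z) : InK K g := by
  obtain ⟨c, hcK⟩ := hzK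
  have hne : c⁻¹ * z * c ≠ 1 := fun r => hz (by
    calc z = c * (c⁻¹ * z * c) * c⁻¹ := by group
      _ = 1 := by rw [r]; group)
  have hcomm : c⁻¹ * g * c * (c⁻¹ * z * c) = c⁻¹ * z * c * (c⁻¹ * g * c) := by
    rw [show c⁻¹ * g * c * (c⁻¹ * z * c) = c⁻¹ * (g * z) * c by group, hc.eq]
    group
  by_cases hct : c⁻¹ * z * c = t
  · rw [hct] at hcomm
    have hgH : c⁻¹ * g * c ∈ Subgroup.centralizer ({t} : Set G) :=
      Subgroup.mem_centralizer_singleton_iff.2 hcomm
    by_cases hgK : c⁻¹ * g * c ∈ K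
    · exact ⟨c, hgK⟩
    · obtain ⟨w, hw⟩ := isConj_iff.1 ((h.invol_in_H hgH).2 (Or.inr hgK))
      refine ⟨c * w, ?_⟩
      have : (c * w)⁻¹ * g * (c * w) = t := by
        rw [mul_inv_rev, show w⁻¹ * c⁻¹ * g * (c * w) = w⁻¹ * (c⁻¹ * g * c) * w by group, ← hw]
        group
      rw [this]; exact h.tK
  · exact ⟨c, by rw [← h.cent_eq hcK hne hct]; exact Subgroup.mem_centralizer_singleton_iff.2 hcomm⟩

theorem Part.cent_order (h : Ctx t s K) (P : Part t K r r') {g c : G} (hg : g ≠ 1)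
    (hgr : orderOf g ∣ r) (hc : c ∈ Subgroup.centralizer ({g} : Set G)) : orderOf c ∣ r := by
  rcases eq_or_ne c 1 with rfl | hc1
  · simp
  have hcg : Commute c g := Subgroup.mem_centralizer_singleton_iff.1 hc
  have hcK : ¬ InK K c := fun hK => P.not_inK hg hgr (inK_of_commute h hc1 hK hcg.symm)
  rcases P.sec c hc1 hcK with e | e
  · exact e
  exfalso
  have hco : Nat.Coprime (orderOf c) (orderOf g) := e.coprime_dvd_right hgr
  have ho := hcg.orderOf_mul_eq_mul_orderOf_of_coprime hco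
  have hgc1 : c * g ≠ 1 := fun e' => by
    rw [e', orderOf_one] at ho
    exact hg (orderOf_eq_one_iff.1 (Nat.dvd_one.1 (ho ▸ dvd_mul_left _ _)))
  have hgcK : ¬ InK K (c * g) := fun hK =>
    P.not_inK hg hgr (inK_of_commute h hgc1 hK (hcg.symm.mul_right (Commute.refl g)))
  rcases P.sec _ hgc1 hgcK with e' | e'
  · rw [ho] at e'
    exact hc1 (orderOf_eq_one_iff.1 (Nat.dvd_one.1 (e ▸ Nat.dvd_gcd dvd_rfl ((dvd_mul_right _ _).trans e'))))
  · rw [ho] at e'
    exact hg (orderOf_eq_one_iff.1 (Nat.dvd_one.1 (e' ▸ Nat.dvd_gcd (dvd_mul_left _ _) hgr)))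

theorem Part.card_dvd (P : Part t K r r') (C : Subgroup G) (hC : ∀ c ∈ C, orderOf c ∣ r) :
    Nat.card C ∣ r := by
  refine Nat.Coprime.dvd_of_dvd_mul_right ?_ (P.card ▸ Subgroup.card_subgroup_dvd_card C)
  refine Nat.coprime_of_dvd fun p hp h1 h2 => ?_
  haveI : Fact p.Prime := ⟨hp⟩
  obtain ⟨x, hx⟩ := exists_prime_orderOf_dvd_card' (G := C) p h1
  have := hC x x.2
  rw [Subgroup.orderOf_coe, hx] at this
  exact hp.ne_one (Nat.dvd_one.1 (P.cop ▸ Nat.dvd_gcd this h2))

theorem Part.cent_card (h : Ctx t s K) (P : Part t K r r') {g : G} (hg : g ≠ 1)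
    (hgr : orderOf g ∣ r) : Nat.card (Subgroup.centralizer ({g} : Set G)) ∣ r :=
  P.card_dvd _ fun c hc => P.cent_order h hg hgr hc

theorem Ctx.invol_mul_self (h : Ctx t s K) {u : G} (hu : IsConj t u) : u * u = 1 := by
  rw [← sq, ← (h.isConj_iff_order.1 hu), pow_orderOf_eq_one]

theorem Ctx.invol_inverts (h : Ctx t s K) {u g : G} (hu : IsConj t u) (hug : IsConj t (u * g)) :
    u * g * u⁻¹ = g⁻¹ := by
  rw [inv_eq_of_mul_eq_one_right (h.invol_mul_self hu), eq_inv_iff_mul_eq_one]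
  simpa [mul_assoc] using h.invol_mul_self hug

/-- An element inverted by as many involutions as possible has an abelian centralizer. -/
theorem Part.full (h : Ctx t s K) (P : Part t K r r') {g : G} (hg : g ≠ 1) (hgr : orderOf g ∣ r)
    (hN : invCount t g = r) :
    ∃ u : G, orderOf u = 2 ∧ Nat.card (Subgroup.centralizer ({g} : Set G)) = r ∧
      (∀ c ∈ Subgroup.centralizer ({g} : Set G), u * c * u⁻¹ = c⁻¹) ∧
      (∀ x ∈ Subgroup.centralizer ({g} : Set G), x ≠ 1 →
        Subgroup.centralizer ({x} : Set G) = Subgroup.centralizer ({g} : Set G)) := by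
  have hr0 : 0 < r := Nat.pos_of_ne_zero fun e => by
    have := P.card; rw [e, zero_mul] at this; exact Nat.card_pos.ne' this
  rw [invCount] at hN
  obtain ⟨⟨u, hu, hug⟩⟩ : Nonempty {u : G // IsConj t u ∧ IsConj t (u * g)} :=
    (Nat.card_pos_iff.1 (hN ▸ hr0)).1
  have hu2 := h.invol_mul_self hu
  have hui : u⁻¹ = u := inv_eq_of_mul_eq_one_right hu2
  have hinv := h.invol_inverts hu hug
  let f : {v : G // IsConj t v ∧ IsConj t (v * g)} → ↥(Subgroup.centralizer ({g} : Set G)) :=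
    fun v => ⟨u * v, Subgroup.mem_centralizer_singleton_iff.2 (by
      have h1 := h.invol_inverts v.2.1 v.2.2
      rw [mul_inv_eq_iff_eq_mul] at h1
      have h2 := hinv
      rw [hui] at h2
      calc u * (v : G) * g = u * ((v : G) * g) := mul_assoc _ _ _
        _ = u * g⁻¹ * (v : G) := by rw [h1, ← mul_assoc]
        _ = u * (u * g * u) * (v : G) := by rw [h2]
        _ = g * (u * (v : G)) := by simp only [← mul_assoc, hu2, one_mul])⟩
  have hinj : Function.Injective f := fun v w e => Subtype.ext (mul_left_cancel (congrArg Subtype.val e))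
  have hle := Nat.card_le_card_of_injective f hinj
  have hcard : Nat.card (Subgroup.centralizer ({g} : Set G)) = r :=
    le_antisymm (Nat.le_of_dvd hr0 (P.cent_card h hg hgr)) (by rw [hN] at hle; exact hle)
  have hbij : Function.Bijective f := by
    rw [Nat.bijective_iff_injective_and_card]
    exact ⟨hinj, by rw [hN, hcard]⟩
  have hall : ∀ c ∈ Subgroup.centralizer ({g} : Set G), u * c * u⁻¹ = c⁻¹ := by
    intro c hc
    obtain ⟨v, hv⟩ := hbij.2 ⟨c, hc⟩
    have e : u * (v : G) = c := congrArg Subtype.val hv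
    have e2 : u * c * (u * c) = 1 := by
      rw [← e, ← mul_assoc u u (v : G), hu2, one_mul]
      exact h.invol_mul_self v.2.1
    rw [hui, eq_inv_iff_mul_eq_one]
    simpa [mul_assoc] using e2
  refine ⟨u, h.isConj_iff_order.1 hu, hcard, hall, fun x hx hx1 => ?_⟩
  have hsub : Subgroup.centralizer ({g} : Set G) ≤ Subgroup.centralizer ({x} : Set G) := by
    intro c hc
    rw [Subgroup.mem_centralizer_singleton_iff]
    have h1 := hall _ (mul_mem hc hx)
    rw [show u * (c * x) * u⁻¹ = (u * c * u⁻¹) * (u * x * u⁻¹) by group, hall c hc, hall x hx,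
      mul_inv_rev] at h1
    have := congrArg (·⁻¹) h1
    simpa [mul_inv_rev] using this.symm
  have hxr : orderOf x ∣ r := P.cent_order h hg hgr hx
  exact (Subgroup.eq_of_le_of_card_ge hsub
    (by rw [hcard]; exact Nat.le_of_dvd hr0 (P.cent_card h hx1 hxr))).symm

/-- A self-centralizing trivial intersection subgroup. -/
structure SelfTI (C : Subgroup G) : Prop where
  cent : ∀ x ∈ C, x ≠ 1 → Subgroup.centralizer ({x} : Set G) = C

theorem conj_cent (a x : G) :
    (Subgroup.centralizer ({x} : Set G)).map (MulAut.conj a).toMonoidHom =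
      Subgroup.centralizer ({a * x * a⁻¹} : Set G) := by
  ext g
  simp only [Subgroup.mem_map_equiv, Subgroup.mem_centralizer_singleton_iff, MulAut.conj_symm_apply]
  constructor
  · intro e
    calc g * (a * x * a⁻¹) = a * (a⁻¹ * g * a * x) * a⁻¹ := by group
      _ = a * x * a⁻¹ * g := by rw [e]; group
  · intro e
    calc a⁻¹ * g * a * x = a⁻¹ * (g * (a * x * a⁻¹)) * a := by group
      _ = x * (a⁻¹ * g * a) := by rw [e]; group

theorem SelfTI.norm {C : Subgroup G} (hC : SelfTI C) {g x : G} (hx : x ∈ C) (hx1 : x ≠ 1)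
    (hgx : g * x * g⁻¹ ∈ C) : g ∈ Subgroup.normalizer (C : Set G) := by
  have e : C.map (MulAut.conj g).toMonoidHom = C := by
    conv_lhs => rw [← hC.cent x hx hx1]
    rw [conj_cent, hC.cent _ hgx (fun r => hx1 (conj_eq_one_iff.1 r))]
  rw [Subgroup.mem_normalizer_iff]
  intro y
  conv_rhs => rw [← e]
  simp only [Subgroup.mem_map_equiv, MulAut.conj_symm_apply]
  rw [show g⁻¹ * (g * y * g⁻¹) * g = y by group]

theorem card_conjugates (C : Subgroup G)
    (hTI : ∀ x ∈ C, x ≠ 1 → ∀ g : G, g * x * g⁻¹ ∈ C → g ∈ Subgroup.normalizer (C : Set G))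
    (p : G → Prop) (hp : ∀ g : G, p g ↔ g ≠ 1 ∧ ∃ a : G, a⁻¹ * g * a ∈ C) :
    Nat.card {g : G // p g} = (Subgroup.normalizer (C : Set G)).index * (Nat.card C - 1) := by
  set N := Subgroup.normalizer (C : Set G) with hN
  let A : Finset (G × ↥C) := Finset.univ ×ˢ (Finset.univ.erase 1)
  let B : Finset G := Finset.univ.filter p
  let f : G × ↥C → G := fun p => p.1 * (p.2 : G) * p.1⁻¹
  have hmap : ∀ v ∈ A, f v ∈ B := by
    rintro ⟨a, y⟩ hv
    simp only [A, Finset.mem_product, Finset.mem_univ, Finset.mem_erase, true_and, and_true] at hv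
    simp only [B, f, Finset.mem_filter, Finset.mem_univ, true_and, hp]
    exact ⟨fun r => hv (Subtype.ext (conj_eq_one_iff.1 r)), a,
      by rw [show a⁻¹ * (a * (y : G) * a⁻¹) * a = y by group]; exact y.2⟩
  have hfib : ∀ g ∈ B, (A.filter fun v => f v = g).card = Nat.card N := by
    intro g hg
    obtain ⟨hg1, a, ha⟩ := (hp g).1 (Finset.mem_filter.1 hg).2
    rw [Nat.card_eq_fintype_card, Fintype.card_subtype]
    refine Finset.card_bij (fun v _ => a⁻¹ * v.1) ?_ ?_ ?_
    · rintro ⟨c, y⟩ hv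
      simp only [A, f, Finset.mem_filter, Finset.mem_product, Finset.mem_univ, Finset.mem_erase,
        true_and, and_true] at hv
      simp only [Finset.mem_filter, Finset.mem_univ, true_and]
      refine hTI y y.2 (fun r => hv.1 (Subtype.ext r)) _ ?_
      rw [show a⁻¹ * c * (y : G) * (a⁻¹ * c)⁻¹ = a⁻¹ * (c * (y : G) * c⁻¹) * a by group, hv.2]
      exact ha
    · rintro ⟨c, y⟩ hv ⟨c', y'⟩ hv' e
      simp only [A, f, Finset.mem_filter] at hv hv'
      have r1 : c = c' := mul_left_cancel e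
      subst r1
      have r2 := hv.2.trans hv'.2.symm
      rw [mul_left_inj, mul_right_inj] at r2
      rw [Subtype.ext r2]
    · intro w hw
      simp only [Finset.mem_filter, Finset.mem_univ, true_and] at hw
      refine ⟨(a * w, ⟨w⁻¹ * (a⁻¹ * g * a) * w, ?_⟩), ?_, by simp⟩
      · exact (Subgroup.mem_normalizer_iff''.1 hw _).1 ha
      · simp only [A, f, Finset.mem_filter, Finset.mem_product, Finset.mem_univ, Finset.mem_erase,
          true_and, and_true]
        refine ⟨fun e => hg1 ?_, by group⟩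
        have e' := congrArg Subtype.val e
        simp only [OneMemClass.coe_one] at e'
        calc g = a * (w * (w⁻¹ * (a⁻¹ * g * a) * w) * w⁻¹) * a⁻¹ := by group
          _ = 1 := by rw [e']; group
  have h1 : A.card = B.card * Nat.card N := by
    rw [Finset.card_eq_sum_card_fiberwise hmap, Finset.sum_congr rfl hfib, Finset.sum_const,
      smul_eq_mul]
  simp only [A, Finset.card_product, Finset.card_univ, Finset.card_erase_of_mem (Finset.mem_univ _),
    ← Nat.card_eq_fintype_card, ← N.index_mul_card] at h1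
  rw [Nat.card_eq_fintype_card, Fintype.card_subtype]
  exact (Nat.eq_of_mul_eq_mul_right (Nat.card_pos (α := ↥N)) (by rw [← h1]; ring)).symm

/-- An element of prime order dividing `r` is conjugate into any subgroup of order `r`. -/
theorem Part.prime_conj (P : Part t K r r') {C : Subgroup G} (hC : Nat.card C = r) {z : G} {p : ℕ}
    (hp : p.Prime) (hz : orderOf z = p) (hpr : p ∣ r) : ∃ a : G, a⁻¹ * z * a ∈ C := by
  haveI : Fact p.Prime := ⟨hp⟩
  have hP : IsPGroup p (Subgroup.zpowers z) :=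
    IsPGroup.of_card (n := 1) (by rw [Nat.card_zpowers, hz, pow_one])
  have hidx : C.index = r' := by
    have h1 := C.index_mul_card
    rw [hC, P.card, mul_comm r] at h1
    have hr0 : r ≠ 0 := fun e => Nat.card_pos.ne' (hC.trans e)
    exact Nat.eq_of_mul_eq_mul_right (Nat.pos_of_ne_zero hr0) h1
  obtain ⟨x, hx⟩ := hP.nonempty_fixed_point_of_prime_not_dvd_card (G ⧸ C)
    (by rw [← Subgroup.index_eq_card, hidx]
        exact fun h2 => hp.ne_one (Nat.dvd_one.1 (P.cop ▸ Nat.dvd_gcd hpr h2)))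
  obtain ⟨a, rfl⟩ := QuotientGroup.mk_surjective x
  refine ⟨a, ?_⟩
  have := hx ⟨z, Subgroup.mem_zpowers z⟩
  change ((z * a : G) : G ⧸ C) = _ at this
  rw [QuotientGroup.eq] at this
  simp only [mul_inv_rev] at this
  exact inv_mem_iff.1 (by simpa [mul_assoc] using this)

/-- When every element of the section is fully inverted, there is one class of centralizers. -/
theorem Part.count (h : Ctx t s K) (P : Part t K r r')
    (hN : ∀ g : G, g ≠ 1 → orderOf g ∣ r → invCount t g = r) {z : G} {p : ℕ} (hp : p.Prime)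
    (hz : orderOf z = p) (hpr : p ∣ r) :
    ∃ u : G, orderOf u = 2 ∧ Nat.card (Subgroup.centralizer ({z} : Set G)) = r ∧
      SelfTI (Subgroup.centralizer ({z} : Set G)) ∧
      (∀ c ∈ Subgroup.centralizer ({z} : Set G), u * c * u⁻¹ = c⁻¹) ∧
      Nat.card {g : G // g ≠ 1 ∧ ¬ InK K g ∧ orderOf g ∣ r} =
        (Subgroup.normalizer (Subgroup.centralizer ({z} : Set G) : Set G)).index * (r - 1) := by
  have hz1 : z ≠ 1 := fun e => hp.ne_one (by rw [← hz, e, orderOf_one])
  obtain ⟨u, hu, hC, hinv, hcent⟩ := P.full h hz1 (hz ▸ hpr) (hN z hz1 (hz ▸ hpr))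
  refine ⟨u, hu, hC, ⟨hcent⟩, hinv, ?_⟩
  rw [card_conjugates _ (fun x hx hx1 g hg => SelfTI.norm ⟨hcent⟩ hx hx1 hg)
    (fun g => g ≠ 1 ∧ ¬ InK K g ∧ orderOf g ∣ r) ?_, hC]
  intro g
  constructor
  · rintro ⟨g1, -, gr⟩
    refine ⟨g1, ?_⟩
    obtain ⟨u', -, hC', -, hcent'⟩ := P.full h g1 gr (hN g g1 gr)
    obtain ⟨b, hb⟩ := P.prime_conj hC' hp hz hpr
    have hb1 : b⁻¹ * z * b ≠ 1 := fun e => hz1 (by
      calc z = b * (b⁻¹ * z * b) * b⁻¹ := by group
        _ = 1 := by rw [e]; group)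
    refine ⟨b⁻¹, ?_⟩
    have e := conj_cent b (b⁻¹ * z * b)
    rw [hcent' _ hb hb1, show b * (b⁻¹ * z * b) * b⁻¹ = z by group] at e
    rw [inv_inv, ← e]
    exact Subgroup.mem_map.2 ⟨g, Subgroup.mem_centralizer_singleton_iff.2 rfl, rfl⟩
  · rintro ⟨g1, a, ha⟩
    have hord : orderOf g ∣ r := by
      rw [show g = MulAut.conj a (a⁻¹ * g * a) by simp [mul_assoc], MulEquiv.orderOf_eq]
      exact P.cent_order h hz1 (hz ▸ hpr) ha
    exact ⟨g1, P.not_inK g1 hord, hord⟩

end Cfsg.Agent.Char.BSW
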