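import Cfsg.Agent.Lib.Char.BSW.Two
import Cfsg.Agent.Lib.Lie.ZassenhausHalf
import Cfsg.Agent.Lib.Lie.ZassenhausOddHalf
import Cfsg.Agent.Lib.Char.Burnside

/-!
# From the conclusion of the Brauer-Suzuki-Wall theorem to `PSL₂`
-/

set_option autoImplicit false
set_option linter.unusedSectionVars false
set_option linter.style.haveILetI false

namespace Cfsg.Agent.Char.BSW

open MulAction

variable {G : Type*} [Group G] [Finite G]

theorem not_simple_of_solvable [IsSimpleGroup G] (hna : ∃ a b : G, a * b ≠ b * a)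
    (h : Group.IsSolvable G) : False := by
  obtain ⟨a, b, hab⟩ := hna
  rcases (commutator_def G ▸ (inferInstance : (commutator G).Normal) : (commutator G).Normal).eq_bot_or_eq_top with e | e
  · exact hab (commutatorElement_eq_one_iff_mul_comm.1
      (Subgroup.mem_bot.1 (e ▸ Subgroup.commutator_mem_commutator (Subgroup.mem_top a) (Subgroup.mem_top b))))
  · haveI := h
    exact (ne_of_lt (IsSolvable.commutator_lt_top_of_nontrivial G)) e

theorem psl_of_structure [IsSimpleGroup G] (hna : ∃ a b : G, a * b ≠ b * a) (Q D : Subgroup G)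
    (hcard : 2 * Nat.card G = Nat.card ↥Q * (Nat.card ↥Q + 1) * (Nat.card ↥Q - 1))
    (hcent : ∀ x ∈ Q, x ≠ 1 → Subgroup.centralizer ({x} : Set G) = Q)
    (hDc : IsMulCommutative ↥D) (hDQ : 2 * Nat.card ↥D + 1 = Nat.card ↥Q) (hinf : Q ⊓ D = ⊥)
    (hN : Subgroup.normalizer (Q : Set G) = Q ⊔ D) :
    ∃ (F : Type) (_ : Field F) (_ : Fintype F),
      Nonempty (G ≃* Matrix.ProjectiveSpecialLinearGroup (Fin 2) F) ∧
      (Even (Nat.card ↥D) → Odd (Fintype.card F)) := by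
  classical
  haveI := Fintype.ofFinite G
  obtain ⟨N, hNd⟩ : ∃ N, N = Subgroup.normalizer (Q : Set G) := ⟨_, rfl⟩
  obtain ⟨d, hdd⟩ : ∃ d, d = Nat.card ↥D := ⟨_, rfl⟩
  rw [← hdd] at hDQ
  have hdpos : 0 < d := hdd ▸ Nat.card_pos
  have hQN : Q ≤ N := hNd ▸ Subgroup.le_normalizer
  have hDN : D ≤ N := by rw [hNd, hN]; exact le_sup_right
  have hconjQ : ∀ h ∈ N, ∀ u ∈ Q, h * u * h⁻¹ ∈ Q := fun h hh u hu =>
    norm_conj (hNd ▸ hh) hu
  have hNsplit : ∀ h ∈ N, ∃ u ∈ Q, ∃ v ∈ D, u * v = h := by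
    intro h hh
    have h1 : h ∈ (↑(Q ⊔ D) : Set G) := by rw [← hN, ← hNd]; exact hh
    rw [Subgroup.coe_mul_of_right_le_normalizer_left Q D (hNd ▸ hDN)] at h1
    obtain ⟨u, hu, v, hv, e⟩ := Set.mem_mul.1 h1
    exact ⟨u, hu, v, hv, e⟩
  have hNcard : Nat.card N = Nat.card Q * d := by
    rw [hdd, ← Nat.card_prod]
    refine (Nat.card_eq_of_bijective
      (fun p : Q × D => (⟨p.1 * p.2, mul_mem (hQN p.1.2) (hDN p.2.2)⟩ : N)) ⟨?_, ?_⟩).symm
    · rintro ⟨⟨u, hu⟩, ⟨v, hv⟩⟩ ⟨⟨u', hu'⟩, ⟨v', hv'⟩⟩ e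
      have e1 : u * v = u' * v' := congrArg Subtype.val e
      have h1 : u'⁻¹ * u = v' * v⁻¹ := by rw [eq_mul_inv_iff_mul_eq, mul_assoc, e1, inv_mul_cancel_left]
      have h2 : u'⁻¹ * u ∈ Q ⊓ D :=
        Subgroup.mem_inf.2 ⟨mul_mem (inv_mem hu') hu, h1 ▸ mul_mem hv' (inv_mem hv)⟩
      rw [hinf, Subgroup.mem_bot] at h2
      obtain rfl : u' = u := inv_mul_eq_one.1 h2
      obtain rfl := mul_left_cancel e1
      rfl
    · rintro ⟨h, hh⟩
      obtain ⟨u, hu, v, hv, e⟩ := hNsplit h hh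
      exact ⟨(⟨u, hu⟩, ⟨v, hv⟩), Subtype.ext e⟩
  have hG : Nat.card G = Nat.card Q * d * (Nat.card Q + 1) := by
    have e : Nat.card Q - 1 = 2 * d := by omega
    rw [e] at hcard
    have : 2 * Nat.card G = 2 * (Nat.card Q * d * (Nat.card Q + 1)) := by rw [hcard]; ring
    omega
  have hd2 : 2 ≤ d := by
    by_contra hlt
    have hd1 : d = 1 := by omega
    refine not_simple_of_solvable hna (Char.isSolvable_of_two_primes Nat.prime_two Nat.prime_three
      (Nat.card G) rfl fun r hr hdvd => ?_)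
    have h12 : Nat.card G = 12 := by rw [hG, ← hDQ, hd1]
    rw [h12] at hdvd
    have := Nat.le_of_dvd (by norm_num) hdvd
    interval_cases r <;> first | decide | (norm_num at hr; done) | (norm_num at hdvd; done)
  have hidx : N.index = Nat.card Q + 1 := by
    have := N.card_mul_index
    rw [hNcard, hG] at this
    exact Nat.eq_of_mul_eq_mul_left (Nat.mul_pos Nat.card_pos hdpos) this
  haveI : Fintype (G ⧸ N) := Fintype.ofFinite _
  have hΩ : Fintype.card (G ⧸ N) = Nat.card Q + 1 := by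
    rw [← Nat.card_eq_fintype_card, ← Subgroup.index, hidx]
  obtain ⟨a₀, ha₀⟩ : ∃ a : G ⧸ N, a = ((1 : G) : G ⧸ N) := ⟨_, rfl⟩
  have hstab : ∀ g : G, g • a₀ = a₀ ↔ g ∈ N := fun g => by
    rw [ha₀, MulAction.Quotient.smul_mk, smul_eq_mul, mul_one, QuotientGroup.eq, mul_one]
    exact inv_mem_iff
  -- `Q` is regular on the other points
  have hfree : ∀ u ∈ Q, u ≠ 1 → ∀ c : G ⧸ N, u • c = c → c = a₀ := by
    intro u hu hu1 c hc
    obtain ⟨g, rfl⟩ := QuotientGroup.mk_surjective c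
    rw [MulAction.Quotient.smul_mk, smul_eq_mul, QuotientGroup.eq, mul_inv_rev] at hc
    have hy : g⁻¹ * u * g ∈ N := by
      have h1 := inv_mem hc
      simpa [mul_assoc] using h1
    obtain ⟨y, hyd⟩ : ∃ y, y = g⁻¹ * u * g := ⟨_, rfl⟩
    rw [← hyd] at hy
    have hy1 : y ≠ 1 := by
      intro e
      apply hu1
      have : u = g * y * g⁻¹ := by rw [hyd]; group
      rw [this, e]; group
    have hyo : orderOf y ∣ Nat.card Q := by
      rw [hyd, show g⁻¹ * u * g = MulAut.conj g⁻¹ u by simp [mul_assoc], MulEquiv.orderOf_eq]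
      exact (Subgroup.orderOf_coe (⟨u, hu⟩ : Q)) ▸ orderOf_dvd_natCard (⟨u, hu⟩ : Q)
    have hyQ : y ∈ Q := by
      haveI : (Q.subgroupOf N).Normal := ⟨fun v hv h => hconjQ h h.2 v hv⟩
      have h1 := Subgroup.pow_index_mem (Q.subgroupOf N) ⟨y, hy⟩
      have h2 : (Q.subgroupOf N).index = d := by
        have h3 := (Q.subgroupOf N).card_mul_index
        rw [Nat.card_congr (Subgroup.subgroupOfEquivOfLe hQN).toEquiv, hNcard] at h3
        exact Nat.eq_of_mul_eq_mul_left Nat.card_pos h3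
      rw [h2, Subgroup.mem_subgroupOf, SubmonoidClass.coe_pow] at h1
      obtain ⟨m, hm⟩ := exists_pow_eq_self_of_coprime (x := y) (n := d)
        ((show Nat.Coprime d (Nat.card Q) by
          rw [← hDQ, mul_comm, Nat.coprime_mul_left_add_right]; exact Nat.coprime_one_right _).coprime_dvd_right hyo)
      rw [← hm]
      exact pow_mem h1 m
    rw [ha₀]
    refine (QuotientGroup.eq.2 ?_)
    rw [mul_one]
    rw [hNd]
    refine mem_norm_of_conj fun z hz => ?_
    rw [inv_inv, ← hcent y hyQ hy1, Subgroup.mem_centralizer_singleton_iff]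
    have hzu : z * u = u * z := by
      have := hcent u hu hu1 ▸ hz
      exact Subgroup.mem_centralizer_singleton_iff.1 this
    calc g⁻¹ * z * g * y = g⁻¹ * (z * u) * g := by rw [hyd]; group
      _ = g⁻¹ * (u * z) * g := by rw [hzu]
      _ = y * (g⁻¹ * z * g) := by rw [hyd]; group
  have hreg : ∀ b c : G ⧸ N, b ≠ a₀ → c ≠ a₀ → ∃ u ∈ Q, u • b = c := by
    intro b c hb hc
    let f : Q → {x : G ⧸ N // x ≠ a₀} := fun u => ⟨(u : G) • b, fun h =>
      hb (MulAction.injective (u : G) (h.trans ((hstab _).2 (hQN u.2)).symm))⟩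
    have hf : Function.Injective f := fun u v e => by
      have e' : (u : G) • b = (v : G) • b := congrArg Subtype.val e
      by_contra hne
      refine hb (hfree ((v : G)⁻¹ * u) (mul_mem (inv_mem v.2) u.2)
        (fun h => hne (Subtype.ext (inv_mul_eq_one.1 h).symm)) b ?_)
      rw [mul_smul, e', inv_smul_smul]
    have hf' : Function.Bijective f := (Nat.bijective_iff_injective_and_card f).2 ⟨hf, by
      rw [Nat.card_eq_fintype_card (α := {x : G ⧸ N // x ≠ a₀}), Fintype.card_subtype_compl,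
        Fintype.card_subtype_eq, hΩ]
      omega⟩
    obtain ⟨u, hu⟩ := hf'.2 ⟨c, hc⟩
    exact ⟨u, u.2, congrArg Subtype.val hu⟩
  have htr : ∀ b : G ⧸ N, ∃ g : G, g • a₀ = b := fun b => MulAction.exists_smul_eq G a₀ b
  have h2t : IsMultiplyPretransitive G (G ⧸ N) 2 := by
    rw [is_two_pretransitive_iff]
    intro a b c e hab hce
    obtain ⟨g, rfl⟩ := htr a
    obtain ⟨k, rfl⟩ := htr c
    obtain ⟨u, hu, hub⟩ := hreg (g⁻¹ • b) (k⁻¹ • e)
      (fun h => hab (by rw [← h, smul_inv_smul])) (fun h => hce (by rw [← h, smul_inv_smul]))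
    refine ⟨k * u * g⁻¹, ?_, ?_⟩
    · rw [mul_smul, inv_smul_smul, mul_smul, (hstab u).2 (hQN hu)]
    · rw [mul_smul, mul_smul, hub, smul_inv_smul]
  obtain ⟨g₁, hg₁⟩ : ∃ g : G, g ∉ N := by
    by_contra h
    push Not at h
    have : N = ⊤ := eq_top_iff.2 fun g _ => h g
    rw [this, Subgroup.index_top] at hidx
    have := Nat.card_pos (α := ↥Q)
    omega
  obtain ⟨b₀, hb₀, hb₀d⟩ : ∃ b : G ⧸ N, b ≠ a₀ ∧ b = g₁ • a₀ :=
    ⟨_, fun h => hg₁ ((hstab g₁).1 h), rfl⟩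
  have hFaith : FaithfulSMul G (G ⧸ N) := by
    have hker : (toPermHom G (G ⧸ N)).ker = ⊥ := by
      rcases (MonoidHom.normal_ker (toPermHom G (G ⧸ N))).eq_bot_or_eq_top with e | e
      · exact e
      · exfalso
        have h1 : g₁ ∈ (toPermHom G (G ⧸ N)).ker := e ▸ Subgroup.mem_top _
        exact hg₁ ((hstab g₁).1 (congrArg (fun π : Equiv.Perm (G ⧸ N) => π a₀) (MonoidHom.mem_ker.1 h1)))
    exact ⟨fun {g h} e => ((MonoidHom.ker_eq_bot_iff _).1 hker) (Equiv.ext e)⟩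
  -- the stabilisers of two points
  have hE : ∀ b : G ⧸ N, b ≠ a₀ → Nat.card ↥(stabilizer G a₀ ⊓ stabilizer G b) = d := by
    intro b hb
    obtain ⟨E, hEd⟩ : ∃ E, E = stabilizer G a₀ ⊓ stabilizer G b := ⟨_, rfl⟩
    rw [← hEd]
    have hmE : ∀ x, x ∈ E ↔ x • a₀ = a₀ ∧ x • b = b := fun x => by rw [hEd]; exact Iff.rfl
    have hEN : E ≤ N := fun x hx => (hstab x).1 ((hmE x).1 hx).1
    have h1 : Nat.card (Q × E) = Nat.card N := by
      refine Nat.card_eq_of_bijective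
        (fun p : Q × E => (⟨p.1 * p.2, mul_mem (hQN p.1.2) (hEN p.2.2)⟩ : N)) ⟨?_, ?_⟩
      · rintro ⟨⟨u, hu⟩, ⟨v, hv⟩⟩ ⟨⟨u', hu'⟩, ⟨v', hv'⟩⟩ e
        have e1 : u * v = u' * v' := congrArg Subtype.val e
        have h2 : u'⁻¹ * u = v' * v⁻¹ := by rw [eq_mul_inv_iff_mul_eq, mul_assoc, e1, inv_mul_cancel_left]
        have h3 : (v' * v⁻¹) • b = b := ((hmE _).1 (mul_mem hv' (inv_mem hv))).2
        obtain rfl : u' = u := by
          by_contra hne
          exact hb (hfree _ (mul_mem (inv_mem hu') hu) (fun h => hne (inv_mul_eq_one.1 h)) b (h2 ▸ h3))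
        obtain rfl := mul_left_cancel e1
        rfl
      · rintro ⟨h, hh⟩
        have hha := (hstab h).2 hh
        obtain ⟨u, hu, hub⟩ := hreg b (h • b) hb
          (fun e => hb (MulAction.injective h (e.trans hha.symm)))
        refine ⟨(⟨u, hu⟩, ⟨u⁻¹ * h, (hmE _).2 ⟨?_, ?_⟩⟩), Subtype.ext (mul_inv_cancel_left u h)⟩
        · rw [mul_smul, hha]; exact (hstab _).2 (inv_mem (hQN hu))
        · rw [mul_smul, ← hub, inv_smul_smul]
    rw [Nat.card_prod, hNcard] at h1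
    exact Nat.eq_of_mul_eq_mul_left Nat.card_pos h1
  have h3₀ : ∀ (x : G) (b c : G ⧸ N), b ≠ a₀ → c ≠ a₀ → b ≠ c → x • a₀ = a₀ → x • b = b → x • c = c → x = 1 := by
    intro x b c hb hc hbc hxa hxb hxc
    obtain ⟨u, hu, hub⟩ := hreg b c hb hc
    have hu1 : u ≠ 1 := fun e => hbc (by rw [← hub, e, one_smul])
    have hxN := (hstab x).1 hxa
    have hw : x⁻¹ * (u⁻¹ * x * u) ∈ Q := by
      have h1 := hconjQ x⁻¹ (inv_mem hxN) u⁻¹ (inv_mem hu)
      rw [inv_inv] at h1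
      have h2 := mul_mem h1 hu
      simpa [mul_assoc] using h2
    have hwb : (x⁻¹ * (u⁻¹ * x * u)) • b = b := by
      rw [mul_smul, mul_smul, mul_smul, hub, hxc, ← hub, inv_smul_smul]
      exact inv_smul_eq_iff.2 hxb.symm
    have hw1 : x⁻¹ * (u⁻¹ * x * u) = 1 := by
      by_contra h
      exact hb (hfree _ hw h b hwb)
    have hxQ : x ∈ Q := by
      rw [← hcent u hu hu1, Subgroup.mem_centralizer_singleton_iff]
      have h := inv_mul_eq_one.1 hw1
      calc x * u = u * (u⁻¹ * x * u) := by group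
        _ = u * x := by rw [← h]
    by_contra h
    exact hb (hfree x hxQ h b hxb)
  have h3 : ∀ g : G, ∀ a b c : G ⧸ N, a ≠ b → b ≠ c → a ≠ c → g • a = a → g • b = b → g • c = c → g = 1 := by
    intro g a b c hab hbc hac ha hb hc
    obtain ⟨k, rfl⟩ := htr a
    have e : ∀ x : G ⧸ N, g • x = x → (k⁻¹ * g * k) • (k⁻¹ • x) = k⁻¹ • x := fun x hx => by
      rw [mul_smul, mul_smul, smul_inv_smul, hx]
    have h1 := h3₀ (k⁻¹ * g * k) (k⁻¹ • b) (k⁻¹ • c) (fun h => hab (by rw [← h, smul_inv_smul]))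
      (fun h => hac (by rw [← h, smul_inv_smul])) (fun h => hbc (MulAction.injective _ h))
      (by simpa using e _ ha) (e _ hb) (e _ hc)
    calc g = k * (k⁻¹ * g * k) * k⁻¹ := by group
      _ = 1 := by rw [h1]; group
  have hZ : Cfsg.IsZassenhausGroup G (G ⧸ N) := by
    refine ⟨hFaith, h2t, h3, ?_, fun K hK hKt => ?_⟩
    · have hne : (stabilizer G a₀ ⊓ stabilizer G b₀) ≠ ⊥ := fun h => by
        have := hE b₀ hb₀
        rw [h, Subgroup.card_bot] at this
        omega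
      obtain ⟨⟨x, hx⟩, hx1⟩ := Subgroup.ne_bot_iff_exists_ne_one.1 hne
      exact ⟨x, fun e => hx1 (Subtype.ext e), a₀, b₀, hb₀.symm, hx.1, hx.2⟩
    · refine ⟨a₀, fun hbot => ?_⟩
      rcases hK.eq_bot_or_eq_top with rfl | rfl
      · obtain ⟨x, hx⟩ := hKt.exists_smul_eq a₀ b₀
        obtain rfl : x = 1 := Subsingleton.elim _ _
        exact hb₀ (hx.symm.trans (one_smul _ _))
      · have hne : (stabilizer G a₀ ⊓ stabilizer G b₀) ≠ ⊥ := fun h => by
          have := hE b₀ hb₀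
          rw [h, Subgroup.card_bot] at this
          omega
        obtain ⟨⟨x, hx⟩, hx1⟩ := Subgroup.ne_bot_iff_exists_ne_one.1 hne
        have : (⟨x, Subgroup.mem_top x⟩ : (⊤ : Subgroup G)) ∈ stabilizer (⊤ : Subgroup G) a₀ := hx.1
        have := hbot.le this
        rw [Subgroup.mem_bot] at this
        exact hx1 (Subtype.ext (congrArg Subtype.val this : x = 1))
  have hc2 := hE b₀ hb₀
  rcases Nat.even_or_odd d with he | ho
  · obtain ⟨F, iF, iFF, h4, -, hiso⟩ := Lie.ZassenhausHalf.psl_of_half hZ hb₀.symm (hc2 ▸ he)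
      (by rw [hc2, hΩ]; omega)
    exact ⟨F, iF, iFF, hiso, fun _ => Nat.odd_iff.2 (by omega)⟩
  · obtain ⟨F, iF, iFF, hiso⟩ := Lie.ZassenhausOddHalf.psl_of_half_odd hZ hb₀.symm (hc2 ▸ ho)
      (by rw [hc2, hΩ]; omega)
    exact ⟨F, iF, iFF, hiso, fun he => absurd (hdd ▸ he) (Nat.not_even_iff_odd.2 ho)⟩

end Cfsg.Agent.Char.BSW
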