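import Mathlib

/-!
# A generalized dihedral centralizer of an involution

Elementary facts about the hypotheses of the abstract Brauer-Suzuki-Wall theorem.
-/

set_option autoImplicit false
set_option linter.unusedSectionVars false
set_option linter.unusedVariables false
set_option linter.style.haveILetI false

namespace Cfsg.Agent.Char.BSW

open scoped Classical

variable {G : Type*} [Group G]

/-- The hypotheses. -/
structure Ctx (t s : G) (K : Subgroup G) : Prop where
  t2 : orderOf t = 2
  comm : ∀ x ∈ K, ∀ y ∈ K, x * y = y * x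
  kle : K ≤ Subgroup.centralizer ({t} : Set G)
  tK : t ∈ K
  s2 : orderOf s = 2
  sH : s ∈ Subgroup.centralizer ({t} : Set G)
  sK : s ∉ K
  sup_eq : K ⊔ Subgroup.zpowers s = Subgroup.centralizer ({t} : Set G)
  fixK : K ⊓ Subgroup.centralizer ({s} : Set G) = Subgroup.zpowers t
  inv : ∀ x ∈ K, s * x * s⁻¹ = x⁻¹
  ti : ∀ g : G, g ∉ Subgroup.centralizer ({t} : Set G) → K ⊓ K.map (MulAut.conj g).toMonoidHom = ⊥
  conj : ∀ x y : G, orderOf x = 2 → orderOf y = 2 → IsConj x y

variable {t s : G} {K : Subgroup G}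

theorem Ctx.t_sq (h : Ctx t s K) : t * t = 1 := by
  rw [← sq, ← h.t2, pow_orderOf_eq_one]

theorem Ctx.t_inv (h : Ctx t s K) : t⁻¹ = t := inv_eq_of_mul_eq_one_right h.t_sq

theorem Ctx.t_ne (h : Ctx t s K) : t ≠ 1 := fun e => by simpa [e] using h.t2

theorem Ctx.s_sq (h : Ctx t s K) : s * s = 1 := by
  rw [← sq, ← h.s2, pow_orderOf_eq_one]

theorem Ctx.s_inv (h : Ctx t s K) : s⁻¹ = s := inv_eq_of_mul_eq_one_right h.s_sq

theorem Ctx.sxs (h : Ctx t s K) {x : G} (hx : x ∈ K) : s * x * s = x⁻¹ := by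
  have := h.inv x hx
  rwa [h.s_inv] at this

theorem Ctx.mem_or (h : Ctx t s K) {g : G} (hg : g ∈ Subgroup.centralizer ({t} : Set G)) :
    g ∈ K ∨ s * g ∈ K := by
  let L : Subgroup G :=
    { carrier := {g | g ∈ K ∨ s * g ∈ K}
      one_mem' := Or.inl K.one_mem
      mul_mem' := by
        intro a b ha hb
        rcases ha with ha | ha <;> rcases hb with hb | hb
        · exact Or.inl (K.mul_mem ha hb)
        · refine Or.inr ?_
          have e : s * (a * b) = a⁻¹ * (s * b) := by rw [← h.sxs ha]; simp [mul_assoc, ← mul_assoc s s, h.s_sq]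
          rw [e]; exact K.mul_mem (K.inv_mem ha) hb
        · exact Or.inr (by rw [← mul_assoc]; exact K.mul_mem ha hb)
        · refine Or.inl ?_
          have e : a * b = (s * a)⁻¹ * (s * b) := by
            rw [← h.sxs ha]; simp [mul_assoc, ← mul_assoc s s, h.s_sq]
          rw [e]; exact K.mul_mem (K.inv_mem ha) hb
      inv_mem' := by
        intro a ha
        rcases ha with ha | ha
        · exact Or.inl (K.inv_mem ha)
        · refine Or.inr ?_
          have e : s * a⁻¹ = s * a := by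
            have h2 := h.sxs ha
            have e1 : a * s = (s * a)⁻¹ := by rw [← h2]; simp [← mul_assoc, h.s_sq]
            rw [mul_inv_rev, h.s_inv] at e1
            calc s * a⁻¹ = s * (a⁻¹ * s) * s := by simp [mul_assoc, h.s_sq]
              _ = s * (a * s) * s := by rw [e1]
              _ = s * a := by simp [mul_assoc, h.s_sq]
          rw [e]; exact ha }
  have hle : Subgroup.centralizer ({t} : Set G) ≤ L := by
    rw [← h.sup_eq]
    refine sup_le (fun x hx => Or.inl hx) ?_
    rw [Subgroup.zpowers_le]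
    exact Or.inr (by rw [h.s_sq]; exact K.one_mem)
  exact hle hg

theorem Ctx.sK_mem (h : Ctx t s K) {x : G} (hx : x ∈ K) :
    s * x ∈ Subgroup.centralizer ({t} : Set G) := mul_mem h.sH (h.kle hx)

theorem Ctx.sK_not_mem (h : Ctx t s K) {x : G} (hx : x ∈ K) : s * x ∉ K := fun h' =>
  h.sK (by simpa using K.mul_mem h' (K.inv_mem hx))

/-- Elements of the centralizer outside `K` are involutions. -/
theorem Ctx.out_sq (h : Ctx t s K) {g : G} (hg : g ∈ Subgroup.centralizer ({t} : Set G))
    (hgK : g ∉ K) : g * g = 1 := by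
  have hx : s * g ∈ K := (h.mem_or hg).resolve_left hgK
  have h1 := h.sxs hx
  calc g * g = (s * (s * g) * s) * (s * g) := by simp [mul_assoc, ← mul_assoc s s, h.s_sq]
    _ = (s * g)⁻¹ * (s * g) := by rw [h1]
    _ = 1 := inv_mul_cancel _

theorem Ctx.out_order (h : Ctx t s K) {g : G} (hg : g ∈ Subgroup.centralizer ({t} : Set G))
    (hgK : g ∉ K) : orderOf g = 2 :=
  orderOf_eq_prime (by rw [sq, h.out_sq hg hgK]) fun e => hgK (e ▸ K.one_mem)

theorem Ctx.out_inv (h : Ctx t s K) {g x : G} (hg : g ∈ Subgroup.centralizer ({t} : Set G))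
    (hgK : g ∉ K) (hx : x ∈ K) : g * x * g⁻¹ = x⁻¹ := by
  set y := s * g with hy_def
  have hy : y ∈ K := (h.mem_or hg).resolve_left hgK
  have hg' : g = s * y := by rw [hy_def, ← mul_assoc, h.s_sq, one_mul]
  rw [hg', mul_inv_rev, show s * y * x * (y⁻¹ * s⁻¹) = s * (y * x * y⁻¹) * s⁻¹ by group,
    h.comm y hy x hx, mul_inv_cancel_right]
  exact h.inv x hx

theorem Ctx.conj_mem (h : Ctx t s K) {g x : G} (hg : g ∈ Subgroup.centralizer ({t} : Set G))
    (hx : x ∈ K) : g * x * g⁻¹ ∈ K := by
  by_cases hgK : g ∈ K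
  · exact K.mul_mem (K.mul_mem hgK hx) (K.inv_mem hgK)
  · rw [h.out_inv hg hgK hx]; exact K.inv_mem hx

theorem Ctx.mem_of_conj (h : Ctx t s K) {g x : G} (hx : x ∈ K) (hx1 : x ≠ 1)
    (hgx : g * x * g⁻¹ ∈ K) : g ∈ Subgroup.centralizer ({t} : Set G) := by
  by_contra hg
  have hm : g * x * g⁻¹ ∈ K ⊓ K.map (MulAut.conj g).toMonoidHom :=
    ⟨hgx, Subgroup.mem_map.2 ⟨x, hx, rfl⟩⟩
  rw [h.ti g hg, Subgroup.mem_bot, conj_eq_one_iff] at hm
  exact hx1 hm

theorem Ctx.inv_in_K (h : Ctx t s K) {x : G} (hx : x ∈ K) (h2 : x * x = 1) : x = 1 ∨ x = t := by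
  have hx' : x ∈ K ⊓ Subgroup.centralizer ({s} : Set G) := by
    refine ⟨hx, Subgroup.mem_centralizer_singleton_iff.2 ?_⟩
    have := h.sxs hx
    rw [inv_eq_of_mul_eq_one_right h2] at this
    calc x * s = (s * x * s) * s := by rw [this]
      _ = s * x := by simp [mul_assoc, h.s_sq]
  rw [h.fixK, Subgroup.mem_zpowers_iff] at hx'
  obtain ⟨i, rfl⟩ := hx'
  rcases Int.emod_two_eq_zero_or_one i with hi | hi
  · left
    rw [← zpow_mod_orderOf, h.t2]; simp [hi]
  · right
    rw [← zpow_mod_orderOf, h.t2]; simp [hi]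

theorem Ctx.cent_eq (h : Ctx t s K) {x : G} (hx : x ∈ K) (hx1 : x ≠ 1) (hxt : x ≠ t) :
    Subgroup.centralizer ({x} : Set G) = K := by
  refine le_antisymm (fun g hg => ?_) fun g hg =>
    Subgroup.mem_centralizer_singleton_iff.2 (h.comm g hg x hx)
  have hgx : g * x * g⁻¹ = x := by
    rw [Subgroup.mem_centralizer_singleton_iff.1 hg, mul_inv_cancel_right]
  have hgH := h.mem_of_conj hx hx1 (by rw [hgx]; exact hx)
  by_contra hgK
  have h2 := h.out_inv hgH hgK hx
  rw [hgx] at h2
  rcases h.inv_in_K hx (by nth_rewrite 2 [h2]; exact mul_inv_cancel x) with e | e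
  · exact hx1 e
  · exact hxt e

theorem Ctx.isConj_iff_order (h : Ctx t s K) {g : G} : IsConj t g ↔ orderOf g = 2 := by
  constructor
  · intro hg
    obtain ⟨c, rfl⟩ := isConj_iff.1 hg
    rw [← MulAut.conj_apply, MulEquiv.orderOf_eq, h.t2]
  · exact fun hg => h.conj _ _ h.t2 hg

theorem Ctx.card_H (h : Ctx t s K) [Finite G] :
    Nat.card (Subgroup.centralizer ({t} : Set G)) = 2 * Nat.card K := by
  have e : (↥K ⊕ ↥K) ≃ ↥(Subgroup.centralizer ({t} : Set G)) := Equiv.ofBijective
    (fun z => Sum.elim (fun x : K => (⟨(x : G), h.kle x.2⟩ : ↥(Subgroup.centralizer ({t} : Set G))))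
      (fun x : K => ⟨s * x, h.sK_mem x.2⟩) z) ⟨by
        rintro (⟨a, ha⟩ | ⟨a, ha⟩) (⟨b, hb⟩ | ⟨b, hb⟩) e <;>
          simp only [Sum.elim_inl, Sum.elim_inr, Subtype.mk.injEq] at e
        · simp [e]
        · exact absurd (e ▸ ha) (h.sK_not_mem hb)
        · exact absurd (e.symm ▸ hb) (h.sK_not_mem ha)
        · simp [mul_left_cancel e], fun g => by
        rcases h.mem_or g.2 with hg | hg
        · exact ⟨Sum.inl ⟨g, hg⟩, Subtype.ext rfl⟩
        · refine ⟨Sum.inr ⟨s * g, hg⟩, Subtype.ext ?_⟩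
          show s * (s * (g : G)) = g
          rw [← mul_assoc, h.s_sq, one_mul]⟩
  rw [← Nat.card_congr e, Nat.card_sum]
  ring

theorem Ctx.even_card (h : Ctx t s K) : 2 ∣ Nat.card K :=
  h.t2 ▸ Subgroup.orderOf_dvd_natCard K h.tK

theorem Ctx.card_eq (h : Ctx t s K) [Finite G] :
    Nat.card G = (Subgroup.centralizer ({t} : Set G)).index * (2 * Nat.card K) := by
  rw [← h.card_H, Subgroup.index_mul_card]

theorem Ctx.card_invol (h : Ctx t s K) [Finite G] :
    Nat.card {g : G // IsConj t g} = (Subgroup.centralizer ({t} : Set G)).index := by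
  have h1 : Nat.card {g : G // IsConj t g} = (MulAction.orbit (ConjAct G) t).ncard := by
    rw [← Nat.card_coe_set_eq]
    exact Nat.card_congr (Equiv.subtypeEquivRight fun g => by
      rw [ConjAct.mem_orbit_conjAct]; exact ⟨IsConj.symm, IsConj.symm⟩)
  rw [h1, ← MulAction.index_stabilizer, Subgroup.centralizer_eq_comap_stabilizer]
  exact (Subgroup.index_comap_of_surjective _ ConjAct.toConjAct.surjective).symm

/-- The involutions of the centralizer are `t` and the elements outside `K`. -/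
theorem Ctx.invol_in_H (h : Ctx t s K) {g : G} (hg : g ∈ Subgroup.centralizer ({t} : Set G)) :
    IsConj t g ↔ g = t ∨ g ∉ K := by
  rw [h.isConj_iff_order]
  constructor
  · intro hg2
    by_cases hgK : g ∈ K
    · refine Or.inl ((h.inv_in_K hgK ?_).resolve_left fun e => by simp [e] at hg2)
      rw [← sq, ← hg2, pow_orderOf_eq_one]
    · exact Or.inr hgK
  · rintro (rfl | hgK)
    · exact h.t2
    · exact h.out_order hg hgK

theorem Ctx.index_odd (h : Ctx t s K) [Finite G] :
    Odd (Subgroup.centralizer ({t} : Set G)).index := by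
  have := Fintype.ofFinite G
  rw [← h.card_invol, Nat.card_eq_fintype_card]
  haveI : Fact (Nat.Prime 2) := ⟨Nat.prime_two⟩
  let σ : Equiv.Perm {g : G // IsConj t g} :=
    { toFun := fun g => ⟨t * g * t⁻¹, g.2.trans (isConj_iff.2 ⟨t, rfl⟩)⟩
      invFun := fun g => ⟨t * g * t⁻¹, g.2.trans (isConj_iff.2 ⟨t, rfl⟩)⟩
      left_inv := fun g => Subtype.ext (by
        show t * (t * (g : G) * t⁻¹) * t⁻¹ = g
        rw [h.t_inv]; simp [mul_assoc, h.t_sq, ← mul_assoc t t])
      right_inv := fun g => Subtype.ext (by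
        show t * (t * (g : G) * t⁻¹) * t⁻¹ = g
        rw [h.t_inv]; simp [mul_assoc, h.t_sq, ← mul_assoc t t]) }
  let f : Function.End {g : G // IsConj t g} := ⇑σ
  have hσ : f ^ 2 ^ 1 = 1 := funext fun g => σ.left_inv g
  have key : Fintype.card {g : G // IsConj t g} ≡ Fintype.card (Function.fixedPoints σ) [MOD 2] :=
    Equiv.Perm.card_fixedPoints_modEq (p := 2) (n := 1) hσ
  have hfix : Fintype.card (Function.fixedPoints σ) = 1 + Nat.card K := by
    rw [← Nat.card_eq_fintype_card]
    have e : Function.fixedPoints σ ≃ Option ↥K := (Equiv.ofBijective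
      (fun o : Option ↥K => (Option.elim o
        (⟨⟨t, IsConj.refl t⟩, Subtype.ext (by
          show t * t * t⁻¹ = t
          rw [mul_inv_cancel_right])⟩ : Function.fixedPoints σ)
        (fun x => ⟨⟨s * x, (h.invol_in_H (h.sK_mem x.2)).2 (Or.inr (h.sK_not_mem x.2))⟩,
          Subtype.ext (by
            show t * (s * (x : G)) * t⁻¹ = s * x
            rw [← Subgroup.mem_centralizer_singleton_iff.1 (h.sK_mem x.2), mul_inv_cancel_right])⟩)))
      ⟨by
        rintro (_ | a) (_ | b) e
        · rfl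
        · have e' : t = s * b :=
            congrArg (fun z : Function.fixedPoints σ => ((z : {g : G // IsConj t g}) : G)) e
          exact absurd h.tK (e'.symm ▸ h.sK_not_mem b.2)
        · have e' : s * a = t :=
            congrArg (fun z : Function.fixedPoints σ => ((z : {g : G // IsConj t g}) : G)) e
          exact absurd h.tK (e' ▸ h.sK_not_mem a.2)
        · have e' : s * (a : G) = s * b :=
            congrArg (fun z : Function.fixedPoints σ => ((z : {g : G // IsConj t g}) : G)) e
          rw [Subtype.ext (mul_left_cancel e')], by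
        rintro ⟨⟨g, hg⟩, hfix⟩
        have hgH : g ∈ Subgroup.centralizer ({t} : Set G) := by
          have e : t * g * t⁻¹ = g := congrArg Subtype.val hfix
          rw [mul_inv_eq_iff_eq_mul] at e
          exact Subgroup.mem_centralizer_singleton_iff.2 e.symm
        rcases (h.invol_in_H hgH).1 hg with e | hgK
        · exact ⟨none, Subtype.ext (Subtype.ext e.symm)⟩
        · refine ⟨some ⟨s * g, (h.mem_or hgH).resolve_left hgK⟩, Subtype.ext (Subtype.ext ?_)⟩
          show s * (s * g) = g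
          rw [← mul_assoc, h.s_sq, one_mul]⟩).symm
    rw [Nat.card_congr e, Finite.card_option, add_comm]
  rw [hfix] at key
  obtain ⟨k', hk'⟩ := h.even_card
  unfold Nat.ModEq at key
  rw [Nat.odd_iff, key]
  omega

end Cfsg.Agent.Char.BSW
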