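import Cfsg.Agent.Lib.Char.BSW.Count

/-!
# The constituents of the induced generalized characters
-/

set_option autoImplicit false
set_option linter.unusedSectionVars false
set_option linter.unusedVariables false
set_option linter.style.haveILetI false

namespace Cfsg.Agent.Char.BSW

open Cfsg
open scoped ComplexConjugate Classical

variable {G : Type*} [Group G] [Fintype G] {t s : G} {K : Subgroup G}

theorem exists_eta (h : Ctx t s K) :
    ∃ e : ↥K →* ℂˣ, e ≠ 1 ∧ e⁻¹ = e ∧ ∀ l : ↥K →* ℂˣ, l⁻¹ = l → l = 1 ∨ l = e := by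
  letI : CommGroup ↥K :=
    { (inferInstance : Group ↥K) with mul_comm := fun a b => Subtype.ext (h.comm a a.2 b b.2) }
  obtain ⟨f⟩ := CommGroup.monoidHom_mulEquiv_of_hasEnoughRootsOfUnity (↥K) ℂ
  refine ⟨f.symm ⟨t, h.tK⟩, fun e => ?_, ?_, fun l hl => ?_⟩
  · have := congrArg f e
    rw [MulEquiv.apply_symm_apply, map_one] at this
    exact h.t_ne (congrArg Subtype.val this)
  · exact (map_inv f.symm _).symm.trans (congrArg f.symm (Subtype.ext h.t_inv))
  · have h1 : (f l)⁻¹ = f l := by rw [← map_inv, hl]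
    have h2 : ((f l : ↥K) : G) * (f l : ↥K) = 1 := by
      have := congrArg Subtype.val (inv_eq_iff_mul_eq_one.1 h1)
      simpa using this
    rcases h.inv_in_K (f l).2 h2 with e' | e'
    · refine Or.inl (f.injective ?_)
      rw [map_one]
      exact Subtype.ext e'
    · refine Or.inr (f.injective ?_)
      rw [MulEquiv.apply_symm_apply]
      exact Subtype.ext e'

theorem val_t_sign (h : Ctx t s K) (l : ↥K →* ℂˣ) :
    (l ⟨t, h.tK⟩ : ℂ) = 1 ∨ (l ⟨t, h.tK⟩ : ℂ) = -1 := by
  have h1 : (⟨t, h.tK⟩ : ↥K) * ⟨t, h.tK⟩ = 1 := Subtype.ext h.t_sq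
  have h2 := congrArg (fun y => ((l y : ℂˣ) : ℂ)) h1
  simp only [map_mul, map_one, Units.val_mul, Units.val_one] at h2
  exact mul_self_eq_one_iff.1 h2

/-- The non-real linear characters of `K`. -/
noncomputable def nonReal (K : Subgroup G) : Finset (↥K →* ℂˣ) :=
  Finset.univ.filter fun l => l ≠ 1 ∧ l⁻¹ ≠ l

theorem mem_nonReal {l : ↥K →* ℂˣ} : l ∈ nonReal K ↔ l ≠ 1 ∧ l⁻¹ ≠ l := by simp [nonReal]

theorem inv_mem_nonReal {l : ↥K →* ℂˣ} (hl : l ∈ nonReal K) : l⁻¹ ∈ nonReal K := by
  rw [mem_nonReal] at hl ⊢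
  have hii : (l⁻¹)⁻¹ = l := MonoidHom.ext fun y => by simp
  refine ⟨fun e => hl.1 (MonoidHom.ext fun y => ?_), fun e => hl.2 (by rw [hii] at e; exact e.symm)⟩
  have := DFunLike.congr_fun e y
  simp only [MonoidHom.inv_apply, MonoidHom.one_apply] at this
  rw [MonoidHom.one_apply]
  exact inv_eq_one.1 this

/-- The configuration of constituents. -/
structure Star (K : Subgroup G) (e : ↥K →* ℂˣ) (X Z W : IrrCharacter G) (a ez ew : ℤ)
    (Y : (↥K →* ℂˣ) → IrrCharacter G) (b : (↥K →* ℂˣ) → ℤ) : Prop where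
  e_ne : e ≠ 1
  e_inv : e⁻¹ = e
  e_uniq : ∀ l : ↥K →* ℂˣ, l⁻¹ = l → l = 1 ∨ l = e
  ha : a = 1 ∨ a = -1
  hez : ez = 1 ∨ ez = -1
  hew : ew = 1 ∨ ew = -1
  hb : ∀ l ∈ nonReal K, b l = 1 ∨ b l = -1
  X_one : X ≠ oneC
  Z_one : Z ≠ oneC
  W_one : W ≠ oneC
  XZ : X ≠ Z
  XW : X ≠ W
  ZW : Z ≠ W
  Y_ne : ∀ l ∈ nonReal K, Y l ≠ oneC ∧ Y l ≠ X ∧ Y l ≠ Z ∧ Y l ≠ W
  Y_inj : ∀ l ∈ nonReal K, ∀ l' ∈ nonReal K, Y l = Y l' → l' = l ∨ l' = l⁻¹
  coef_e : ∀ χ, coef e χ = (if χ = oneC then 1 else 0) + (if χ = X then a else 0) +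
    (if χ = Z then ez else 0) + (if χ = W then ew else 0)
  coef_l : ∀ l ∈ nonReal K, ∀ χ, coef l χ = (if χ = oneC then 1 else 0) + (if χ = X then a else 0) +
    (if χ = Y l then b l else 0)

theorem int_sq_sum_small {ι : Type*} (c : ι → ℤ) (S : Finset ι) (hS : ∀ i ∈ S, c i ≠ 0)
    (hsum : ∑ i ∈ S, c i * c i ≤ 3) :
    (∀ i ∈ S, c i = 1 ∨ c i = -1) ∧ (S.card : ℤ) = ∑ i ∈ S, c i * c i := by
  have h1 : ∀ i ∈ S, c i = 1 ∨ c i = -1 := by
    intro i hi
    have hle : c i * c i ≤ 3 :=
      le_trans (Finset.single_le_sum (f := fun j => c j * c j) (fun j _ => mul_self_nonneg _) hi) hsum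
    have : c i ≤ 1 ∧ -1 ≤ c i := by constructor <;> nlinarith
    have := hS i hi
    omega
  refine ⟨h1, ?_⟩
  rw [Finset.sum_congr rfl (g := fun _ => (1 : ℤ)) fun i hi => by rcases h1 i hi with e | e <;> simp [e]]
  simp

/-- The constituents other than the trivial character. -/
noncomputable def others (l : ↥K →* ℂˣ) : Finset (IrrCharacter G) :=
  Finset.univ.filter fun χ => coef l χ ≠ 0 ∧ χ ≠ oneC

theorem others_sum (l l' : ↥K →* ℂˣ) (hl : l ≠ 1) (hl' : l' ≠ 1) :
    ∑ χ ∈ others (G := G) l, coef l χ * coef l' χ =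
      (∑ χ : IrrCharacter G, coef l χ * coef l' χ) - 1 := by
  rw [others, Finset.sum_filter]
  have e : ∀ χ : IrrCharacter G, (if coef l χ ≠ 0 ∧ χ ≠ oneC then coef l χ * coef l' χ else 0) =
      coef l χ * coef l' χ - (if χ = oneC then 1 else 0) := by
    intro χ
    by_cases hχ : χ = oneC
    · subst hχ
      simp [coef_trivial hl, coef_trivial hl']
    · by_cases hc : coef l χ = 0 <;> simp [hc, hχ]
  rw [Finset.sum_congr rfl fun χ _ => e χ, Finset.sum_sub_distrib]
  simp

theorem others_data (h : Ctx t s K) {l : ↥K →* ℂˣ} (hl : l ≠ 1) :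
    (∀ χ ∈ others (G := G) l, coef l χ = 1 ∨ coef l χ = -1) ∧
      ((others (G := G) l).card : ℤ) = 2 + (if l = l⁻¹ then 1 else 0) ∧
      ∀ χ, coef l χ ≠ 0 → χ = oneC ∨ χ ∈ others l := by
  have h1 := others_sum (G := G) l l hl hl
  rw [coef_inner h l l hl hl, if_pos rfl] at h1
  have h2 := int_sq_sum_small (coef l) (others l) (fun χ hχ => (Finset.mem_filter.1 hχ).2.1)
    (by rw [h1]; split_ifs <;> omega)
  refine ⟨h2.1, by rw [h2.2, h1]; ring, fun χ hχ => ?_⟩
  by_cases h3 : χ = oneC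
  · exact Or.inl h3
  · exact Or.inr (by simp [others, hχ, h3])

/-- The common constituent of a pair with a set meeting it with sum one. -/
theorem share {ι : Type*} [DecidableEq ι] {c d : ι → ℤ} {S : Finset ι} (hS : S.card = 2)
    (hc : ∀ i ∈ S, c i = 1 ∨ c i = -1) (hd : ∀ i ∈ S, d i = 1 ∨ d i = -1 ∨ d i = 0)
    (hsum : ∑ i ∈ S, c i * d i = 1) :
    ∃ x y, x ≠ y ∧ S = {x, y} ∧ d x = c x ∧ d y = 0 := by
  obtain ⟨x, y, hxy, rfl⟩ := Finset.card_eq_two.1 hS
  rw [Finset.sum_pair hxy] at hsum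
  have cx := hc x (by simp)
  have cy := hc y (by simp)
  have dx := hd x (by simp)
  have dy := hd y (by simp)
  by_cases hy : d y = 0
  · refine ⟨x, y, hxy, rfl, ?_, hy⟩
    rcases cx with e | e <;> rw [e, hy] at hsum <;> rw [e] <;> omega
  · refine ⟨y, x, hxy.symm, Finset.pair_comm x y, ?_, ?_⟩ <;>
      rcases cx with e1 | e1 <;> rcases cy with e2 | e2 <;> rcases dx with e3 | e3 | e3 <;>
        rcases dy with e4 | e4 | e4 <;> rw [e1, e2, e3, e4] at hsum <;>
        first | omega | (rw [e2, e4]) | exact e3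

theorem coef_cases (h : Ctx t s K) {l : ↥K →* ℂˣ} (hl : l ≠ 1) {χ : IrrCharacter G}
    (hχ : χ ≠ oneC) : coef l χ = 1 ∨ coef l χ = -1 ∨ coef l χ = 0 := by
  by_cases h0 : coef l χ = 0
  · exact Or.inr (Or.inr h0)
  · rcases (others_data h hl).1 χ (by simp [others, h0, hχ]) with e | e <;> tauto

/-- The degree relation. -/
theorem coef_degree (l : ↥K →* ℂˣ) :
    ∑ χ : IrrCharacter G, coef l χ * (deg (χ : G → ℂ) : ℤ) = 0 := by
  have h1 := phi_one (G := G) l
  rw [phi_expand l] at h1
  simp only [Finset.sum_apply, Pi.smul_apply, smul_eq_mul] at h1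
  rw [Finset.sum_congr rfl (g := fun χ : IrrCharacter G => ((coef l χ * (deg (χ : G → ℂ) : ℤ) : ℤ) : ℂ))
    fun χ _ => by rw [char_one_eq_deg (irr_isCharacter χ.2)]; push_cast; ring, ← Int.cast_sum] at h1
  exact_mod_cast h1

theorem sum_ite3 {ι R : Type*} [Fintype ι] [DecidableEq ι] [Semiring R] (p q r : ι) (u v w : R)
    (F : ι → R) :
    ∑ i, ((if i = p then u else 0) + (if i = q then v else 0) + (if i = r then w else 0)) * F i =
      u * F p + v * F q + w * F r := by
  simp [add_mul, Finset.sum_add_distrib, ite_mul]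

theorem coef_e_form (h : Ctx t s K) {e : ↥K →* ℂˣ} (he1 : e ≠ 1) (hei : e⁻¹ = e)
    {X : IrrCharacter G} (hX : X ∈ others e) :
    ∃ Z W : IrrCharacter G, X ≠ Z ∧ X ≠ W ∧ Z ≠ W ∧ Z ∈ others e ∧ W ∈ others e ∧
      (others (G := G) e) = {X, Z, W} := by
  obtain ⟨-, hcard, -⟩ := others_data (G := G) h he1
  rw [if_pos hei.symm] at hcard
  have h3 : ((others (G := G) e).erase X).card = 2 := by
    rw [Finset.card_erase_of_mem hX]; omega
  obtain ⟨Z, W, hZW, hset⟩ := Finset.card_eq_two.1 h3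
  have hZ : Z ∈ (others (G := G) e).erase X := by rw [hset]; simp
  have hW : W ∈ (others (G := G) e).erase X := by rw [hset]; simp
  refine ⟨Z, W, (Finset.ne_of_mem_erase hZ).symm, (Finset.ne_of_mem_erase hW).symm, hZW,
    Finset.mem_of_mem_erase hZ, Finset.mem_of_mem_erase hW, ?_⟩
  rw [← hset, Finset.insert_erase hX]

theorem exists_star (h : Ctx t s K) (hk : 4 ≤ Nat.card K) :
    ∃ (e : ↥K →* ℂˣ) (X Z W : IrrCharacter G) (a ez ew : ℤ)
      (Y : (↥K →* ℂˣ) → IrrCharacter G) (b : (↥K →* ℂˣ) → ℤ),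
      Star K e X Z W a ez ew Y b := by
  obtain ⟨e, he1, hei, heu⟩ := exists_eta h
  have hne : (nonReal K).Nonempty := by
    have h1 : ({1, e} : Finset (↥K →* ℂˣ)).card < (Finset.univ : Finset (↥K →* ℂˣ)).card := by
      rw [Finset.card_univ, ← Nat.card_eq_fintype_card, card_dual h]
      exact lt_of_le_of_lt Finset.card_le_two (by omega)
    obtain ⟨l, -, hl⟩ := Finset.exists_mem_notMem_of_card_lt_card h1
    simp only [Finset.mem_insert, Finset.mem_singleton, not_or] at hl
    exact ⟨l, mem_nonReal.2 ⟨hl.1, fun e' => (heu l e').elim hl.1 hl.2⟩⟩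
  obtain ⟨hTval, hTcard, hTmem⟩ := others_data (G := G) h he1
  rw [if_pos hei.symm] at hTcard
  have hpick : ∀ l : ↥K →* ℂˣ, l ∈ nonReal K → ∃ Xl Yl : IrrCharacter G, Xl ≠ Yl ∧
      others l = {Xl, Yl} ∧ coef e Xl = coef l Xl ∧ coef e Yl = 0 := by
    intro l hl
    rw [mem_nonReal] at hl
    obtain ⟨h1, h2, -⟩ := others_data (G := G) h hl.1
    rw [if_neg (Ne.symm hl.2)] at h2
    have hle : l ≠ e := fun e' => hl.2 (by rw [e', hei])
    refine share (by omega) h1 (fun χ hχ => coef_cases h he1 (Finset.mem_filter.1 hχ).2.2) ?_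
    rw [others_sum l e hl.1 he1, coef_inner h l e hl.1 he1, if_neg hle,
      if_neg (by rw [hei]; exact hle)]
    norm_num
  have hall : ∀ l : ↥K →* ℂˣ, ∃ Xl Yl : IrrCharacter G, l ∈ nonReal K → Xl ≠ Yl ∧
      others l = {Xl, Yl} ∧ coef e Xl = coef l Xl ∧ coef e Yl = 0 := by
    intro l
    by_cases hl : l ∈ nonReal K
    · obtain ⟨x, y, hxy⟩ := hpick l hl
      exact ⟨x, y, fun _ => hxy⟩
    · exact ⟨oneC, oneC, fun h' => absurd h' hl⟩
  choose X' Y' hXY using hall
  have hmX : ∀ l ∈ nonReal K, X' l ∈ others l := fun l hl => by rw [(hXY l hl).2.1]; simp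
  have hmY : ∀ l ∈ nonReal K, Y' l ∈ others l := fun l hl => by rw [(hXY l hl).2.1]; simp
  have hone : ∀ (l : ↥K →* ℂˣ) (χ : IrrCharacter G), χ ∈ others l → coef l χ ≠ 0 ∧ χ ≠ oneC :=
    fun l χ hχ => (Finset.mem_filter.1 hχ).2
  have hcXe : ∀ l ∈ nonReal K, X' l ∈ others e := fun l hl => by
    have := hone l _ (hmX l hl)
    simp only [others, Finset.mem_filter, Finset.mem_univ, true_and]
    exact ⟨by rw [(hXY l hl).2.2.1]; exact this.1, this.2⟩
  have hzero : ∀ l ∈ nonReal K, ∀ χ, χ ≠ oneC → χ ≠ X' l → χ ≠ Y' l → coef l χ = 0 := by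
    intro l hl χ h1 h2 h3
    by_contra h4
    rcases (others_data h (mem_nonReal.1 hl).1).2.2 χ h4 with e' | e'
    · exact h1 e'
    · rw [(hXY l hl).2.1] at e'
      simp [h2, h3] at e'
  have hsame : ∀ l ∈ nonReal K, ∀ l' : ↥K →* ℂˣ, l' = l ∨ l' = l⁻¹ → X' l' = X' l ∧ Y' l' = Y' l := by
    intro l hl l' hl'
    rcases hl' with rfl | rfl
    · exact ⟨rfl, rfl⟩
    · have hl2 := inv_mem_nonReal hl
      have eo : others (G := G) l⁻¹ = others l := by
        ext χ; simp [others, coef_sym h]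
      have hx : X' l⁻¹ ∈ others (G := G) l := eo ▸ hmX _ hl2
      have hy : Y' l⁻¹ ∈ others (G := G) l := eo ▸ hmY _ hl2
      rw [(hXY l hl).2.1, Finset.mem_insert, Finset.mem_singleton] at hx hy
      have hxe := (hone e _ (hcXe _ hl2)).1
      have hye := (hXY _ hl2).2.2.2
      constructor
      · exact hx.resolve_right fun e' => hxe (by rw [e']; exact (hXY l hl).2.2.2)
      · exact hy.resolve_left fun e' => (hone e _ (hcXe l hl)).1 (by rw [← e']; exact hye)
  have hdich : ∀ l ∈ nonReal K, ∀ l' ∈ nonReal K, l' ≠ l → l' ≠ l⁻¹ →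
      (X' l = X' l' ∧ Y' l ≠ Y' l') ∨
      (X' l ≠ X' l' ∧ Y' l = Y' l' ∧ coef l (Y' l) = coef l' (Y' l)) := by
    intro l hl l' hl' hne1 hne2
    obtain ⟨h1, h2, -⟩ := others_data (G := G) h (mem_nonReal.1 hl).1
    rw [if_neg (Ne.symm (mem_nonReal.1 hl).2)] at h2
    obtain ⟨x, y, hxy, hS, hdx, hdy⟩ := share (c := coef l) (d := coef l') (S := others l) (by omega) h1
      (fun χ hχ => coef_cases h (mem_nonReal.1 hl').1 (hone l χ hχ).2) (by
        rw [others_sum l l' (mem_nonReal.1 hl).1 (mem_nonReal.1 hl').1,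
          coef_inner h l l' (mem_nonReal.1 hl).1 (mem_nonReal.1 hl').1, if_neg (Ne.symm hne1), if_neg]
        · norm_num
        · intro e'
          exact hne2 (by rw [e']; exact MonoidHom.ext fun y => by simp))
    have hxm : x ∈ others (G := G) l := by rw [hS]; simp
    have hx' : x = X' l' ∨ x = Y' l' := by
      by_contra hc
      rw [not_or] at hc
      exact (hone l x hxm).1 (by rw [← hdx]; exact hzero l' hl' x (hone l x hxm).2 hc.1 hc.2)
    have hset := (hXY l hl).2.1
    rw [hS] at hset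
    have hxl : x = X' l ∨ x = Y' l := by
      have : x ∈ ({x, y} : Finset (IrrCharacter G)) := by simp
      rw [hset] at this; simpa using this
    have hyl : y = X' l ∨ y = Y' l := by
      have : y ∈ ({x, y} : Finset (IrrCharacter G)) := by simp
      rw [hset] at this; simpa using this
    rcases hxl with e1 | e1
    · left
      rcases hx' with e2 | e2
      · refine ⟨e1.symm.trans e2, fun e3 => ?_⟩
        have e4 : y = Y' l := hyl.resolve_left fun e' => hxy (e1.trans e'.symm)
        exact (hone l' _ (hmY l' hl')).1 (by rw [← e3, ← e4]; exact hdy)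
      · exact absurd (by rw [← e2, e1]; exact (hone e _ (hcXe l hl)).1) (not_not.2 (hXY l' hl').2.2.2)
    · right
      rcases hx' with e2 | e2
      · exact absurd (by rw [← e1, e2]; exact (hone e _ (hcXe l' hl')).1) (not_not.2 (hXY l hl).2.2.2)
      · refine ⟨fun e3 => ?_, e1.symm.trans e2, by rw [← e1]; exact hdx.symm⟩
        have e4 : y = X' l := hyl.resolve_right fun e' => hxy (e1.trans e'.symm)
        exact (hone l' _ (hmX l' hl')).1 (by rw [← e3, ← e4]; exact hdy)
  -- all the nonreal characters share their constituent in `others e`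
  have hstar : ∀ l ∈ nonReal K, ∀ m ∈ nonReal K, X' l = X' m := by
    by_contra hcon
    push Not at hcon
    obtain ⟨l, hl, m, hm, hne0⟩ := hcon
    have hne1 : m ≠ l := fun e' => hne0 (by rw [e'])
    have hne2 : m ≠ l⁻¹ := fun e' => hne0 (hsame l hl m (Or.inr e')).1.symm
    obtain ⟨-, hYlm, hbeq⟩ := (hdich l hl m hm hne1 hne2).resolve_left fun e' => hne0 e'.1
    have hdeg : ∀ ν ∈ nonReal K, 1 + coef e (X' ν) * (deg (X' ν : G → ℂ) : ℤ) +
        coef ν (Y' ν) * (deg (Y' ν : G → ℂ) : ℤ) = 0 := by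
      intro ν hν
      have h1 := coef_degree (G := G) ν
      have hx := hone ν _ (hmX ν hν)
      have hy := hone ν _ (hmY ν hν)
      have hform : ∀ χ : IrrCharacter G, coef ν χ = (if χ = oneC then 1 else 0) +
          (if χ = X' ν then coef e (X' ν) else 0) + (if χ = Y' ν then coef ν (Y' ν) else 0) := by
        intro χ
        by_cases a1 : χ = oneC
        · subst a1; simp [coef_trivial (mem_nonReal.1 hν).1, Ne.symm hx.2, Ne.symm hy.2]
        · by_cases a2 : χ = X' ν
          · subst a2; simp [a1, (hXY ν hν).1, (hXY ν hν).2.2.1]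
          · by_cases a3 : χ = Y' ν
            · subst a3; simp [a1, a2]
            · simp [a1, a2, a3, hzero ν hν χ a1 a2 a3]
      rw [Finset.sum_congr rfl fun χ _ => by rw [hform χ], sum_ite3] at h1
      have hd1 : deg ((oneC : IrrCharacter G) : G → ℂ) = 1 := by
        have := char_one_eq_deg (irr_isCharacter (oneC : IrrCharacter G).2)
        simp only [oneC] at this ⊢
        exact_mod_cast this.symm
      rw [hd1] at h1
      simpa using h1
    by_cases hthird : ∃ ν ∈ nonReal K, ν ≠ l ∧ ν ≠ l⁻¹ ∧ ν ≠ m ∧ ν ≠ m⁻¹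
    · obtain ⟨ν, hν, n1, n2, n3, n4⟩ := hthird
      have hνl : X' l ≠ X' ν ∧ Y' l = Y' ν ∧ coef l (Y' l) = coef ν (Y' l) := by
        refine (hdich l hl ν hν n1 n2).resolve_left fun e' => ?_
        rcases hdich m hm ν hν n3 n4 with e'' | e''
        · exact hne0 (e'.1.trans e''.1.symm)
        · exact e'.2 (hYlm.trans e''.2.1)
      have hνm : X' m ≠ X' ν := by
        rcases hdich m hm ν hν n3 n4 with e'' | e''
        · exact absurd (hYlm.symm.trans hνl.2.1) e''.2
        · exact e''.1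
      obtain ⟨Z, W, xz, xw, zw, hZ, hW, hset⟩ := coef_e_form h he1 hei (hcXe l hl)
      have hin : ({X' l, X' m, X' ν} : Finset (IrrCharacter G)) = others e := by
        refine Finset.eq_of_subset_of_card_le ?_ ?_
        · intro χ hχ
          simp only [Finset.mem_insert, Finset.mem_singleton] at hχ
          rcases hχ with rfl | rfl | rfl
          · exact hcXe l hl
          · exact hcXe m hm
          · exact hcXe ν hν
        · rw [Finset.card_insert_of_notMem (by simp [hne0, hνl.1]), Finset.card_pair hνm]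
          omega
      have h0 := coef_degree (G := G) e
      have h0' : ∑ χ ∈ others (G := G) e, coef e χ * (deg (χ : G → ℂ) : ℤ) = -1 := by
        rw [others, Finset.sum_filter]
        have hterm : ∀ χ : IrrCharacter G,
            (if coef e χ ≠ 0 ∧ χ ≠ oneC then coef e χ * (deg (χ : G → ℂ) : ℤ) else 0) =
              coef e χ * (deg (χ : G → ℂ) : ℤ) -
                (if χ = oneC then coef e χ * (deg (χ : G → ℂ) : ℤ) else 0) := by
          intro χ
          by_cases a1 : χ = oneC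
          · simp [a1]
          · by_cases a2 : coef e χ = 0 <;> simp [a1, a2]
        rw [Finset.sum_congr rfl fun χ _ => hterm χ, Finset.sum_sub_distrib, h0,
          Finset.sum_ite_eq' Finset.univ oneC, if_pos (Finset.mem_univ _), coef_trivial he1]
        have hd1 : deg ((oneC : IrrCharacter G) : G → ℂ) = 1 := by
          have := char_one_eq_deg (irr_isCharacter (oneC : IrrCharacter G).2)
          simp only [oneC] at this ⊢
          exact_mod_cast this.symm
        rw [hd1]
        norm_num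
      rw [← hin, Finset.sum_insert (by simp [hne0, hνl.1]), Finset.sum_pair hνm] at h0'
      have dl := hdeg l hl
      have dm := hdeg m hm
      have dn := hdeg ν hν
      rw [← hYlm, ← hbeq] at dm
      rw [← hνl.2.1, ← hνl.2.2] at dn
      omega
    · push Not at hthird
      have hset4 : ∀ ν : ↥K →* ℂˣ, ν = 1 ∨ ν = e ∨ (ν = l ∨ ν = l⁻¹) ∨ (ν = m ∨ ν = m⁻¹) := by
        intro ν
        by_cases hν : ν ∈ nonReal K
        · by_cases a1 : ν = l
          · exact Or.inr (Or.inr (Or.inl (Or.inl a1)))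
          · by_cases a2 : ν = l⁻¹
            · exact Or.inr (Or.inr (Or.inl (Or.inr a2)))
            · by_cases a3 : ν = m
              · exact Or.inr (Or.inr (Or.inr (Or.inl a3)))
              · exact Or.inr (Or.inr (Or.inr (Or.inr (hthird ν hν a1 a2 a3))))
        · rw [mem_nonReal, not_and_or, not_not, not_not] at hν
          rcases hν with a1 | a1
          · exact Or.inl a1
          · exact (heu ν a1).imp id Or.inl
      have hl1 := mem_nonReal.1 hl
      have hm1 := mem_nonReal.1 hm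
      have hle : l ≠ e := fun e' => hl1.2 (by rw [e', hei])
      have hme : m ≠ e := fun e' => hm1.2 (by rw [e', hei])
      have hmi : m⁻¹ ∈ nonReal K := inv_mem_nonReal hm
      have hli : l⁻¹ ∈ nonReal K := inv_mem_nonReal hl
      have hme' : m⁻¹ ≠ e := fun e' => (mem_nonReal.1 hmi).2 (by rw [e', hei])
      have hle' : l⁻¹ ≠ e := fun e' => (mem_nonReal.1 hli).2 (by rw [e', hei])
      have hmm : m⁻¹ ≠ m := hm1.2
      have hml : m⁻¹ ≠ l := fun e' => hne2 (by rw [← e']; exact MonoidHom.ext fun y => by simp)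
      have hmli : m⁻¹ ≠ l⁻¹ := fun e' => hne1 (inv_injective e')
      have huniv : (Finset.univ : Finset (↥K →* ℂˣ)) = {1, e, l, l⁻¹, m, m⁻¹} := by
        ext ν
        simp only [Finset.mem_univ, Finset.mem_insert, Finset.mem_singleton, true_iff]
        rcases hset4 ν with a1 | a1 | (a1 | a1) | (a1 | a1) <;> tauto
      have hsum : ∀ F : (↥K →* ℂˣ) → ℂ, ∑ ν, F ν = F 1 + F e + F l + F l⁻¹ + F m + F m⁻¹ := by
        intro F
        rw [huniv]
        rw [Finset.sum_insert (by simp [Ne.symm he1, Ne.symm hl1.1, Ne.symm (mem_nonReal.1 hli).1,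
          Ne.symm hm1.1, Ne.symm (mem_nonReal.1 hmi).1]),
          Finset.sum_insert (by simp [Ne.symm hle, Ne.symm hle', Ne.symm hme, Ne.symm hme']),
          Finset.sum_insert (by simp [Ne.symm hl1.2, Ne.symm hne1, Ne.symm hml]),
          Finset.sum_insert (by simp [Ne.symm hne2, Ne.symm hmli]),
          Finset.sum_pair (Ne.symm hmm)]
        ring
      set T : ↥K := ⟨t, h.tK⟩ with hTdef
      have hT1 : T ≠ 1 := fun e' => h.t_ne (congrArg Subtype.val e')
      have hinvT : ∀ ν : ↥K →* ℂˣ, ((ν⁻¹ : ↥K →* ℂˣ) T : ℂ) = (ν T : ℂ) := by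
        intro ν
        rw [lin_inv, show T⁻¹ = T from Subtype.ext h.t_inv]
      have h0 := dual_sum h T
      rw [if_neg hT1, hsum, hinvT, hinvT] at h0
      simp only [MonoidHom.one_apply, Units.val_one] at h0
      have hval : ∀ χ : IrrCharacter G, (χ : G → ℂ) t =
          -((coef e χ : ℂ) * (e T : ℂ) + 2 * (coef l χ : ℂ) * (l T : ℂ) +
            2 * (coef m χ : ℂ) * (m T : ℂ)) := by
        intro χ
        have h1 := char_on h χ T
        rw [if_neg hT1, mul_zero, zero_sub, hsum, coef_sym h, coef_sym h, coef_one, hinvT, hinvT] at h1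
        rw [show (χ : G → ℂ) t = (χ : G → ℂ) (T : G) from rfl, h1]
        push_cast
        ring
      have hlmT : (m T : ℂ) = -(l T : ℂ) := by
        rcases val_t_sign h e with a1 | a1 <;> rcases val_t_sign h l with a2 | a2 <;>
          rcases val_t_sign h m with a3 | a3 <;> rw [← hTdef] at a1 a2 a3 <;>
          rw [a1, a2, a3] at h0 <;> norm_num at h0 <;> rw [a2, a3] <;> norm_num
      have hXl := hone l _ (hmX l hl)
      have hXm := hone m _ (hmX m hm)
      have hYl := hone l _ (hmY l hl)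
      have hXlYm : X' l ≠ Y' m := fun e' => (hone e _ (hcXe l hl)).1 (by rw [e']; exact (hXY m hm).2.2.2)
      have hXmYl : X' m ≠ Y' l := fun e' => (hone e _ (hcXe m hm)).1 (by rw [e']; exact (hXY l hl).2.2.2)
      have hz1 : coef m (X' l) = 0 := hzero m hm _ hXl.2 hne0 hXlYm
      have hz2 : coef l (X' m) = 0 := hzero l hl _ hXm.2 (Ne.symm hne0) hXmYl
      have hvY : (Y' l : G → ℂ) t = 0 := by
        rw [hval, (hXY l hl).2.2.2, ← hbeq, hlmT]; push_cast; ring
      have hmain : ∀ ν ∈ nonReal K, Y' ν = Y' l →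
          ((Subgroup.centralizer ({t} : Set G)).index : ℂ) *
            (1 + (coef e (X' ν) : ℂ) * wgt t (X' ν)) = 2 * (Nat.card K : ℂ) ^ 2 := by
        intro ν hν hYν
        rw [← basic_equation h (mem_nonReal.1 hν).1]
        congr 1
        have hform : ∀ χ : IrrCharacter G, (coef ν χ : ℂ) * wgt t χ =
            ((if χ = oneC then (1 : ℂ) else 0) + (if χ = X' ν then (coef e (X' ν) : ℂ) else 0) +
              (if χ = Y' ν then (coef ν (Y' ν) : ℂ) else 0)) * wgt t χ := by
          intro χ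
          congr 1
          by_cases a1 : χ = oneC
          · subst a1
            simp [coef_trivial (mem_nonReal.1 hν).1, Ne.symm (hone ν _ (hmX ν hν)).2,
              Ne.symm (hone ν _ (hmY ν hν)).2]
          · by_cases a2 : χ = X' ν
            · subst a2; simp [a1, (hXY ν hν).1, (hXY ν hν).2.2.1]
            · by_cases a3 : χ = Y' ν
              · subst a3; simp [a1, a2]
              · simp [a1, a2, a3, hzero ν hν χ a1 a2 a3]
        rw [Finset.sum_congr rfl fun χ _ => hform χ, sum_ite3, hYν]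
        simp [wgt, hvY, oneC]
      have ql := hmain l hl rfl
      have qm := hmain m hm hYlm.symm
      have hn0 : ((Subgroup.centralizer ({t} : Set G)).index : ℂ) ≠ 0 :=
        Nat.cast_ne_zero.2 Subgroup.index_ne_zero_of_finite
      have heq := mul_left_cancel₀ hn0 (ql.trans qm.symm)
      have hvl : (X' l : G → ℂ) t = -((coef e (X' l) : ℂ) * ((e T : ℂ) + 2 * (l T : ℂ))) := by
        rw [hval, hz1, ← (hXY l hl).2.2.1]; push_cast; ring
      have hvm : (X' m : G → ℂ) t = -((coef e (X' m) : ℂ) * ((e T : ℂ) + 2 * (m T : ℂ))) := by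
        rw [hval, hz2, ← (hXY m hm).2.2.1]; push_cast; ring
      have hD : coef e (X' l) * (deg (X' l : G → ℂ) : ℤ) = coef e (X' m) * (deg (X' m : G → ℂ) : ℤ) := by
        have dl := hdeg l hl
        have dm := hdeg m hm
        rw [← hYlm, ← hbeq] at dm
        omega
      have hDC : (coef e (X' l) : ℂ) * (deg (X' l : G → ℂ) : ℂ) =
          (coef e (X' m) : ℂ) * (deg (X' m : G → ℂ) : ℂ) := by exact_mod_cast hD
      have pl : (deg (X' l : G → ℂ) : ℂ) ≠ 0 := Nat.cast_ne_zero.2 (deg_pos (X' l).2).ne'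
      have pm : (deg (X' m : G → ℂ) : ℂ) ≠ 0 := Nat.cast_ne_zero.2 (deg_pos (X' m).2).ne'
      have hca : conj (e T : ℂ) = (e T : ℂ) := by
        rcases val_t_sign h e with a1 | a1 <;> rw [← hTdef] at a1 <;> simp [a1]
      have hcb : conj (l T : ℂ) = (l T : ℂ) := by
        rcases val_t_sign h l with a1 | a1 <;> rw [← hTdef] at a1 <;> simp [a1]
      rw [hlmT] at hvm
      simp only [wgt, hvl, hvm, char_one_eq_deg (irr_isCharacter (X' l).2),
        char_one_eq_deg (irr_isCharacter (X' m).2), map_neg, map_mul, map_add, map_intCast,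
        map_ofNat, hca, hcb] at heq
      field_simp at heq
      have cl : (coef e (X' l) : ℂ) ^ 2 = 1 := by
        rcases (others_data (G := G) h he1).1 _ (hcXe l hl) with c1 | c1 <;> simp [c1]
      have cm : (coef e (X' m) : ℂ) ^ 2 = 1 := by
        rcases (others_data (G := G) h he1).1 _ (hcXe m hm) with c1 | c1 <;> simp [c1]
      rw [pow_succ, cl, one_mul, pow_succ (coef e (X' m) : ℂ) 2, cm, one_mul] at heq
      have h8 : (8 : ℂ) * (e T : ℂ) * (l T : ℂ) * (deg (X' m : G → ℂ) : ℂ) = 0 := by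
        linear_combination (coef e (X' l) : ℂ) * heq +
          ((e T : ℂ) + -(2 * (l T : ℂ))) ^ 2 * (coef e (X' m) : ℂ) * hDC -
          ((e T : ℂ) + 2 * (l T : ℂ)) ^ 2 * (deg (X' m : G → ℂ) : ℂ) * cl +
          ((e T : ℂ) + -(2 * (l T : ℂ))) ^ 2 * (deg (X' m : G → ℂ) : ℂ) * cm
      simp [pm] at h8
  obtain ⟨l0, hl0⟩ := hne
  obtain ⟨Z, W, xz, xw, zw, hZ, hW, hset⟩ := coef_e_form h he1 hei (hcXe l0 hl0)
  refine ⟨e, X' l0, Z, W, coef e (X' l0), coef e Z, coef e W, Y', fun l => coef l (Y' l),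
    { e_ne := he1, e_inv := hei, e_uniq := heu
      ha := hTval _ (hcXe l0 hl0), hez := hTval _ hZ, hew := hTval _ hW
      hb := fun l hl => (others_data h (mem_nonReal.1 hl).1).1 _ (hmY l hl)
      X_one := (hone e _ (hcXe l0 hl0)).2, Z_one := (hone e _ hZ).2, W_one := (hone e _ hW).2
      XZ := xz, XW := xw, ZW := zw
      Y_ne := fun l hl => ⟨(hone l _ (hmY l hl)).2,
        fun e' => (hone e _ (hcXe l0 hl0)).1 (by rw [← e']; exact (hXY l hl).2.2.2),
        fun e' => (hone e _ hZ).1 (by rw [← e']; exact (hXY l hl).2.2.2),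
        fun e' => (hone e _ hW).1 (by rw [← e']; exact (hXY l hl).2.2.2)⟩
      Y_inj := fun l hl l' hl' e' => ?_
      coef_e := fun χ => ?_
      coef_l := fun l hl χ => ?_ }⟩
  · by_contra hc
    rw [not_or] at hc
    rcases hdich l hl l' hl' hc.1 hc.2 with a1 | a1
    · exact a1.2 e'
    · exact a1.1 (hstar l hl l' hl')
  · by_cases a1 : χ = oneC
    · subst a1
      simp [coef_trivial he1, Ne.symm (hone e _ (hcXe l0 hl0)).2, Ne.symm (hone e _ hZ).2,
        Ne.symm (hone e _ hW).2]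
    · by_cases a2 : χ = X' l0
      · subst a2; simp [a1, xz, xw]
      · by_cases a3 : χ = Z
        · subst a3; simp [a1, a2, zw]
        · by_cases a4 : χ = W
          · subst a4; simp [a1, a2, a3]
          · simp only [a1, a2, a3, a4, if_false, add_zero]
            by_contra hc
            rcases hTmem χ hc with b1 | b1
            · exact a1 b1
            · rw [hset] at b1; simp [a2, a3, a4] at b1
  · have hXl : X' l = X' l0 := hstar l hl l0 hl0
    by_cases a1 : χ = oneC
    · subst a1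
      simp [coef_trivial (mem_nonReal.1 hl).1, Ne.symm (hone e _ (hcXe l0 hl0)).2,
        Ne.symm (hone l _ (hmY l hl)).2]
    · by_cases a2 : χ = X' l0
      · subst a2
        have hxy := (hXY l hl).1
        rw [hXl] at hxy
        simp [a1, hxy]
        rw [← hXl]
        exact (hXY l hl).2.2.1.symm
      · by_cases a3 : χ = Y' l
        · subst a3; simp [a1, a2]
        · simp only [a1, a2, a3, if_false, add_zero]
          exact hzero l hl χ a1 (by rw [hXl]; exact a2) a3

end Cfsg.Agent.Char.BSW
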